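import Groth.Agent.H9PB.LangWeil.Scheme
import Groth.Agent.ZetaLib.EulerProduct
import Mathlib.Analysis.SpecificLimits.Normed

/-!
# The abscissa of the zeta function of a scheme of finite type over a finite field
-/

set_option autoImplicit false
set_option linter.style.haveILetI false
set_option linter.unusedSectionVars false

universe u

open CategoryTheory AlgebraicGeometry Filter Topology

namespace Groth.Agent.H9PB.LangWeil

open Groth.Agent Groth.Agent.ZetaLib

section Arith

variable {X : Scheme.{u}} (f : X ⟶ Spec (CommRingCat.of (ULift.{u} ℤ))) [LocallyOfFiniteType f]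
  [QuasiCompact f]

include f in
/-- There are finitely many effective zero-cycles of each norm. -/
theorem finite_cycles {R : ℕ} (hR : topologicalKrullDim X ≤ R) (n : ℕ) :
    Finite {β : ClosedPt X →₀ ℕ // mon ptNorm β = n} := by
  classical
  have hpos : ∀ x : ClosedPt X, 0 < ptNorm x := fun x => by linarith [two_le_ptNorm f x]
  rcases Nat.eq_zero_or_pos n with rfl | hn
  · have : IsEmpty {β : ClosedPt X →₀ ℕ // mon ptNorm β = 0} := ⟨fun β => by
      have h0 := β.2
      simp only [mon, Finsupp.prod, Finset.prod_eq_zero_iff, pow_eq_zero_iff'] at h0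
      obtain ⟨x, -, hx, -⟩ := h0
      exact (hpos x).ne' hx⟩
    infer_instance
  set σ : ℝ := R + 1 with hσdef
  have hσ : (R : ℝ) < σ := by simp [hσdef]
  let z : ClosedPt X → ℝ := fun x => (ptNorm x : ℝ) ^ (-σ)
  have hσ0 : 0 < σ := lt_of_le_of_lt (Nat.cast_nonneg R) hσ
  have hsum : Summable (mon z) := summable_mon z ((2 : ℝ) ^ (-σ))
    (Real.rpow_lt_one_of_one_lt_of_neg one_lt_two (by linarith)) (fun x => Real.rpow_nonneg (Nat.cast_nonneg _) _)
    (fun x => Real.rpow_le_rpow_of_nonpos two_pos (by exact_mod_cast two_le_ptNorm f x) (by linarith))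
    (summable_ptNorm f R hR hσ)
  have hval : ∀ β, mon z β = ((mon ptNorm β : ℕ) : ℝ) ^ (-σ) := fun β => by
    simp only [mon, Finsupp.prod, Nat.cast_prod, Nat.cast_pow]
    rw [← Real.finsetProd_rpow _ _ fun x _ => pow_nonneg (Nat.cast_nonneg _) _]
    refine Finset.prod_congr rfl fun x _ => ?_
    rw [← Real.rpow_natCast, ← Real.rpow_natCast, ← Real.rpow_mul (Nat.cast_nonneg _),
      ← Real.rpow_mul (Nat.cast_nonneg _), mul_comm]
  have h1 : Summable fun β : {β : ClosedPt X →₀ ℕ // mon ptNorm β = n} => ((n : ℝ) ^ (-σ)) :=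
    (hsum.subtype _).congr fun β => by rw [Function.comp_apply, hval, β.2]
  by_contra hinf
  rw [not_finite_iff_infinite] at hinf
  exact (Real.rpow_pos_of_pos (Nat.cast_pos.2 hn) _).ne' (summable_const_iff _ |>.1 h1)

include f in
/-- Closed points of a given norm are effective zero-cycles of that norm. -/
theorem card_closedPts_le {R : ℕ} (hR : topologicalKrullDim X ≤ R) (n : ℕ) :
    Nat.card {x : ClosedPt X // ptNorm x = n} ≤ Zeta.cycleNormCount X n := by
  classical
  rw [Zeta.cycleNormCount, Nat.card_congr (cycleEquiv X n)]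
  haveI := finite_cycles f hR n
  refine Nat.card_le_card_of_injective (fun x => ⟨Finsupp.single x.1 1, by rw [mon_single, pow_one, x.2]⟩) ?_
  intro x y h
  exact Subtype.ext ((Finsupp.single_left_injective one_ne_zero) (congrArg Subtype.val h))

include f in
/-- A positive power of a closed point is an effective zero-cycle. -/
theorem one_le_cycleNormCount {R : ℕ} (hR : topologicalKrullDim X ≤ R) (x : ClosedPt X) (j : ℕ) :
    1 ≤ Zeta.cycleNormCount X (ptNorm x ^ j) := by
  rw [Zeta.cycleNormCount, Nat.card_congr (cycleEquiv X _)]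
  haveI := finite_cycles f hR (ptNorm x ^ j)
  haveI : Nonempty {β : ClosedPt X →₀ ℕ // mon ptNorm β = ptNorm x ^ j} :=
    ⟨⟨Finsupp.single x j, by rw [mon_single]⟩⟩
  exact Nat.card_pos

/-- The bound on the coefficients given by summability. -/
theorem exists_coeff_bound {s : ℝ} (hs : LSeriesSummable (Zeta.arithCoeff X) (s : ℂ)) :
    ∃ S : ℝ, 1 ≤ S ∧ ∀ n : ℕ, 0 < n → (Zeta.cycleNormCount X n : ℝ) ≤ S * (n : ℝ) ^ s := by
  have h : Summable fun n => ‖LSeries.term (Zeta.arithCoeff X) (s : ℂ) n‖ := hs.norm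
  refine ⟨max 1 (∑' n, ‖LSeries.term (Zeta.arithCoeff X) (s : ℂ) n‖), le_max_left _ _, fun n hn => ?_⟩
  have h1 := h.le_tsum n fun m _ => norm_nonneg _
  rw [LSeries.norm_term_eq, if_neg hn.ne', Complex.ofReal_re, div_le_iff₀ (Real.rpow_pos_of_pos (Nat.cast_pos.2 hn) _)]
    at h1
  simp only [Zeta.arithCoeff, Complex.norm_natCast] at h1
  refine h1.trans (mul_le_mul_of_nonneg_right (le_max_right _ _) (Real.rpow_nonneg (Nat.cast_nonneg _) _))

include f in
theorem dim_zero_le_abscissa (hr : topologicalKrullDim X ≤ ((0 : ℕ) : WithBot ℕ∞)) (x : ClosedPt X) :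
    ((0 : ℝ) : EReal) ≤ LSeries.abscissaOfAbsConv (Zeta.arithCoeff X) := by
  by_contra hlt
  rw [not_le] at hlt
  have hs : LSeriesSummable (Zeta.arithCoeff X) ((0 : ℝ) : ℂ) :=
    LSeriesSummable_of_abscissaOfAbsConv_lt_re (by simpa using hlt)
  have h : Summable fun n => ‖LSeries.term (Zeta.arithCoeff X) ((0 : ℝ) : ℂ) n‖ := hs.norm
  have hinj : Function.Injective fun j : ℕ => ptNorm x ^ j := Nat.pow_right_injective (two_le_ptNorm f x)
  have h1 := (h.comp_injective hinj).tendsto_atTop_zero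
  have h2 : ∀ j, (1 : ℝ) ≤ ‖LSeries.term (Zeta.arithCoeff X) ((0 : ℝ) : ℂ) (ptNorm x ^ j)‖ := fun j => by
    have hn : ptNorm x ^ j ≠ 0 := pow_ne_zero _ (by linarith [two_le_ptNorm f x])
    rw [LSeries.norm_term_eq, if_neg hn, Complex.ofReal_re, Real.rpow_zero, div_one]
    simp only [Zeta.arithCoeff, Complex.norm_natCast]
    exact_mod_cast one_le_cycleNormCount f hr x j
  linarith [ge_of_tendsto' h1 h2]

end Arith

section Finite

variable {k : Type u} [Field k] [Finite k] {Y : Scheme.{u}} (f : Y ⟶ Spec (CommRingCat.of k))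
  [LocallyOfFiniteType f] [QuasiCompact f]

include f in
/-- The degree counts cannot be bounded by a smaller power than the dimension. -/
theorem false_of_degCount_le {r : ℕ} (hr : topologicalKrullDim Y = r) {s : ℝ} (hs0 : 0 ≤ s) (hsr : s < r)
    {S : ℝ} (hS1 : 1 ≤ S)
    (hbound : ∀ d, 0 < d → (Zeta.degCount f d : ℝ) ≤ S * ((Nat.card k : ℝ) ^ s) ^ d) : False := by
  classical
  obtain ⟨c, m, hc, hm, hlow⟩ := exists_lower f hr
  set q : ℝ := (Nat.card k : ℝ) with hq
  have hq2 : 2 ≤ Nat.card k := Finite.one_lt_card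
  have hq1 : (1 : ℝ) < q := by rw [hq]; exact_mod_cast hq2
  have hN : ∀ E : ℕ, (Zeta.nPts f E : ℝ) ≤ (E : ℝ) * (E * (S * (q ^ s) ^ E)) := by
    intro E
    rw [Zeta.nPts, Nat.cast_sum]
    calc ∑ d ∈ E.divisors, ((d * Zeta.degCount f d : ℕ) : ℝ) ≤ ∑ d ∈ E.divisors, (E : ℝ) * (S * (q ^ s) ^ E) := by
          refine Finset.sum_le_sum fun d hd => ?_
          have hdE : d ≤ E := Nat.divisor_le hd
          have h3 : (Zeta.degCount f d : ℝ) ≤ S * (q ^ s) ^ E := (hbound d (Nat.pos_of_mem_divisors hd)).trans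
            (mul_le_mul_of_nonneg_left (pow_le_pow_right₀ (Real.one_le_rpow hq1.le hs0) hdE) (by linarith))
          push_cast
          exact mul_le_mul (Nat.cast_le.2 hdE) h3 (Nat.cast_nonneg _) (Nat.cast_nonneg _)
      _ ≤ _ := by
          rw [Finset.sum_const, nsmul_eq_mul]
          exact mul_le_mul_of_nonneg_right (Nat.cast_le.2 (Nat.card_divisors_le_self E)) (by positivity)
  set b : ℝ := q ^ ((r : ℝ) - s) with hb
  have hb1 : 1 < b := Real.one_lt_rpow hq1 (sub_pos.2 hsr)
  have hlim := (tendsto_pow_const_div_const_pow_of_one_lt 2 hb1).comp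
    (tendsto_id.const_mul_atTop' (r := m) hm)
  obtain ⟨e, he1, he2⟩ := (((hlim.eventually (gt_mem_nhds (show (0 : ℝ) < c / S by positivity))).and
    (eventually_ge_atTop 1))).exists
  simp only [Function.comp_apply, id_eq] at he1
  set E := m * e
  have h1 := (hlow e he2).trans (hN E)
  have hsplit : q ^ (E * r) = b ^ E * (q ^ s) ^ E := by
    rw [← mul_pow, hb, ← Real.rpow_add (by linarith), sub_add_cancel, Real.rpow_natCast, ← pow_mul, mul_comm]
  rw [show m * e * r = E * r from rfl, hsplit, ← mul_assoc, ← mul_assoc, ← mul_assoc,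
    mul_le_mul_iff_left₀ (by positivity)] at h1
  rw [div_lt_div_iff₀ (by positivity) (by linarith)] at he1
  nlinarith

include f in
theorem le_abscissa {r : ℕ} (hr : topologicalKrullDim Y = r) :
    ((r : ℝ) : EReal) ≤ LSeries.abscissaOfAbsConv (Zeta.arithCoeff Y) := by
  classical
  rcases Nat.eq_zero_or_pos r with rfl | hr0
  · haveI := nonempty_of_dim hr
    haveI : CompactSpace Y := QuasiCompact.compactSpace_of_compactSpace f
    obtain ⟨x, -, hx⟩ := IsClosed.exists_closed_singleton (isClosed_univ (X := Y)) Set.univ_nonempty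
    simpa using dim_zero_le_abscissa (f ≫ toSpecZ k) hr.le ⟨x, hx⟩
  by_contra hlt
  rw [not_le] at hlt
  obtain ⟨s₀, hs₀, hs₀r⟩ := EReal.lt_iff_exists_real_btwn.1 hlt
  set s := max s₀ 0 with hsdef
  have hs0 : 0 ≤ s := le_max_right _ _
  have hsr : s < r := max_lt (EReal.coe_lt_coe_iff.1 hs₀r) (Nat.cast_pos.2 hr0)
  have hsum : LSeriesSummable (Zeta.arithCoeff Y) (s : ℂ) := LSeriesSummable_of_abscissaOfAbsConv_lt_re (by
    rw [Complex.ofReal_re]
    exact hs₀.trans_le (EReal.coe_le_coe_iff.2 (le_max_left _ _)))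
  obtain ⟨S, hS1, hS⟩ := exists_coeff_bound hsum
  have hq2 : 2 ≤ Nat.card k := Finite.one_lt_card
  refine false_of_degCount_le f hr hs0 hsr hS1 fun d _ => ?_
  have h1 : Zeta.degCount f d ≤ Zeta.cycleNormCount Y (Nat.card k ^ d) := by
    refine le_trans (le_of_eq ?_) (card_closedPts_le (f ≫ toSpecZ k) hr.le _)
    refine Nat.card_congr
      { toFun := fun x => ⟨⟨x.1, x.2.1⟩, by rw [ptNorm, card_residueField_eq f x.2.1, x.2.2]⟩
        invFun := fun x => ⟨x.1.1, x.1.2, Nat.pow_right_injective hq2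
          (by have := x.2; rwa [ptNorm, card_residueField_eq f x.1.2] at this)⟩
        left_inv := fun x => rfl
        right_inv := fun x => rfl }
  have h2 := hS (Nat.card k ^ d) (by positivity)
  rw [Nat.cast_pow, ← Real.rpow_natCast, ← Real.rpow_mul (Nat.cast_nonneg _), mul_comm (d : ℝ),
    Real.rpow_mul (Nat.cast_nonneg _), Real.rpow_natCast] at h2
  exact (Nat.cast_le.2 h1).trans h2

end Finite

end Groth.Agent.H9PB.LangWeil
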