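import Groth.Agent.ZetaLib.EulerProduct
import Mathlib.NumberTheory.NumberField.DedekindZeta
import Mathlib.RingTheory.DedekindDomain.Ideal.Lemmas
import Mathlib.RingTheory.Ideal.Norm.AbsNorm

/-!
# Degree one primes of a number field

The sum of `p ^ (-σ)` over the primes with a prime of degree one is unbounded as `σ → 1`; this follows from the
pole of the Dedekind zeta function.
-/

set_option autoImplicit false
set_option linter.style.haveILetI false
set_option linter.unusedSectionVars false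

universe u

open Filter Topology NumberField UniqueFactorizationMonoid

namespace Groth.Agent.H9PB.LangWeil

open Groth.Agent.ZetaLib

section Finite

variable {ι : Type u}

/-- A finite partial sum of monomials is at most the exponential of twice the sum. -/
theorem sum_mon_le (z : ι → ℝ) (h0 : ∀ i, 0 ≤ z i) (hz : ∀ i, z i ≤ 1 / 2) {W : ℝ}
    (hW : ∀ S : Finset ι, ∑ i ∈ S, z i ≤ W) (u : Finset (ι →₀ ℕ)) : ∑ α ∈ u, mon z α ≤ Real.exp (2 * W) := by
  classical
  set S := u.biUnion fun α => α.support with hS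
  set M := (u.sup fun α => α.sum fun _ m => m) + 1 with hM
  have hsupp : ∀ α ∈ u, α.support ⊆ S := fun α hα => Finset.subset_biUnion_of_mem (fun α => α.support) hα
  have hval : ∀ α ∈ u, ∀ i, α i < M := fun α hα i => by
    have h1 : α i ≤ α.sum fun _ m => m := by
      rcases em (i ∈ α.support) with h | h
      · exact Finset.single_le_sum (f := fun j => α j) (fun _ _ => Nat.zero_le _) h
      · simp [Finsupp.notMem_support_iff.1 h]
    have h2 := Finset.le_sup (f := fun α : ι →₀ ℕ => α.sum fun _ m => m) hα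
    exact Nat.lt_succ_of_le (h1.trans h2)
  calc ∑ α ∈ u, mon z α
      = ∑ α ∈ u, ∏ i ∈ S, z i ^ α i := Finset.sum_congr rfl fun α hα =>
        Finsupp.prod_of_support_subset α (hsupp α hα) _ fun i _ => pow_zero _
    _ = ∑ g ∈ u.image (fun α => fun i (_ : i ∈ S) => α i), ∏ i ∈ S.attach, z i.1 ^ g i.1 i.2 := by
        rw [Finset.sum_image]
        · exact Finset.sum_congr rfl fun α _ => (Finset.prod_attach S fun i => z i ^ α i).symm
        · intro α hα β hβ h
          ext i
          by_cases hi : i ∈ S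
          · exact congrFun (congrFun h i) hi
          · rw [Finsupp.notMem_support_iff.1 fun h' => hi (hsupp α hα h'),
              Finsupp.notMem_support_iff.1 fun h' => hi (hsupp β hβ h')]
    _ ≤ ∑ g ∈ S.pi fun _ => Finset.range M, ∏ i ∈ S.attach, z i.1 ^ g i.1 i.2 := by
        refine Finset.sum_le_sum_of_subset_of_nonneg ?_ fun g _ _ =>
          Finset.prod_nonneg fun i _ => pow_nonneg (h0 _) _
        intro g hg
        obtain ⟨α, hα, rfl⟩ := Finset.mem_image.1 hg
        exact Finset.mem_pi.2 fun i _ => Finset.mem_range.2 (hval α hα i)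
    _ = ∏ i ∈ S, ∑ m ∈ Finset.range M, z i ^ m :=
        (Finset.prod_sum S (fun _ => Finset.range M) fun i m => z i ^ m).symm
    _ ≤ ∏ i ∈ S, Real.exp (2 * z i) := by
        refine Finset.prod_le_prod (fun i _ => Finset.sum_nonneg fun m _ => pow_nonneg (h0 i) _)
          fun i _ => ?_
        have h1 : z i < 1 := (hz i).trans_lt (by norm_num)
        refine ((((summable_geometric_of_lt_one (h0 i) h1).sum_le_tsum (Finset.range M)
          fun m _ => pow_nonneg (h0 i) m)).trans_eq (tsum_geometric_of_lt_one (h0 i) h1)).trans ?_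
        refine le_trans ?_ (Real.add_one_le_exp _)
        rw [inv_le_iff_one_le_mul₀ (by linarith)]
        nlinarith [h0 i, hz i]
    _ = Real.exp (2 * ∑ i ∈ S, z i) := by rw [Finset.mul_sum, Real.exp_sum]
    _ ≤ Real.exp (2 * W) := Real.exp_le_exp.2 (mul_le_mul_of_nonneg_left (hW S) zero_le_two)

end Finite

variable (L : Type u) [Field L] [NumberField L]

/-- The maximal ideals of the ring of integers. -/
abbrev MaxId := {P : Ideal (𝓞 L) // P.IsMaximal}

/-- A prime has at most `[L : ℚ]` maximal ideals of norm divisible by it above it. -/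
theorem card_above_le {p : ℕ} (hp : p.Prime) (S : Finset (MaxId L))
    (hS : ∀ P ∈ S, (p : 𝓞 L) ∈ P.1 ∧ p ∣ Ideal.absNorm P.1) : S.card ≤ Module.finrank ℤ (𝓞 L) := by
  classical
  set T : Finset (Ideal (𝓞 L)) := S.image Subtype.val
  have hp0 : (p : 𝓞 L) ≠ 0 := Nat.cast_ne_zero.2 hp.ne_zero
  have hdvd : T.prod id ∣ Ideal.span {(p : 𝓞 L)} := by
    refine Finset.prod_primes_dvd _ (fun I hI => ?_) (fun I hI => ?_)
    · obtain ⟨P, hP, rfl⟩ := Finset.mem_image.1 hI
      refine Ideal.prime_of_isPrime (fun h => hp0 ?_) P.2.isPrime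
      have := (hS P hP).1
      rwa [h, Ideal.mem_bot] at this
    · obtain ⟨P, hP, rfl⟩ := Finset.mem_image.1 hI
      rw [Ideal.dvd_iff_le, Ideal.span_singleton_le_iff_mem]
      exact (hS P hP).1
  have h1 : Ideal.absNorm (Ideal.span {(p : 𝓞 L)}) = p ^ Module.finrank ℤ (𝓞 L) := by
    rw [Ideal.absNorm_span_singleton, ← map_natCast (algebraMap ℤ (𝓞 L)), Algebra.norm_algebraMap,
      Int.natAbs_pow, Int.natAbs_natCast]
  have h2 : p ^ T.card ∣ Ideal.absNorm (T.prod id) := by
    rw [map_prod, ← Finset.prod_const]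
    refine Finset.prod_dvd_prod_of_dvd _ _ fun I hI => ?_
    obtain ⟨P, hP, rfl⟩ := Finset.mem_image.1 hI
    exact (hS P hP).2
  have h3 := h2.trans (map_dvd (Ideal.absNorm (S := 𝓞 L)) hdvd)
  rw [h1, Nat.pow_dvd_pow_iff_le_right hp.one_lt] at h3
  rwa [Finset.card_image_of_injective _ Subtype.val_injective] at h3

/-- The sum over primes with a degree one prime off `b` is unbounded. -/
theorem false_of_bounded_degree_one {b : 𝓞 L} (hb : b ≠ 0) (M : ℝ)
    (hM : ∀ (G : Finset ℕ), (∀ p ∈ G, p.Prime ∧ ∃ χ : 𝓞 L →+* ZMod p, χ b ≠ 0) →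
      ∀ σ : ℝ, 1 < σ → ∑ p ∈ G, (p : ℝ) ^ (-σ) ≤ M) : False := by
  classical
  set D := Module.finrank ℤ (𝓞 L)
  have hDpos : 0 < D := Module.finrank_pos
  set nb := Ideal.absNorm (Ideal.span {b}) with hnb
  have hB : {P : MaxId L | b ∈ P.1}.Finite := by
    have h1 := Ideal.finite_setOfPred_absNorm_le (S := 𝓞 L) nb
    refine Set.Finite.subset (h1.preimage Subtype.val_injective.injOn) fun P hP => ?_
    refine Nat.le_of_dvd ?_ (Ideal.absNorm_dvd_absNorm_of_le ((Ideal.span_singleton_le_iff_mem _).2 hP))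
    refine Nat.pos_of_ne_zero fun h => hb ?_
    rw [hnb, Ideal.absNorm_eq_zero_iff, Ideal.span_singleton_eq_bot] at h
    exact h
  set C2 := ∑' n : ℕ, ((n : ℝ) ^ (2 : ℕ))⁻¹
  have hC2 : ∀ U : Finset ℕ, ∑ n ∈ U, ((n : ℝ) ^ (2 : ℕ))⁻¹ ≤ C2 := fun U =>
    (Real.summable_nat_pow_inv.2 one_lt_two).sum_le_tsum U fun _ _ => by positivity
  set W := (hB.toFinset.card : ℝ) + D * M + D * C2
  -- the data of a maximal ideal
  have hdata : ∀ P : MaxId L, ∃ p f : ℕ, p.Prime ∧ 0 < f ∧ Ideal.absNorm P.1 = p ^ f ∧ (p : 𝓞 L) ∈ P.1 := by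
    intro P
    haveI := P.2
    letI := Ideal.Quotient.field P.1
    have hP0 : P.1 ≠ ⊥ := Ring.ne_bot_of_isMaximal_of_not_isField P.2 (RingOfIntegers.not_isField L)
    haveI : Finite (𝓞 L ⧸ P.1) := (Ideal.absNorm_ne_zero_iff P.1).1 (mt Ideal.absNorm_eq_zero_iff.1 hP0)
    haveI := Fintype.ofFinite (𝓞 L ⧸ P.1)
    obtain ⟨p, hp⟩ := CharP.exists (𝓞 L ⧸ P.1)
    obtain ⟨f, hprime, hcard⟩ := FiniteField.card (𝓞 L ⧸ P.1) p
    refine ⟨p, f, hprime, f.pos, ?_, ?_⟩
    · rw [Ideal.absNorm_apply, Submodule.cardQuot_apply, Nat.card_eq_fintype_card]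
      exact hcard
    · rw [← Ideal.Quotient.eq_zero_iff_mem, map_natCast]
      exact CharP.cast_eq_zero _ p
  choose pp ff hpp hff hnorm hmem using hdata
  have hfib : ∀ (S : Finset (MaxId L)) (p : ℕ), (S.filter fun P => pp P = p).card ≤ D := fun S p => by
    by_cases hne : (S.filter fun P => pp P = p).Nonempty
    · obtain ⟨P, hP⟩ := hne
      refine card_above_le L ((Finset.mem_filter.1 hP).2 ▸ hpp P) _ fun Q hQ => ?_
      rw [← (Finset.mem_filter.1 hQ).2]
      exact ⟨hmem Q, hnorm Q ▸ dvd_pow_self _ (hff Q).ne'⟩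
    · rw [Finset.not_nonempty_iff_eq_empty.1 hne]; exact Nat.zero_le _
  have hgrp : ∀ (S : Finset (MaxId L)) (w : ℕ → ℝ), (∀ p, 0 ≤ w p) →
      ∑ P ∈ S, w (pp P) ≤ D * ∑ p ∈ S.image pp, w p := fun S w hw => by
    rw [← Finset.sum_fiberwise_of_maps_to (t := S.image pp) (g := pp) (fun P hP => Finset.mem_image_of_mem _ hP),
      Finset.mul_sum]
    refine Finset.sum_le_sum fun p _ => ?_
    rw [Finset.sum_congr rfl (g := fun _ => w p) fun P hP => by rw [(Finset.mem_filter.1 hP).2],
      Finset.sum_const, nsmul_eq_mul]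
    exact mul_le_mul_of_nonneg_right (Nat.cast_le.2 (hfib S p)) (hw p)
  -- the bound on sums over maximal ideals
  have hbound : ∀ σ : ℝ, 1 < σ → ∀ S : Finset (MaxId L),
      ∑ P ∈ S, (Ideal.absNorm P.1 : ℝ) ^ (-σ) ≤ W := by
    intro σ hσ S
    set z : MaxId L → ℝ := fun P => (Ideal.absNorm P.1 : ℝ) ^ (-σ)
    set S₀ := S.filter fun P => b ∈ P.1
    set S' := S.filter fun P => ¬ b ∈ P.1
    set S₁ := S'.filter fun P => ff P = 1
    set S₂ := S'.filter fun P => ¬ ff P = 1
    rw [← Finset.sum_filter_add_sum_filter_not S (fun P => b ∈ P.1),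
      ← Finset.sum_filter_add_sum_filter_not (S.filter fun P => ¬ b ∈ P.1) (fun P => ff P = 1)]
    have hone : ∀ P, z P ≤ 1 := fun P => Real.rpow_le_one_of_one_le_of_nonpos
      (by rw [hnorm, Nat.cast_pow]; exact one_le_pow₀ (by exact_mod_cast (hpp P).one_le)) (by linarith)
    have h0 : ∑ P ∈ S₀, z P ≤ hB.toFinset.card := by
      refine le_trans (Finset.sum_le_sum fun P _ => hone P) ?_
      rw [Finset.sum_const, nsmul_eq_mul, mul_one, Nat.cast_le]
      exact Finset.card_le_card fun P hP => hB.mem_toFinset.2 (Finset.mem_filter.1 hP).2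
    have h1 : ∑ P ∈ S₁, z P ≤ D * M := by
      have he : ∑ P ∈ S₁, z P = ∑ P ∈ S₁, (pp P : ℝ) ^ (-σ) := Finset.sum_congr rfl fun P hP => by
        show (Ideal.absNorm P.1 : ℝ) ^ (-σ) = _
        rw [hnorm, (Finset.mem_filter.1 hP).2, pow_one]
      rw [he]
      refine le_trans (hgrp S₁ (fun p => (p : ℝ) ^ (-σ)) fun p => Real.rpow_nonneg (Nat.cast_nonneg _) _)
        (mul_le_mul_of_nonneg_left (hM _ (fun p hp => ?_) σ hσ) (Nat.cast_nonneg _))
      obtain ⟨P, hP, rfl⟩ := Finset.mem_image.1 hp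
      haveI : Fact (pp P).Prime := ⟨hpp P⟩
      haveI := P.2
      letI := Ideal.Quotient.field P.1
      have hcard : Nat.card (𝓞 L ⧸ P.1) = pp P := by
        rw [← Submodule.cardQuot_apply, ← Ideal.absNorm_apply, hnorm, (Finset.mem_filter.1 hP).2, pow_one]
      haveI : Finite (𝓞 L ⧸ P.1) := Nat.finite_of_card_ne_zero (by rw [hcard]; exact (hpp P).ne_zero)
      haveI := Fintype.ofFinite (𝓞 L ⧸ P.1)
      let e : (𝓞 L ⧸ P.1) ≃+* ZMod (pp P) :=
        FiniteField.ringEquivOfCardEq (by rw [← Nat.card_eq_fintype_card, hcard, ZMod.card])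
      refine ⟨hpp P, e.toRingHom.comp (Ideal.Quotient.mk P.1), fun h => ?_⟩
      have h2 : Ideal.Quotient.mk P.1 b = 0 := e.injective (h.trans (map_zero e).symm)
      exact (Finset.mem_filter.1 (Finset.mem_filter.1 hP).1).2 (Ideal.Quotient.eq_zero_iff_mem.1 h2)
    have h2 : ∑ P ∈ S₂, z P ≤ D * C2 := by
      refine le_trans (le_trans (Finset.sum_le_sum fun P hP => ?_)
        (hgrp S₂ (fun p => ((p : ℝ) ^ (2 : ℕ))⁻¹) fun p => by positivity))
        (mul_le_mul_of_nonneg_left (hC2 _) (Nat.cast_nonneg _))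
      show (Ideal.absNorm P.1 : ℝ) ^ (-σ) ≤ _
      have hp1 : (1 : ℝ) ≤ pp P := by exact_mod_cast (hpp P).one_le
      have h2f : 2 ≤ ff P := by
        have := hff P; have := (Finset.mem_filter.1 hP).2; omega
      have hle : (pp P : ℝ) ^ (2 : ℕ) ≤ (Ideal.absNorm P.1 : ℝ) := by
        rw [hnorm, Nat.cast_pow]; exact pow_le_pow_right₀ hp1 h2f
      have hN1 : (1 : ℝ) ≤ Ideal.absNorm P.1 := le_trans (one_le_pow₀ hp1) hle
      calc (Ideal.absNorm P.1 : ℝ) ^ (-σ) ≤ (Ideal.absNorm P.1 : ℝ) ^ (-1 : ℝ) :=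
            Real.rpow_le_rpow_of_exponent_le hN1 (by linarith)
        _ = (Ideal.absNorm P.1 : ℝ)⁻¹ := Real.rpow_neg_one _
        _ ≤ ((pp P : ℝ) ^ (2 : ℕ))⁻¹ := inv_anti₀ (by positivity) hle
    show _ + (_ + _) ≤ _
    exact (add_le_add h0 (add_le_add h1 h2)).trans (le_of_eq (add_assoc _ _ _).symm)
  -- ideals are monomials in maximal ideals
  have hmax : ∀ (I : Ideal (𝓞 L)) (P : Ideal (𝓞 L)), P ∈ normalizedFactors I → P.IsMaximal := fun I P hP => by
    have hprime := prime_of_normalized_factor P hP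
    exact (Ideal.isPrime_of_prime hprime).isMaximal hprime.ne_zero
  let ex : Ideal (𝓞 L) → (MaxId L →₀ ℕ) := fun I =>
    Multiset.toFinsupp ((normalizedFactors I).pmap Subtype.mk (hmax I))
  have hex : ∀ I, Finsupp.toMultiset (ex I) = (normalizedFactors I).pmap Subtype.mk (hmax I) := fun I =>
    Multiset.toFinsupp_toMultiset _
  have hexinj : ∀ I J, I ≠ ⊥ → J ≠ ⊥ → ex I = ex J → I = J := fun I J hI hJ h => by
    have h1 := congrArg (fun m => (Multiset.map Subtype.val m).prod) (congrArg Finsupp.toMultiset h)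
    simp only [hex, Multiset.map_pmap, Multiset.pmap_eq_map, Multiset.map_id'] at h1
    rw [Ideal.prod_normalizedFactors_eq_self hI, Ideal.prod_normalizedFactors_eq_self hJ] at h1
    exact h1
  have hmon : ∀ (σ : ℝ) (I : Ideal (𝓞 L)), I ≠ ⊥ →
      mon (fun P : MaxId L => (Ideal.absNorm P.1 : ℝ) ^ (-σ)) (ex I) = (Ideal.absNorm I : ℝ) ^ (-σ) := by
    intro σ I hI
    set z : MaxId L → ℝ := fun P => (Ideal.absNorm P.1 : ℝ) ^ (-σ) with hz
    have hs : ∀ s : Multiset (MaxId L), mon z (Multiset.toFinsupp s) = (s.map z).prod := fun s => by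
      induction s using Multiset.induction_on with
      | empty => simp [mon]
      | cons a s ih =>
        rw [← Multiset.singleton_add, map_add, mon_add, Multiset.toFinsupp_singleton, mon_single, pow_one, ih,
          Multiset.map_add, Multiset.map_singleton, Multiset.prod_add, Multiset.prod_singleton]
    have hp : ∀ m : Multiset (Ideal (𝓞 L)), (m.map fun P => (Ideal.absNorm P : ℝ) ^ (-σ)).prod =
        (Ideal.absNorm m.prod : ℝ) ^ (-σ) := fun m => by
      induction m using Multiset.induction_on with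
      | empty => simp
      | cons a s ih =>
        rw [Multiset.map_cons, Multiset.prod_cons, Multiset.prod_cons, ih, map_mul, Nat.cast_mul,
          Real.mul_rpow (Nat.cast_nonneg _) (Nat.cast_nonneg _)]
    rw [hs, hz, Multiset.map_pmap]
    simp only [Multiset.pmap_eq_map]
    rw [hp, Ideal.prod_normalizedFactors_eq_self hI]
  -- the bound on the zeta function
  have hzeta : ∀ σ : ℝ, 1 < σ → ‖dedekindZeta L σ‖ ≤ Real.exp (2 * W) := by
    intro σ hσ
    have hpart : ∀ N, ∑ n ∈ Finset.range N,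
        ‖LSeries.term (fun n => (Nat.card {I : Ideal (𝓞 L) // Ideal.absNorm I = n} : ℂ)) σ n‖ ≤ Real.exp (2 * W) := by
      intro N
      have hfinI : ∀ n, {I : Ideal (𝓞 L) | Ideal.absNorm I = n}.Finite := fun n =>
        Ideal.finite_setOfPred_absNorm_eq n
      set F := (Finset.Ico 1 N).biUnion fun n => (hfinI n).toFinset with hF
      have hF0 : ∀ I ∈ F, I ≠ ⊥ := fun I hI h => by
        obtain ⟨n, hn, hI⟩ := Finset.mem_biUnion.1 hI
        have h1 : Ideal.absNorm I = n := (hfinI n).mem_toFinset.1 hI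
        rw [h, Ideal.absNorm_bot] at h1
        have := (Finset.mem_Ico.1 hn).1
        omega
      calc _ = ∑ n ∈ Finset.Ico 1 N, ∑ I ∈ (hfinI n).toFinset, (Ideal.absNorm I : ℝ) ^ (-σ) := by
            refine Eq.trans (Finset.sum_subset (s₁ := Finset.Ico 1 N)
                (fun n hn => Finset.mem_range.2 (Finset.mem_Ico.1 hn).2) fun n hn hn' => ?_).symm
              (Finset.sum_congr rfl fun n hn => ?_)
            · have : n = 0 := by
                have := Finset.mem_range.1 hn; rw [Finset.mem_Ico] at hn'; omega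
              rw [this, LSeries.term_zero, norm_zero]
            · have hn0 : n ≠ 0 := by have := (Finset.mem_Ico.1 hn).1; omega
              rw [LSeries.norm_term_eq, if_neg hn0, Complex.norm_natCast, Complex.ofReal_re,
                Finset.sum_congr rfl (g := fun _ => (n : ℝ) ^ (-σ))
                  (fun I hI => by rw [show Ideal.absNorm I = n from (hfinI n).mem_toFinset.1 hI]),
                Finset.sum_const, nsmul_eq_mul, Real.rpow_neg (Nat.cast_nonneg _), div_eq_mul_inv]
              congr 2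
              exact Nat.card_eq_card_finite_toFinset (hfinI n)
        _ = ∑ I ∈ F, (Ideal.absNorm I : ℝ) ^ (-σ) := by
            rw [Finset.sum_biUnion]
            intro m _ n _ hmn
            simp only [Function.onFun, Finset.disjoint_left, Set.Finite.mem_toFinset, Set.mem_setOf_eq]
            exact fun I h1 h2 => hmn (h1.symm.trans h2)
        _ = ∑ α ∈ F.image ex, mon (fun P : MaxId L => (Ideal.absNorm P.1 : ℝ) ^ (-σ)) α := by
            rw [Finset.sum_image fun I hI J hJ h => hexinj I J (hF0 I hI) (hF0 J hJ) h]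
            exact Finset.sum_congr rfl fun I hI => (hmon σ I (hF0 I hI)).symm
        _ ≤ _ := by
            refine sum_mon_le _ (fun P => Real.rpow_nonneg (Nat.cast_nonneg _) _) (fun P => ?_) (hbound σ hσ) _
            have h2 : (2 : ℝ) ≤ Ideal.absNorm P.1 := by
              rw [hnorm, Nat.cast_pow]
              exact le_trans (by exact_mod_cast (hpp P).two_le) (le_self_pow₀ (by exact_mod_cast (hpp P).one_le) (hff P).ne')
            refine le_trans (Real.rpow_le_rpow_of_exponent_le (by linarith) (by linarith : -σ ≤ (-1 : ℝ))) ?_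
            rw [Real.rpow_neg_one, one_div]
            exact inv_anti₀ two_pos h2
    have hsum := summable_of_sum_range_le (fun n => norm_nonneg _) hpart
    exact (norm_tsum_le_tsum_norm hsum).trans (Real.tsum_le_of_sum_range_le (fun n => norm_nonneg _) hpart)
  have h1 : Tendsto (fun s : ℝ => ‖((s - 1 : ℝ) : ℂ) * dedekindZeta L s‖) (𝓝[>] 1) (𝓝 0) := by
    refine squeeze_zero_norm' ?_ (?_ : Tendsto (fun s : ℝ => (s - 1) * Real.exp (2 * W)) (𝓝[>] 1) (𝓝 0))
    · filter_upwards [self_mem_nhdsWithin] with s hs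
      rw [norm_norm, norm_mul, Complex.norm_real, Real.norm_of_nonneg (by linarith [Set.mem_Ioi.1 hs])]
      exact mul_le_mul_of_nonneg_left (hzeta s hs) (by linarith [Set.mem_Ioi.1 hs])
    · refine Tendsto.mono_left ?_ nhdsWithin_le_nhds
      have := ((continuous_id.sub (continuous_const (y := (1 : ℝ)))).mul
        (continuous_const (y := Real.exp (2 * W)))).tendsto (1 : ℝ)
      simpa [Pi.mul_def, Pi.sub_def] using this
  have h2 := (tendsto_sub_one_mul_dedekindZeta_nhdsGT L).norm
  have h3 := tendsto_nhds_unique (h1.congr fun s => by push_cast; rfl) h2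
  rw [Complex.norm_real, Real.norm_of_nonneg (dedekindZeta_residue_pos L).le] at h3
  exact (dedekindZeta_residue_pos L).ne h3

end Groth.Agent.H9PB.LangWeil
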