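import Groth.Agent.H9PB.LangWeil.Abscissa
import Groth.Agent.H9PB.LangWeil.SplitPrimes
import Groth.Agent.S0554
import Groth.Agent.GeomIrrSection.FinAlg
import Mathlib.RingTheory.KrullDimension.NonZeroDivisors

/-!
# The abscissa of the zeta function of an arithmetic scheme
-/

set_option autoImplicit false
set_option linter.style.haveILetI false
set_option linter.unusedSectionVars false
set_option backward.isDefEq.respectTransparency false
set_option backward.isDefEq.respectTransparency.types false
set_option maxHeartbeats 1000000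

universe u

open CategoryTheory AlgebraicGeometry TopologicalSpace NumberField

namespace Groth.Agent.H9PB.LangWeil

open Groth.Agent Groth.Agent.ZetaLib

theorem mem_of_adjoin_int {K : Type u} [CommRing K] {S : Set K} (T : Subring K) (h : S ⊆ T) {a : K}
    (ha : a ∈ Algebra.adjoin ℤ S) : a ∈ T := by
  induction ha using Algebra.adjoin_induction with
  | mem z hz => exact h hz
  | algebraMap n => rw [eq_intCast]; exact intCast_mem T n
  | add _ _ _ _ hx hy => exact add_mem hx hy
  | mul _ _ _ _ hx hy => exact mul_mem hx hy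

/-- An affine integral piece of full dimension. -/
theorem exists_domain_chart (X : Scheme.{u}) {r : ℕ} (hr : topologicalKrullDim X = r) :
    ∃ (D : Type u) (_ : CommRing D) (_ : IsDomain D) (ι : Spec (CommRingCat.of D) ⟶ X),
      IsPreimmersion ι ∧ LocallyOfFiniteType ι ∧ ringKrullDim D = r := by
  obtain ⟨l, hl⟩ := Order.le_krullDim_iff.1 (show (r : WithBot ℕ∞) ≤ Order.krullDim (IrreducibleCloseds X) from
    le_of_eq hr.symm)
  choose x hx using fun i => QuasiSober.sober (l i).isIrreducible (l i).isClosed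
  obtain ⟨U, hU, hxU, -⟩ := exists_isAffineOpen_mem_and_subset (x := x 0) (U := (⊤ : X.Opens)) trivial
  have hmem : ∀ i, x i ∈ U := fun i => by
    refine (((hx i).specializes_iff_mem).2 ?_).mem_open U.isOpen hxU
    exact SetLike.coe_subset_coe.2 (l.monotone (Fin.zero_le i)) (hx 0).mem
  choose y₀ hy using fun i => show x i ∈ Set.range hU.fromSpec from hU.range_fromSpec.symm ▸ hmem i
  let y : Fin (l.length + 1) → PrimeSpectrum Γ(X, U) := y₀
  have hle : ∀ i j, i ≤ j → y j ≤ y i := fun i j hij => by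
    refine (PrimeSpectrum.le_iff_specializes _ _).2 ?_
    show y₀ j ⤳ y₀ i
    rw [ ← hU.fromSpec.isOpenEmbedding.isInducing.specializes_iff, hy, hy,
      (hx j).specializes_iff_mem]
    exact SetLike.coe_subset_coe.2 (l.monotone hij) (hx i).mem
  have hlt : ∀ i j, i < j → y j < y i := fun i j hij => by
    refine lt_of_le_of_ne (hle i j hij.le) fun h => ?_
    refine (l.strictMono hij).ne (IrreducibleCloseds.ext ?_)
    rw [← (hx i).def, ← (hx j).def, ← hy, ← hy, show y₀ j = y₀ i from h]
  let P := (y (Fin.last l.length)).asIdeal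
  haveI hPp : P.IsPrime := (y (Fin.last l.length)).isPrime
  let ι : Spec (CommRingCat.of (Γ(X, U) ⧸ P)) ⟶ X :=
    Spec.map (CommRingCat.ofHom (Ideal.Quotient.mk P)) ≫ hU.fromSpec
  haveI : IsClosedImmersion (Spec.map (CommRingCat.ofHom (Ideal.Quotient.mk P))) :=
    IsClosedImmersion.spec_of_surjective _ Ideal.Quotient.mk_surjective
  refine ⟨Γ(X, U) ⧸ P, inferInstance, Ideal.Quotient.isDomain P, ι, inferInstance, inferInstance,
    le_antisymm ?_ ?_⟩
  · rw [← PrimeSpectrum.topologicalKrullDim_eq_ringKrullDim, ← hr]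
    exact ι.isEmbedding.isInducing.topologicalKrullDim_le
  · rw [ringKrullDim_quotient, ← hl]
    let z : Fin (l.length + 1) → PrimeSpectrum.zeroLocus (R := Γ(X, U)) P := fun i =>
      ⟨y i.rev, fun a ha => (hle i.rev (Fin.last _) (Fin.le_last _)) ha⟩
    exact Order.le_krullDim_iff.2 ⟨LTSeries.mk l.length z fun i j hij => hlt _ _ (Fin.rev_lt_rev.2 hij), rfl⟩

variable {X : Scheme.{u}} (f : X ⟶ Spec (CommRingCat.of (ULift.{u} ℤ))) [LocallyOfFiniteType f]
  [QuasiCompact f]

include f in
theorem finite_closedPts_norm {R : ℕ} (hR : topologicalKrullDim X ≤ R) (n : ℕ) :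
    Finite {x : ClosedPt X // ptNorm x = n} := by
  classical
  haveI := finite_cycles f hR n
  refine Finite.of_injective
    (fun x => (⟨Finsupp.single x.1 1, by rw [mon_single, pow_one, x.2]⟩ : {β : ClosedPt X →₀ ℕ // mon ptNorm β = n})) ?_
  intro x y h
  exact Subtype.ext ((Finsupp.single_left_injective one_ne_zero) (congrArg Subtype.val h))

include f in
/-- Points with values in a prime field are closed points of norm `p`. -/
theorem card_points_le {R : ℕ} (hR : topologicalKrullDim X ≤ R) (p : ℕ) [Fact p.Prime] :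
    Finite (Spec (CommRingCat.of (ULift.{u} (ZMod p))) ⟶ X) ∧
      Nat.card (Spec (CommRingCat.of (ULift.{u} (ZMod p))) ⟶ X) ≤ Nat.card {x : ClosedPt X // ptNorm x = p} := by
  haveI := ZetaLib.isJacobsonRing_int
  haveI : IsJacobsonRing (ULift.{u} ℤ) := (isJacobsonRing_iso ULift.ringEquiv).2 inferInstance
  haveI : JacobsonSpace (Spec (CommRingCat.of (ULift.{u} ℤ))) :=
    PrimeSpectrum.isJacobsonRing_iff_jacobsonSpace.1 ‹_›
  haveI : JacobsonSpace X := LocallyOfFiniteType.jacobsonSpace f
  let e := Scheme.SpecToEquivOfField (ULift.{u} (ZMod p)) X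
  have hbij : ∀ (x : X) (φ : X.residueField x ⟶ CommRingCat.of (ULift.{u} (ZMod p))),
      Function.Bijective ((ULift.ringEquiv (R := ZMod p)).toRingHom.comp φ.hom) := fun x φ =>
    ⟨RingHom.injective _, ZMod.ringHom_surjective _⟩
  have hsub : ∀ x : X, Subsingleton (X.residueField x ⟶ CommRingCat.of (ULift.{u} (ZMod p))) := fun x => ⟨fun φ ψ => by
    ext a
    let e' := RingEquiv.ofBijective _ (hbij x φ)
    have h := RingHom.congr_fun (RingHom.ext_zmod ((ULift.ringEquiv.toRingHom.comp ψ.hom).comp e'.symm.toRingHom)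
      (RingHom.id _)) (e' a)
    have he : e'.symm (e' a) = a := e'.symm_apply_apply a
    simp only [RingHom.comp_apply, RingHom.id_apply, RingEquiv.toRingHom_eq_coe, RingEquiv.coe_toRingHom, he] at h
    exact h.symm⟩
  have hclosed : ∀ g : Spec (CommRingCat.of (ULift.{u} (ZMod p))) ⟶ X, IsClosed ({(e g).1} : Set X) := by
    intro g
    haveI : LocallyOfFiniteType (g ≫ f) := by
      have : g ≫ f = toSpecZ (ULift.{u} (ZMod p)) := specULiftZIsTerminal.hom_ext _ _
      rw [this]; infer_instance
    haveI : LocallyOfFiniteType g := locallyOfFiniteType_of_comp g f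
    exact g.closePoints_subset_preimage_closedPoints (IsLocalRing.isClosed_singleton_closedPoint _)
  have hnorm : ∀ g : Spec (CommRingCat.of (ULift.{u} (ZMod p))) ⟶ X,
      ptNorm (⟨(e g).1, hclosed g⟩ : ClosedPt X) = p := fun g => by
    show Nat.card (X.residueField (e g).1) = p
    rw [Nat.card_congr (Equiv.ofBijective _ (hbij _ (e g).2)), Nat.card_zmod]
  haveI := finite_closedPts_norm f hR p
  let F : (Spec (CommRingCat.of (ULift.{u} (ZMod p))) ⟶ X) → {x : ClosedPt X // ptNorm x = p} :=
    fun g => ⟨⟨(e g).1, hclosed g⟩, hnorm g⟩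
  have hF : Function.Injective F := fun g g' h => by
    have h1 : (e g).1 = (e g').1 := congrArg (fun z : {x : ClosedPt X // ptNorm x = p} => z.1.1) h
    apply e.injective
    generalize e g = a at h1
    generalize e g' = b at h1
    obtain ⟨a, φ⟩ := a
    obtain ⟨b, ψ⟩ := b
    obtain rfl : a = b := h1
    rw [(hsub a).elim φ ψ]
  exact ⟨Finite.of_injective F hF, Nat.card_le_card_of_injective F hF⟩

section Piece

variable {D : Type u} [CommRing D] (ι : Spec (CommRingCat.of D) ⟶ X) [IsPreimmersion ι] [LocallyOfFiniteType ι]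

include f ι in
/-- The piece of characteristic `p`. -/
theorem false_of_char_p {r : ℕ} (hr : topologicalKrullDim X = r) (hD : ringKrullDim D = r) (p : ℕ)
    [Fact p.Prime] [CharP D p] {s : ℝ} (hs0 : 0 ≤ s) (hsr : s < r)
    (hsum : LSeriesSummable (Zeta.arithCoeff X) (s : ℂ)) : False := by
  classical
  haveI := ZetaLib.isJacobsonRing_int
  haveI : IsJacobsonRing (ULift.{u} ℤ) := (isJacobsonRing_iso ULift.ringEquiv).2 inferInstance
  haveI : JacobsonSpace (Spec (CommRingCat.of (ULift.{u} ℤ))) :=
    PrimeSpectrum.isJacobsonRing_iff_jacobsonSpace.1 ‹_›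
  haveI : JacobsonSpace X := LocallyOfFiniteType.jacobsonSpace f
  let g : Spec (CommRingCat.of D) ⟶ Spec (CommRingCat.of (ULift.{u} (ZMod p))) :=
    Spec.map (CommRingCat.ofHom ((ZMod.castHom dvd_rfl D).comp ULift.ringEquiv.toRingHom))
  have hg : g ≫ toSpecZ (ULift.{u} (ZMod p)) = ι ≫ f := specULiftZIsTerminal.hom_ext _ _
  haveI : LocallyOfFiniteType g := by
    haveI : LocallyOfFiniteType (g ≫ toSpecZ (ULift.{u} (ZMod p))) := by rw [hg]; infer_instance
    exact locallyOfFiniteType_of_comp g (toSpecZ (ULift.{u} (ZMod p)))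
  have hdim : topologicalKrullDim (Spec (CommRingCat.of D)) = r :=
    (PrimeSpectrum.topologicalKrullDim_eq_ringKrullDim (R := D)).trans hD
  obtain ⟨S, hS1, hS⟩ := exists_coeff_bound hsum
  have hk : Nat.card (ULift.{u} (ZMod p)) = p := by rw [Nat.card_ulift, Nat.card_zmod]
  refine false_of_degCount_le g hdim hs0 hsr hS1 fun d hd => ?_
  have hres : ∀ y : Spec (CommRingCat.of D), Nat.card (X.residueField (ι y)) =
      Nat.card ((Spec (CommRingCat.of D)).residueField y) := fun y => by
    refine Nat.card_eq_of_bijective (ι.residueFieldMap y) ⟨RingHom.injective _, fun z => ?_⟩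
    obtain ⟨w, rfl⟩ := IsLocalRing.residue_surjective z
    obtain ⟨v, rfl⟩ := ι.stalkMap_surjective y w
    exact ⟨IsLocalRing.residue _ v, rfl⟩
  haveI := finite_closedPts_norm f hr.le (p ^ d)
  have h1 : Zeta.degCount g d ≤ Zeta.cycleNormCount X (p ^ d) := by
    refine le_trans ?_ (card_closedPts_le f hr.le _)
    refine Nat.card_le_card_of_injective
      (fun y => ⟨⟨ι y.1, ι.closePoints_subset_preimage_closedPoints y.2.1⟩, by
        rw [ptNorm, hres, card_residueField_eq g y.2.1, hk, y.2.2]⟩) fun y y' h => ?_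
    exact Subtype.ext (ι.isEmbedding.injective (congrArg (fun z => z.1.1) h))
  have h2 := hS (p ^ d) (pow_pos (Fact.out : p.Prime).pos d)
  rw [Nat.cast_pow, ← Real.rpow_natCast, ← Real.rpow_mul (Nat.cast_nonneg _), mul_comm (d : ℝ),
    Real.rpow_mul (Nat.cast_nonneg _), Real.rpow_natCast] at h2
  rw [hk]
  exact (Nat.cast_le.2 h1).trans h2

include f ι in
/-- The piece of characteristic zero. -/
theorem false_of_char_zero [IsDomain D] [CharZero D] (K : Type u) [Field K] [Algebra D K] [IsFractionRing D K]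
    {r : ℕ} (hr : topologicalKrullDim X = r)
    (hD : ringKrullDim D = r) {s : ℝ} (hs0 : 0 ≤ s) (hsr : s < r)
    (hsum : LSeriesSummable (Zeta.arithCoeff X) (s : ℂ)) : False := by
  classical
  haveI : Algebra.FiniteType ℤ D := finiteType_int_of_spec (A := D) (ι ≫ f)
  obtain ⟨G, hG⟩ := Algebra.FiniteType.out (R := ℤ) (A := D)
  haveI : CharZero K := charZero_of_injective_algebraMap (IsFractionRing.injective D K)
  let S : Finset K := G.image (algebraMap D K)
  have hrange : ∀ a : D, algebraMap D K a ∈ Algebra.adjoin ℤ (S : Set K) := fun a => by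
    have h : Algebra.adjoin ℤ (S : Set K) = (IsScalarTower.toAlgHom ℤ D K).range := by
      rw [← Algebra.map_top, ← hG, ← Algebra.adjoin_image, Finset.coe_image]
      rfl
    exact h.ge ⟨a, rfl⟩
  have hrangeF : ∀ (F : Type u) [Field F] [Algebra F K] (a : D),
      algebraMap D K a ∈ IntermediateField.adjoin F (S : Set K) := fun F _ _ a =>
    mem_of_adjoin_int (IntermediateField.adjoin F (S : Set K)).toSubfield.toSubring
      (fun z hz => IntermediateField.subset_adjoin F _ hz) (hrange a)
  have htop : ∀ (F : Type u) [Field F] [Algebra F K], IntermediateField.adjoin F (S : Set K) = ⊤ := fun F _ _ =>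
    top_le_iff.1 fun z _ => by
      obtain ⟨a, b, -, rfl⟩ := IsFractionRing.div_surjective (A := D) z
      exact div_mem (hrangeF F a) (hrangeF F b)
  have htopQ : (⊤ : IntermediateField ℚ K).FG := ⟨S, top_le_iff.1 fun z _ => by
    obtain ⟨a, b, -, rfl⟩ := IsFractionRing.div_surjective (A := D) z
    have : ∀ c : D, algebraMap D K c ∈ IntermediateField.adjoin ℚ (S : Set K) := fun c =>
      mem_of_adjoin_int (IntermediateField.adjoin ℚ (S : Set K)).toSubfield.toSubring
        (fun z hz => IntermediateField.subset_adjoin ℚ _ hz) (hrange c)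
    exact div_mem (this a) (this b)⟩
  haveI hLfd : FiniteDimensional ℚ (algebraicClosure ℚ K) :=
    GeomIrrSection.finiteDimensional_algebraicClosure ℚ K htopQ
  let L := ↥(algebraicClosure ℚ K)
  haveI : CharZero L := inferInstance
  haveI : NumberField L := { to_finiteDimensional := hLfd }
  letI : Algebra (𝓞 L) K := ((algebraMap L K).comp (algebraMap (𝓞 L) L)).toAlgebra
  haveI : IsScalarTower (𝓞 L) L K := IsScalarTower.of_algebraMap_eq fun _ => rfl
  have hcl : ∀ a : K, IsAlgebraic L a → a ∈ Set.range (algebraMap L K) := fun a ha =>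
    ⟨⟨a, mem_algebraicClosure_iff.2 (ha.restrictScalars ℚ)⟩, rfl⟩
  haveI : Algebra.EssFiniteType L K := IntermediateField.fg_top_iff.1 ⟨S, htop L⟩
  obtain ⟨tb, htb, hsep⟩ := exists_isTranscendenceBasis_and_isSeparable_of_perfectField L K
  let r' := tb.card
  let e : Fin r' ≃ tb := tb.equivFin.symm
  let t : Fin r' → K := fun i => (e i : K)
  have ht : AlgebraicIndependent L t := htb.1.comp e e.injective
  have hts : Set.range t = (tb : Set K) := by
    ext z
    exact ⟨by rintro ⟨i, rfl⟩; exact (e i).2, fun hz => ⟨e.symm ⟨z, hz⟩, by simp [t]⟩⟩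
  have hsep' : Algebra.IsSeparable (IntermediateField.adjoin L (Set.range t)) K := by rw [hts]; exact hsep
  -- the transcendence degree
  have hr' : r ≤ r' + 1 := by
    let Z := MvPolynomial PEmpty.{u+1} ℤ
    let e := MvPolynomial.isEmptyRingEquiv ℤ PEmpty.{u+1}
    letI : Algebra Z D := ((Int.castRingHom D).comp e.toRingHom).toAlgebra
    letI : Algebra Z L := ((Int.castRingHom L).comp e.toRingHom).toAlgebra
    letI : Algebra Z K := ((Int.castRingHom K).comp e.toRingHom).toAlgebra
    haveI : IsScalarTower Z D K := IsScalarTower.of_algebraMap_eq fun a => (map_intCast (algebraMap D K) _).symm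
    haveI : IsScalarTower Z L K := IsScalarTower.of_algebraMap_eq fun a => (map_intCast (algebraMap L K) _).symm
    haveI : FaithfulSMul Z D := (faithfulSMul_iff_algebraMap_injective _ _).2 fun a b h =>
      e.injective (Int.cast_injective (α := D) h)
    haveI : FaithfulSMul Z L := (faithfulSMul_iff_algebraMap_injective _ _).2 fun a b h =>
      e.injective (Int.cast_injective (α := L) h)
    haveI : Algebra.FiniteType Z D := ⟨G, top_le_iff.1 fun z _ =>
      mem_of_adjoin_int (Algebra.adjoin Z (G : Set D)).toSubring (fun w hw => Algebra.subset_adjoin hw)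
        (hG.ge Algebra.mem_top)⟩
    haveI : IsNoetherianRing Z := isNoetherianRing_of_ringEquiv ℤ e.symm
    obtain ⟨l, hl⟩ := Order.le_krullDim_iff.1 (show (r : WithBot ℕ∞) ≤ Order.krullDim (PrimeSpectrum D) from
      le_of_eq hD.symm)
    let q := l.last.asIdeal
    haveI : q.IsPrime := l.last.isPrime
    have hq : (r : ℕ∞) ≤ q.height := by
      rw [show q.height = Order.height l.last from PrimeSpectrum.height_eq_orderHeight l.last, ← hl]
      exact Order.length_le_height (x := l.last) le_rfl
    let q₀ := q.comap (algebraMap Z D)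
    haveI : q.LiesOver q₀ := ⟨rfl⟩
    have hmain := Groth.Agent.S0554.result Z D q₀ q
    have hp : q₀.height ≤ 1 := by
      have h1 := (Ideal.height_le_ringKrullDim_of_ne_top (I := q₀) Ideal.IsPrime.ne_top').trans_eq
        (ringKrullDim_eq_of_ringEquiv e)
      exact_mod_cast h1.trans (Order.krullDimLE_iff 1 _ |>.1 (inferInstance : Ring.KrullDimLE 1 ℤ))
    haveI : Algebra.IsAlgebraic Z L := ⟨fun a => by
      obtain ⟨P, hP0, hP⟩ := (IsFractionRing.isAlgebraic_iff ℤ ℚ L).2 (Algebra.IsAlgebraic.isAlgebraic (R := ℚ) a)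
      refine ⟨P.map e.symm.toRingHom, (Polynomial.map_ne_zero_iff e.symm.injective).2 hP0, ?_⟩
      rw [Polynomial.aeval_def, Polynomial.eval₂_map, ← hP, Polynomial.aeval_def]
      congr 1
      exact RingHom.ext_int _ _⟩
    have htr : Algebra.trdeg Z D ≤ (r' : Cardinal.{u}) := by
      refine (trdeg_le_of_injective (IsScalarTower.toAlgHom Z D K) (IsFractionRing.injective D K)).trans ?_
      rw [← trdeg_add_eq Z L (A := K), trdeg_eq_zero, zero_add, ← htb.cardinalMk_eq_trdeg]
      simp [r']
    have h3 : (r : Cardinal.{u}) ≤ 1 + (r' : Cardinal.{u}) := by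
      refine le_trans ?_ ((le_self_add.trans hmain).trans (add_le_add ?_ htr))
      · rw [← Cardinal.ofENat_nat]; exact Cardinal.ofENat_le_ofENat.2 hq
      · rw [← Cardinal.ofENat_one]; exact Cardinal.ofENat_le_ofENat.2 hp
    have h4 : r ≤ 1 + r' := by exact_mod_cast h3
    omega
  obtain ⟨c, Q₀, b₀, hc, hb0, hb⟩ := lowerBound (R := 𝓞 L) (k := L) r' K t ht hsep' hcl S (htop L)
  set A' := Algebra.adjoin (𝓞 L) (S : Set K)
  let j : D →+* A' := (algebraMap D K).codRestrict A' fun a =>
    mem_of_adjoin_int A'.toSubring (fun z hz => Algebra.subset_adjoin hz) (hrange a)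
  have hterm : Summable fun n => ‖LSeries.term (Zeta.arithCoeff X) (s : ℂ) n‖ := hsum.norm
  set T := ∑' n, ‖LSeries.term (Zeta.arithCoeff X) (s : ℂ) n‖
  refine false_of_bounded_degree_one L hb0 ((Q₀ : ℝ) + T / c) fun Gp hGp σ hσ => ?_
  rw [← Finset.sum_filter_add_sum_filter_not Gp (fun p => p < Q₀)]
  refine add_le_add ?_ ?_
  · refine le_trans (Finset.sum_le_card_nsmul _ _ (1 : ℝ) fun p hp => ?_) ?_
    · exact Real.rpow_le_one_of_one_le_of_nonpos
        (by exact_mod_cast (hGp p (Finset.mem_filter.1 hp).1).1.one_le) (by linarith)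
    · rw [nsmul_eq_mul, mul_one, Nat.cast_le]
      exact (Finset.card_le_card fun p hp => Finset.mem_range.2 (Finset.mem_filter.1 hp).2).trans_eq
        (Finset.card_range Q₀)
  rw [le_div_iff₀ hc, Finset.sum_mul]
  refine le_trans (Finset.sum_le_sum fun p hp => ?_) (hterm.sum_le_tsum _ fun _ _ => norm_nonneg _)
  obtain ⟨hpG, hpQ⟩ := Finset.mem_filter.1 hp
  obtain ⟨hpp, χ, hχ⟩ := hGp p hpG
  haveI : Fact p.Prime := ⟨hpp⟩
  let k' := ULift.{u} (ZMod p)
  letI : Algebra (𝓞 L) k' := ((ULift.ringEquiv (R := ZMod p)).symm.toRingHom.comp χ).toAlgebra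
  have hk' : Nat.card k' = p := by rw [Nat.card_ulift, Nat.card_zmod]
  have h1 := hb k' (fun h => hχ (congrArg ULift.down h)) (by rw [hk']; omega)
  obtain ⟨hfin, hle⟩ := card_points_le f hr.le p
  have h2 : Nat.card (A' →ₐ[𝓞 L] k') ≤ Zeta.cycleNormCount X p := by
    refine le_trans ?_ (hle.trans (card_closedPts_le f hr.le p))
    refine Nat.card_le_card_of_injective (fun ψ => Spec.map (CommRingCat.ofHom (ψ.toRingHom.comp j)) ≫ ι)
      fun ψ ψ' h => ?_
    have h' := congrArg CommRingCat.Hom.hom (Spec.map_injective ((cancel_mono ι).1 h))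
    refine AlgHom.adjoin_ext fun z hz => ?_
    obtain ⟨a, -, rfl⟩ := Finset.mem_image.1 hz
    exact RingHom.congr_fun h' a
  rw [hk'] at h1
  have hp1 : (1 : ℝ) ≤ p := by exact_mod_cast hpp.one_le
  rw [LSeries.norm_term_eq, if_neg hpp.ne_zero, Complex.ofReal_re, le_div_iff₀ (Real.rpow_pos_of_pos (by linarith) _)]
  simp only [Zeta.arithCoeff, Complex.norm_natCast]
  calc (p : ℝ) ^ (-σ) * c * (p : ℝ) ^ s = c * (p : ℝ) ^ (-σ + s) := by
        rw [Real.rpow_add (by linarith)]; ring
    _ ≤ c * (p : ℝ) ^ r' := by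
        rw [← Real.rpow_natCast]
        refine mul_le_mul_of_nonneg_left (Real.rpow_le_rpow_of_exponent_le hp1 ?_) hc.le
        have : (r : ℝ) ≤ r' + 1 := by exact_mod_cast hr'
        linarith
    _ ≤ _ := h1.trans (Nat.cast_le.2 h2)

end Piece

include f in
theorem le_abscissa_int {r : ℕ} (hr : topologicalKrullDim X = r) :
    ((r : ℝ) : EReal) ≤ LSeries.abscissaOfAbsConv (Zeta.arithCoeff X) := by
  classical
  rcases Nat.eq_zero_or_pos r with rfl | hr0
  · haveI := nonempty_of_dim hr
    haveI : CompactSpace X := QuasiCompact.compactSpace_of_compactSpace f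
    obtain ⟨x, -, hx⟩ := IsClosed.exists_closed_singleton (isClosed_univ (X := X)) Set.univ_nonempty
    simpa using dim_zero_le_abscissa f hr.le ⟨x, hx⟩
  by_contra hlt
  rw [not_le] at hlt
  obtain ⟨s₀, hs₀, hs₀r⟩ := EReal.lt_iff_exists_real_btwn.1 hlt
  set s := max s₀ 0 with hsdef
  have hs0 : 0 ≤ s := le_max_right _ _
  have hsr : s < r := max_lt (EReal.coe_lt_coe_iff.1 hs₀r) (Nat.cast_pos.2 hr0)
  have hsum : LSeriesSummable (Zeta.arithCoeff X) (s : ℂ) := LSeriesSummable_of_abscissaOfAbsConv_lt_re (by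
    rw [Complex.ofReal_re]
    exact hs₀.trans_le (EReal.coe_le_coe_iff.2 (le_max_left _ _)))
  obtain ⟨D, _, _, ι, hι, hι', hD⟩ := exists_domain_chart X hr
  obtain ⟨p, hp⟩ := CharP.exists D
  rcases CharP.char_is_prime_or_zero D p with hp' | rfl
  · haveI : Fact p.Prime := ⟨hp'⟩
    exact false_of_char_p f ι hr hD p hs0 hsr hsum
  · haveI := CharP.charP_to_charZero D
    exact false_of_char_zero f ι (FractionRing D) hr hD hs0 hsr hsum

end Groth.Agent.H9PB.LangWeil
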