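import Groth.Agent.GeomConn5.Irred
import Mathlib.FieldTheory.PrimitiveElement
import Mathlib.FieldTheory.Perfect

/-!
# Counting geometric components over a component
-/

open CategoryTheory CategoryTheory.Limits AlgebraicGeometry TensorProduct

set_option backward.isDefEq.respectTransparency false
set_option backward.isDefEq.respectTransparency.types false

universe u

namespace Groth.Agent.H9PB.LangWeil

attribute [local instance] Curv2.resAlgebra

open Groth.Agent

variable {k : Type u} [Field k] [PerfectField k] {X : Scheme.{u}} [X.Over (Spec (CommRingCat.of k))]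

theorem eq_of_specializes_fibre (K : Type u) [Field K] [Algebra k K] [Algebra.IsAlgebraic k K] {x : X}
    {z z' : Curv2.bc k X K} (hz : Curv2.bcFst k X K z = x) (hz' : Curv2.bcFst k X K z' = x) (h : z ⤳ z') : z = z' := by
  let ι := X.fromSpecResidueField x
  let p := Curv2.bcFst k X K
  have hr : p ⁻¹' {x} = Set.range (pullback.snd ι p) := by
    rw [Scheme.Pullback.range_snd, Scheme.range_fromSpecResidueField]
  have : IsPreimmersion (pullback.snd ι p) := MorphismProperty.pullback_snd _ _ inferInstance
  obtain ⟨w, rfl⟩ := hr.le hz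
  obtain ⟨w', rfl⟩ := hr.le hz'
  congr 1
  rw [(pullback.snd ι p).isEmbedding.isInducing.specializes_iff] at h
  let e := (GeomField.fibreIso (k := k) K x).hom.homeomorph
  have h' := h.map e.continuous
  apply e.injective
  let A := X.residueField x ⊗[k] K
  let P : PrimeSpectrum A := e w
  let P' : PrimeSpectrum A := e w'
  have hle : P ≤ P' := (PrimeSpectrum.le_iff_specializes P P').2 h'
  haveI : Algebra.IsIntegral (X.residueField x) A := inferInstance
  haveI : (P.asIdeal.comap (algebraMap (X.residueField x) A)).IsMaximal :=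
    Ideal.isMaximal_def.2 (by
      haveI := P.isPrime
      have : (P.asIdeal.comap (algebraMap (X.residueField x) A)) = ⊥ :=
        (Ideal.eq_bot_or_top _).resolve_right Ideal.IsPrime.ne_top'
      rw [this]
      exact Ideal.bot_isMaximal.out)
  have hmax : P.asIdeal.IsMaximal := Ideal.isMaximal_of_isIntegral_of_isMaximal_comap P.asIdeal ‹_›
  exact (PrimeSpectrum.ext (hmax.eq_of_le P'.isPrime.ne_top hle) : P = P')

/-- Over a component there are `[K' : k]` geometric components, `K'` the constants of its function field. -/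
theorem card_components_preimage (Ω : Type u) [Field Ω] [Algebra k Ω] [IsAlgClosure k Ω] {x : X}
    [FiniteDimensional k (separableClosure k (X.residueField x))] :
    Nat.card (irreducibleComponents ↑(Curv2.bcFst k X Ω ⁻¹' closure {x})) =
      Module.finrank k (separableClosure k (X.residueField x)) := by
  classical
  haveI : IsAlgClosed Ω := IsAlgClosure.isAlgClosed k
  haveI : Algebra.IsAlgebraic k Ω := IsAlgClosure.isAlgebraic
  let p := Curv2.bcFst k X Ω
  let K' := separableClosure k (X.residueField x)
  haveI : Algebra.IsSeparable k K' := separableClosure.isSeparable k _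
  -- every point over `x` determines an embedding
  have hex : ∀ z, p z = x → ∃ σ : K' →ₐ[k] Ω, z ∈ Set.range (GeomConn5.gmap σ) := by
    intro z hz
    subst hz
    obtain ⟨bz, hbz⟩ := Spec.map_surjective ((Curv2.bc k X Ω).fromSpecResidueField z ≫ Curv2.bcSnd k X Ω)
    let az := p.residueFieldMap z
    let M := (Curv2.bc k X Ω).residueField z
    have hab := GeomConn5.spec_resMap_bc Ω z bz hbz
    letI : Algebra Ω M := bz.hom.toAlgebra
    letI : Algebra k M := (bz.hom.comp (algebraMap k Ω)).toAlgebra
    haveI : IsScalarTower k Ω M := IsScalarTower.of_algebraMap_eq fun _ => rfl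
    let aK : K' →ₐ[k] M :=
      { toRingHom := az.hom.comp (algebraMap K' (X.residueField (p z)))
        commutes' := fun r => RingHom.congr_fun hab r }
    have hmem : ∀ w, aK w ∈ (IsScalarTower.toAlgHom k Ω M).range := fun w => by
      have h1 : IsIntegral Ω (aK w) :=
        (((Algebra.IsIntegral.isIntegral (R := k) w).map aK).tower_top)
      exact minpoly.mem_range_of_degree_eq_one Ω _
        (IsAlgClosed.degree_eq_one_of_irreducible Ω (minpoly.irreducible h1))
    let e₀ := AlgEquiv.ofInjective (IsScalarTower.toAlgHom k Ω M) (algebraMap Ω M).injective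
    let σ : K' →ₐ[k] Ω := e₀.symm.toAlgHom.comp (aK.codRestrict _ hmem)
    refine ⟨σ, GeomConn5.mem_range_gmap σ z _ ((Curv2.bc k X Ω).fromSpecResidueField z) (IsLocalRing.closedPoint _)
      az bz (Scheme.fromSpecResidueField_apply _ _)
      (Scheme.Hom.SpecMap_residueFieldMap_fromSpecResidueField _ _).symm hbz.symm fun w => ?_⟩
    exact congrArg Subtype.val (e₀.apply_symm_apply ⟨aK w, hmem w⟩)
  -- each embedding gives one point
  have hone : ∀ σ : K' →ₐ[k] Ω, ∃ z, p z = x ∧ Set.range (GeomConn5.gmap σ) = {z} := by
    intro σ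
    haveI := GeomConn5.irreducibleSpace_gmap_source σ
    have hover : ∀ z ∈ Set.range (GeomConn5.gmap σ), p z = x := by
      rintro _ ⟨y, rfl⟩
      have e : GeomConn5.gmap σ ≫ p = pullback.fst _ _ ≫ X.fromSpecResidueField x := pullback.lift_fst _ _ _
      exact (congr($(e).base y)).trans (Scheme.fromSpecResidueField_apply x _)
    let w₀ := genericPoint ↥(pullback (Spec.map (CommRingCat.ofHom (algebraMap K' (X.residueField x))))
      (Spec.map (CommRingCat.ofHom σ.toRingHom)))
    refine ⟨GeomConn5.gmap σ w₀, hover _ ⟨_, rfl⟩, Set.eq_singleton_iff_unique_mem.2 ⟨⟨_, rfl⟩, ?_⟩⟩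
    rintro _ ⟨y, rfl⟩
    exact (eq_of_specializes_fibre Ω (hover _ ⟨_, rfl⟩) (hover _ ⟨_, rfl⟩)
      ((genericPoint_specializes y).map (GeomConn5.gmap σ).continuous)).symm
  choose pt hpt hptr using hone
  have hsurj : ∀ z, p z = x → ∃ σ, pt σ = z := fun z hz => by
    obtain ⟨σ, hσ⟩ := hex z hz
    rw [hptr σ] at hσ
    exact ⟨σ, hσ.symm⟩
  -- the embedding is determined by the point
  have hinj : Function.Injective pt := by
    intro σ τ he
    have key : ∀ σ : K' →ₐ[k] Ω, ∀ (bz : CommRingCat.of Ω ⟶ (Curv2.bc k X Ω).residueField (pt σ)),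
        Spec.map bz = (Curv2.bc k X Ω).fromSpecResidueField (pt σ) ≫ Curv2.bcSnd k X Ω →
        ∀ (e : (Curv2.bc k X Ω).residueField (pt σ) ≅ (Curv2.bc k X Ω).residueField (pt σ)) w,
        bz.hom (σ w) = (p.residueFieldMap (pt σ)).hom
          ((X.residueFieldCongr (hpt σ)).inv.hom (algebraMap K' (X.residueField x) w)) := by
      intro σ bz hbz _ w
      obtain ⟨y, hy⟩ := (hptr σ).ge rfl
      let P := pullback (Spec.map (CommRingCat.ofHom (algebraMap K' (X.residueField x))))
        (Spec.map (CommRingCat.ofHom σ.toRingHom))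
      let g := GeomConn5.gmap σ
      obtain ⟨a₁, ha₁⟩ := Spec.map_surjective (P.fromSpecResidueField y ≫ pullback.fst _ _)
      obtain ⟨b₁, hb₁⟩ := Spec.map_surjective (P.fromSpecResidueField y ≫ pullback.snd _ _)
      have hab : CommRingCat.ofHom (algebraMap K' (X.residueField x)) ≫ a₁ = CommRingCat.ofHom σ.toRingHom ≫ b₁ := by
        apply Spec.map_injective
        rw [Spec.map_comp, Spec.map_comp, ha₁, hb₁, Category.assoc, Category.assoc, pullback.condition]
      apply (((Curv2.bc k X Ω).residueFieldCongr hy).inv ≫ g.residueFieldMap y).hom.injective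
      have hφ : Spec.map (((Curv2.bc k X Ω).residueFieldCongr hy).inv ≫ g.residueFieldMap y) ≫
          (Curv2.bc k X Ω).fromSpecResidueField (pt σ) = P.fromSpecResidueField y ≫ g := by
        rw [Spec.map_comp, Category.assoc]
        have h1 : Spec.map ((Curv2.bc k X Ω).residueFieldCongr hy).inv ≫
            (Curv2.bc k X Ω).fromSpecResidueField (pt σ) = (Curv2.bc k X Ω).fromSpecResidueField (g y) := by
          generalize pt σ = q at hy
          subst hy
          simp [g]
        rw [h1, Scheme.Hom.SpecMap_residueFieldMap_fromSpecResidueField]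
      have hb2 : bz ≫ ((Curv2.bc k X Ω).residueFieldCongr hy).inv ≫ g.residueFieldMap y = b₁ := by
        apply Spec.map_injective
        rw [Spec.map_comp, hbz, ← Category.assoc, hφ, Category.assoc, hb₁]
        congr 1
        exact pullback.lift_snd _ _ _
      have ha2 : ((X.residueFieldCongr (hpt σ)).inv ≫ p.residueFieldMap (pt σ)) ≫
          ((Curv2.bc k X Ω).residueFieldCongr hy).inv ≫ g.residueFieldMap y = a₁ := by
        apply Spec.map_injective
        rw [← cancel_mono (X.fromSpecResidueField x)]
        rw [Spec.map_comp, Spec.map_comp (X.residueFieldCongr (hpt σ)).inv]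
        have h2 : Spec.map (X.residueFieldCongr (hpt σ)).inv ≫ X.fromSpecResidueField x =
            X.fromSpecResidueField (p (pt σ)) := by
          simp
        rw [Category.assoc, Category.assoc, h2, Scheme.Hom.SpecMap_residueFieldMap_fromSpecResidueField,
          ← Category.assoc, hφ, ha₁, Category.assoc, Category.assoc]
        congr 1
        exact pullback.lift_fst _ _ _
      have := RingHom.congr_fun (congrArg CommRingCat.Hom.hom hab) w
      rw [← ha2, ← hb2] at this
      exact this.symm
    obtain ⟨bz, hbz⟩ := Spec.map_surjective ((Curv2.bc k X Ω).fromSpecResidueField (pt σ) ≫ Curv2.bcSnd k X Ω)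
    ext w
    refine bz.hom.injective ((key σ bz hbz (Iso.refl _) w).trans ?_)
    clear hex
    have key2 := key τ
    clear key
    revert bz key2
    generalize hpt τ = h2
    generalize hpt σ = h1
    revert h1 h2
    rw [he]
    intro h1 h2 bz hbz key2
    exact (key2 bz hbz (Iso.refl _) w).symm
  -- the components
  let Pset : Set (Curv2.bc k X Ω) := p ⁻¹' closure {x}
  have hclosed : IsClosed Pset := isClosed_closure.preimage p.continuous
  haveI : QuasiSober ↥Pset := hclosed.isClosedEmbedding_subtypeVal.quasiSober
  have hgen : ∀ z : ↥Pset, z ∈ genericPoints ↥Pset ↔ p z.1 = x := by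
    intro z
    have hlift : ∀ q : ↥Pset, ∃ w : ↥Pset, p w.1 = x ∧ w ⤳ q := fun q => by
      obtain ⟨w, hw, hwx⟩ := GeomField.generalizingMap_bcFst (k := k) (X := X) Ω
        ((specializes_iff_mem_closure.2 q.2) : x ⤳ p q.1)
      exact ⟨⟨w, show p w ∈ closure {x} by rw [hwx]; exact subset_closure rfl⟩, hwx, (subtype_specializes_iff _ _).2 hw⟩
    constructor
    · intro hz
      obtain ⟨w, hw, hwz⟩ := hlift z
      have h1 : closure ({z} : Set ↥Pset) ⊆ closure {w} :=
        closure_minimal (Set.singleton_subset_iff.2 hwz.mem_closure) isClosed_closure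
      have h2 := hz.2 isIrreducible_singleton.closure h1
      have h3 : z ⤳ w := specializes_iff_mem_closure.2 (h2 (subset_closure rfl))
      rw [(h3.antisymm hwz).eq]; exact hw
    · intro hz
      refine ⟨isIrreducible_singleton.closure, fun C hC hle => ?_⟩
      have hclc : IsIrreducible (closure C) := hC.closure
      set c := hclc.genericPoint with hc
      have hcgen := hclc.isGenericPoint_genericPoint isClosed_closure
      obtain ⟨w, hw, hwc⟩ := hlift c
      have hwz : w ⤳ z := hwc.trans (hcgen.specializes (subset_closure (hle (subset_closure rfl))))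
      have hwz' : w = z := Subtype.ext (eq_of_specializes_fibre Ω hw hz ((subtype_specializes_iff _ _).1 hwz))
      intro q hq
      exact ((hwz' ▸ hwc).trans (hcgen.specializes (subset_closure hq))).mem_closure
  rw [show Nat.card (irreducibleComponents ↑(p ⁻¹' closure {x})) = Nat.card (genericPoints ↥Pset) from
    Nat.card_congr (genericPoints.equiv (α := ↥Pset)).symm]
  let F : (K' →ₐ[k] Ω) → genericPoints ↥Pset := fun σ =>
    ⟨⟨pt σ, show p (pt σ) ∈ closure {x} by rw [hpt σ]; exact subset_closure rfl⟩, (hgen _).2 (hpt σ)⟩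
  have hF : Function.Bijective F := by
    refine ⟨fun σ τ h => hinj (congrArg (fun z : genericPoints ↥Pset => z.1.1) h), fun z => ?_⟩
    obtain ⟨σ, hσ⟩ := hsurj z.1.1 ((hgen z.1).1 z.2)
    exact ⟨σ, Subtype.ext (Subtype.ext hσ)⟩
  rw [← Nat.card_congr (Equiv.ofBijective F hF), Nat.card_eq_fintype_card, AlgHom.card k K' Ω]

end Groth.Agent.H9PB.LangWeil
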