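import Groth.Agent.H9PB.LangWeil.FieldCount
import Groth.Agent.H9PB.LangWeil.CompCount

/-!
# The Lang–Weil estimate for a scheme of finite type over a finite field
-/

set_option autoImplicit false
set_option linter.style.haveILetI false
set_option linter.unusedSectionVars false
set_option backward.isDefEq.respectTransparency false
set_option backward.isDefEq.respectTransparency.types false
set_option maxHeartbeats 1000000

universe u

open CategoryTheory CategoryTheory.Limits AlgebraicGeometry TopologicalSpace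

namespace Groth.Agent.H9PB.LangWeil

open Groth.Agent

variable {k : Type u} [Field k] {X : Scheme.{u}} (f : X ⟶ Spec (CommRingCat.of k))

/-- The points of `X` with values in `k'`. -/
abbrev Pts (k' : Type u) [Field k'] [Algebra k k'] : Type u :=
  {g : Spec (CommRingCat.of k') ⟶ X // g ≫ f = Spec.map (CommRingCat.ofHom (algebraMap k k'))}

/-- The underlying point. -/
noncomputable def ptOf {k' : Type u} [Field k'] [Algebra k k'] (g : Pts f k') : X :=
  g.1 (IsLocalRing.closedPoint k')

variable [Finite k] [LocallyOfFiniteType f]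

/-- Points lying in an open whose only generic point is `ξ`. -/
theorem open_count (ξ : X) {U : X.Opens} (hU : IsAffineOpen U) (hξ : ξ ∈ U) (hgen : ∀ x ∈ U, ξ ⤳ x) :
    letI := (VarDim.resHom f ξ).toAlgebra
    ∃ S : Finset (X.residueField ξ), IntermediateField.adjoin k (S : Set (X.residueField ξ)) = ⊤ ∧
      ∀ (k' : Type u) [Field k'] [Algebra k k'] [Finite k'],
        Nat.card {g : Pts f k' // ptOf f g ∈ U} =
          Nat.card (Algebra.adjoin k (S : Set (X.residueField ξ)) →ₐ[k] k') := by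
  classical
  let K := X.residueField ξ
  letI : Algebra k K := (VarDim.resHom f ξ).toAlgebra
  let φA : CommRingCat.of k ⟶ Γ(X, U) := Spec.preimage (hU.fromSpec ≫ f)
  have hφA : Spec.map φA = hU.fromSpec ≫ f := Spec.map_preimage _
  have hlft : LocallyOfFiniteType (Spec.map φA) := by rw [hφA]; infer_instance
  have hft : φA.hom.FiniteType := (HasRingHomProperty.Spec_iff (P := @LocallyOfFiniteType)).1 hlft
  letI : Algebra k Γ(X, U) := φA.hom.toAlgebra
  haveI : Algebra.FiniteType k Γ(X, U) := hft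
  let ρ₀ : Γ(X, U) ⟶ K := X.presheaf.germ U ξ hξ ≫ X.residue ξ
  have hρ₀ : Spec.map ρ₀ ≫ hU.fromSpec = X.fromSpecResidueField ξ := by
    show Spec.map (_ ≫ _) ≫ _ = Spec.map _ ≫ _
    rw [Spec.map_comp, Category.assoc]
    congr 1
    exact hU.fromSpecStalk_eq_fromSpecStalk hξ
  have hcompat : φA ≫ ρ₀ = CommRingCat.ofHom (VarDim.resHom f ξ) := by
    apply Spec.map_injective
    rw [Spec.map_comp, hφA, ← Category.assoc, hρ₀]
    exact WeilLib.fromSpecResidueField_comp f ξ
  let ρ : Γ(X, U) →ₐ[k] K :=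
    { toRingHom := ρ₀.hom, commutes' := fun c => DFunLike.congr_fun (congrArg CommRingCat.Hom.hom hcompat) c }
  obtain ⟨G, hG⟩ := Algebra.FiniteType.out (R := k) (A := Γ(X, U))
  let S : Finset K := G.image ρ
  have hSρ : Algebra.adjoin k (S : Set K) = ρ.range := by
    rw [Finset.coe_image, Algebra.adjoin_image, hG, Algebra.map_top]
  letI : Algebra Γ(X, U) (X.presheaf.stalk ξ) := (X.presheaf.germ U ξ hξ).hom.toAlgebra
  haveI := hU.isLocalization_stalk ⟨ξ, hξ⟩
  have hfrac : ∀ z : K, ∃ a b : Γ(X, U), ρ b ≠ 0 ∧ z * ρ b = ρ a := by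
    intro z
    obtain ⟨w, rfl⟩ := Ideal.Quotient.mk_surjective z
    obtain ⟨⟨a, b⟩, hab⟩ := IsLocalization.surj (hU.primeIdealOf ⟨ξ, hξ⟩).asIdeal.primeCompl w
    refine ⟨a, b, fun h0 => ?_, ?_⟩
    · exact ((IsLocalization.map_units (X.presheaf.stalk ξ) b).map (X.residue ξ).hom).ne_zero h0
    · exact ((map_mul (X.residue ξ).hom _ _).symm.trans (congrArg (X.residue ξ).hom hab))
  refine ⟨S, top_le_iff.1 fun z _ => ?_, fun k' _ _ _ => ?_⟩
  · obtain ⟨a, b, hb, hab⟩ := hfrac z
    rw [show z = ρ a / ρ b by rw [← hab, mul_div_cancel_right₀ _ hb]]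
    have hmem : ∀ c, ρ c ∈ IntermediateField.adjoin k (S : Set K) := fun c =>
      IntermediateField.algebra_adjoin_le_adjoin k _ (hSρ.ge ⟨c, rfl⟩)
    exact div_mem (hmem a) (hmem b)
  have hnil : ∀ a, ρ a = 0 → IsNilpotent a := fun a ha => by
    have hmax : a ∈ (hU.primeIdealOf ⟨ξ, hξ⟩).asIdeal := by
      refine (IsLocalization.AtPrime.to_map_mem_maximal_iff (X.presheaf.stalk ξ) _ a).1 ?_
      exact Ideal.Quotient.eq_zero_iff_mem.1 ha
    rw [nilpotent_iff_mem_prime]
    intro P hP
    let y : PrimeSpectrum Γ(X, U) := ⟨P, hP⟩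
    have hy : hU.fromSpec y ∈ U := hU.range_fromSpec.le ⟨y, rfl⟩
    have hsp := hgen _ hy
    replace hsp : hU.fromSpec (hU.primeIdealOf ⟨ξ, hξ⟩) ⤳ hU.fromSpec y := by
      rw [hU.fromSpec_primeIdealOf]; exact hsp
    rw [hU.fromSpec.isOpenEmbedding.isInducing.specializes_iff] at hsp
    exact (PrimeSpectrum.le_iff_specializes (hU.primeIdealOf ⟨ξ, hξ⟩) y).2 hsp hmax
  -- homomorphisms of the ring of sections
  let res : (Algebra.adjoin k (S : Set K) →ₐ[k] k') → (Γ(X, U) →ₐ[k] k') := fun ψ =>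
    ψ.comp (ρ.codRestrict _ fun a => hSρ.ge ⟨a, rfl⟩)
  have hres : Function.Bijective res := by
    refine ⟨fun ψ ψ' h => AlgHom.adjoin_ext fun z hz => ?_, fun χ => ?_⟩
    · obtain ⟨a, -, rfl⟩ := Finset.mem_image.1 hz
      exact DFunLike.congr_fun h a
    · have hker : RingHom.ker ρ.toRingHom ≤ RingHom.ker χ.toRingHom := fun a ha => ((hnil a ha).map χ).eq_zero
      let χ' : (Γ(X, U) ⧸ RingHom.ker ρ.toRingHom) →ₐ[k] k' := Ideal.Quotient.liftₐ _ χ hker
      let e := (Ideal.quotientKerEquivRange ρ).symm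
      refine ⟨χ'.comp (e.toAlgHom.comp (Subalgebra.inclusion hSρ.le)), AlgHom.ext fun a => ?_⟩
      show χ' (e ⟨ρ a, _⟩) = χ a
      rw [show e ⟨ρ a, ⟨a, rfl⟩⟩ = Ideal.Quotient.mk _ a from
        (Ideal.quotientKerEquivRange ρ).symm_apply_eq.2 rfl]
      rfl
  let toPt : (Γ(X, U) →ₐ[k] k') → {g : Pts f k' // ptOf f g ∈ U} := fun ψ =>
    ⟨⟨Spec.map (CommRingCat.ofHom ψ.toRingHom) ≫ hU.fromSpec, by
      rw [Category.assoc, ← hφA, ← Spec.map_comp]
      congr 1
      ext c
      exact ψ.commutes c⟩, hU.range_fromSpec.le ⟨_, rfl⟩⟩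
  have htoPt : Function.Bijective toPt := by
    refine ⟨fun ψ ψ' h => ?_, ?_⟩
    · have h1 := congrArg (fun z => z.1.1) h
      simp only [toPt, cancel_mono] at h1
      exact AlgHom.coe_ringHom_injective (congrArg CommRingCat.Hom.hom (Spec.map_injective h1))
    · rintro ⟨⟨g, hg⟩, hgU⟩
      have hrange : Set.range g ⊆ Set.range hU.fromSpec := by
        rw [hU.range_fromSpec]
        rintro _ ⟨z, rfl⟩
        rw [Subsingleton.elim (α := PrimeSpectrum k') z (IsLocalRing.closedPoint k')]
        exact hgU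
      obtain ⟨φ, hφ⟩ := Spec.map_surjective (IsOpenImmersion.lift hU.fromSpec g hrange)
      have hφf : φA ≫ φ = CommRingCat.ofHom (algebraMap k k') := by
        apply Spec.map_injective
        rw [Spec.map_comp, hφ, hφA, ← Category.assoc, IsOpenImmersion.lift_fac, hg]
      refine ⟨{ toRingHom := φ.hom, commutes' := fun c => RingHom.congr_fun (congrArg CommRingCat.Hom.hom hφf) c },
        Subtype.ext (Subtype.ext ?_)⟩
      show Spec.map φ ≫ hU.fromSpec = g
      rw [hφ, IsOpenImmersion.lift_fac]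
  exact (Nat.card_congr (Equiv.ofBijective _ (htoPt.comp hres))).symm

variable [QuasiCompact f]

/-- Points lying in a closed subset of small dimension are few. -/
theorem closed_count {W : Set X} (hW : IsClosed W) (r : ℕ) (hdim : topologicalKrullDim W < r) :
    ∃ C : ℝ, 0 ≤ C ∧ ∀ (k' : Type u) [Field k'] [Algebra k k'] [Finite k'],
      (Nat.card {g : Pts f k' // ptOf f g ∈ W} : ℝ) ≤ C * (Nat.card k' : ℝ) ^ ((r : ℝ) - 1) := by
  classical
  haveI : CompactSpace X := QuasiCompact.compactSpace_of_compactSpace f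
  rcases W.eq_empty_or_nonempty with rfl | ⟨w₀, hw₀⟩
  · refine ⟨0, le_rfl, fun k' _ _ _ => ?_⟩
    rw [zero_mul]
    haveI : IsEmpty {g : Pts f k' // ptOf f g ∈ (∅ : Set X)} := ⟨fun g => g.2⟩
    simp
  haveI : Nonempty ↥W := ⟨⟨w₀, hw₀⟩⟩
  have hr : 1 ≤ r := by
    rcases Nat.eq_zero_or_pos r with rfl | h
    · exfalso
      haveI : Nonempty (IrreducibleCloseds ↥W) :=
        ⟨⟨closure {⟨w₀, hw₀⟩}, isIrreducible_singleton.closure, isClosed_closure⟩⟩
      exact absurd hdim (not_lt.2 (by simpa [topologicalKrullDim] using (Order.krullDim_nonneg (α := IrreducibleCloseds ↥W))))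
    · exact h
  let Z := (Scheme.IdealSheafData.vanishingIdeal (⟨W, hW⟩ : Closeds X)).subscheme
  let ι : Z ⟶ X := (Scheme.IdealSheafData.vanishingIdeal (⟨W, hW⟩ : Closeds X)).subschemeι
  have hrange : Set.range ι = W := by
    rw [Scheme.IdealSheafData.range_subschemeι, Scheme.IdealSheafData.coe_support_vanishingIdeal]; rfl
  have hZdim : topologicalKrullDim Z ≤ ((r - 1 : ℕ) : WithBot ℕ∞) := by
    rw [(ι.isEmbedding.toHomeomorph.trans (Homeomorph.setCongr hrange)).isHomeomorph.topologicalKrullDim_eq]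
    exact le_sub_one_of_lt _ r hdim
  obtain ⟨c, p₀, -, hc⟩ := ZetaLib.exists_bound ((ι ≫ f) ≫ ZetaLib.toSpecZ k) (r - 1) hZdim
  refine ⟨c, Nat.cast_nonneg c, fun k' _ _ _ => ?_⟩
  obtain ⟨p, hp⟩ := CharP.exists k'
  obtain ⟨hfin, hle, -⟩ := hc p (CharP.char_is_prime k' p) k'
  have hlift : ∀ g : Spec (CommRingCat.of k') ⟶ X, g (IsLocalRing.closedPoint k') ∈ W →
      ∃ h : Spec (CommRingCat.of k') ⟶ Z, h ≫ ι = g := by
    intro g hg
    obtain ⟨⟨x, φ⟩, rfl⟩ := (Scheme.SpecToEquivOfField k' X).symm.surjective g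
    obtain ⟨z, rfl⟩ : x ∈ Set.range ι := by
      rw [hrange]
      simpa [Scheme.SpecToEquivOfField] using hg
    haveI : IsIso (ι.residueFieldMap z) := by
      rw [ConcreteCategory.isIso_iff_bijective]
      refine ⟨RingHom.injective _, fun a => ?_⟩
      obtain ⟨b, rfl⟩ := IsLocalRing.residue_surjective a
      obtain ⟨v, rfl⟩ := ι.stalkMap_surjective z b
      exact ⟨IsLocalRing.residue _ v, rfl⟩
    refine ⟨Spec.map (inv (ι.residueFieldMap z) ≫ φ) ≫ Z.fromSpecResidueField z, ?_⟩
    rw [Category.assoc, ← Scheme.Hom.SpecMap_residueFieldMap_fromSpecResidueField, ← Category.assoc,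
      ← Spec.map_comp, IsIso.hom_inv_id_assoc]
    rfl
  choose L hL using hlift
  have h1 : Nat.card {g : Pts f k' // ptOf f g ∈ W} ≤ c * Nat.card k' ^ (r - 1) := by
    refine le_trans ?_ hle
    refine Nat.card_le_card_of_injective (fun g => L g.1.1 g.2) fun g g' h => Subtype.ext (Subtype.ext ?_)
    have := congrArg (· ≫ ι) h
    simpa only [hL] using this
  have h2 : (r : ℝ) - 1 = ((r - 1 : ℕ) : ℝ) := by push_cast [Nat.cast_sub hr]; ring
  rw [h2, Real.rpow_natCast]
  exact_mod_cast h1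

/-- The number of geometric components over a component. -/
noncomputable def geomComp (Z : Set X) : ℕ :=
  Nat.card (irreducibleComponents ((pullback.fst f (Spec.map (CommRingCat.ofHom
    (algebraMap k (AlgebraicClosure k))))).base ⁻¹' Z))

/-- The points split along the top-dimensional components. -/
theorem exists_estimate {r : ℕ} (hr : topologicalKrullDim X = r) :
    ∃ (Top : Finset (Set X)) (C : ℝ),
      (∀ Z, Z ∈ Top ↔ Z ∈ irreducibleComponents X ∧ topologicalKrullDim Z = r) ∧ 0 ≤ C ∧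
      (∀ Z ∈ Top, 0 < geomComp f Z) ∧
      ∀ (k' : Type u) [Field k'] [Algebra k k'] [Finite k'],
        |(Nat.card (Pts f k') : ℝ) -
            (∑ Z ∈ Top with geomComp f Z ∣ Module.finrank k k', geomComp f Z : ℕ) * (Nat.card k' : ℝ) ^ (r : ℝ)| ≤
          C * (Nat.card k' : ℝ) ^ ((r : ℝ) - 1 / 2) ∧
        ((∀ Z ∈ Top, ¬ geomComp f Z ∣ Module.finrank k k') →
          (Nat.card (Pts f k') : ℝ) ≤ C * (Nat.card k' : ℝ) ^ ((r : ℝ) - 1)) := by
  classical
  letI : X.Over (Spec (CommRingCat.of k)) := ⟨f⟩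
  haveI : CompactSpace X := QuasiCompact.compactSpace_of_compactSpace f
  haveI : IsLocallyNoetherian X := LocallyOfFiniteType.isLocallyNoetherian f
  haveI : IsNoetherian X := ⟨⟩
  have hirr : (irreducibleComponents (X : Type u)).Finite := NoetherianSpace.finite_irreducibleComponents
  let Top : Finset (Set X) := hirr.toFinset.filter fun Z => topologicalKrullDim Z = r
  have hTop : ∀ Z, Z ∈ Top ↔ Z ∈ irreducibleComponents X ∧ topologicalKrullDim Z = r := fun Z => by
    simp [Top]
  -- generic points and neighbourhoods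
  have hdata : ∀ Z : {Z // Z ∈ Top}, ∃ (ξ : X) (U : X.Opens), IsGenericPoint ξ Z.1 ∧ IsAffineOpen U ∧ ξ ∈ U ∧
      ∀ x ∈ U, ∀ Z' ∈ irreducibleComponents (X : Type u), x ∈ Z' → Z' = Z.1 := by
    rintro ⟨Z, hZ⟩
    obtain ⟨hZc, -⟩ := (hTop Z).1 hZ
    have hZcl := isClosed_of_mem_irreducibleComponents Z hZc
    obtain ⟨ξ, hξ⟩ := QuasiSober.sober hZc.1 hZcl
    let O : Set X := (⋃ Z' ∈ irreducibleComponents (X : Type u) \ {Z}, Z')ᶜ
    have hO : IsOpen O := ((hirr.subset Set.sdiff_subset).isClosed_biUnion fun Z' hZ' =>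
      isClosed_of_mem_irreducibleComponents Z' hZ'.1).isOpen_compl
    have hξO : ξ ∈ O := by
      simp only [O, Set.mem_compl_iff, Set.mem_iUnion, not_exists]
      rintro Z' ⟨hZ', hne⟩ hmem
      have hle : Z ⊆ Z' := hξ.def ▸ closure_minimal (Set.singleton_subset_iff.2 hmem)
        (isClosed_of_mem_irreducibleComponents Z' hZ')
      exact hne (le_antisymm (hZc.2 hZ'.1 hle) hle)
    obtain ⟨U, hU, hξU, hUO⟩ := exists_isAffineOpen_mem_and_subset (x := ξ) (U := (⟨O, hO⟩ : X.Opens)) hξO
    refine ⟨ξ, U, hξ, hU, hξU, fun x hx Z' hZ' hxZ' => ?_⟩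
    by_contra hne
    exact hUO hx (Set.mem_biUnion (⟨hZ', hne⟩ : Z' ∈ irreducibleComponents (X : Type u) \ {Z}) hxZ')
  choose ξ U hξ hU hξU hsep using hdata
  have hgenU : ∀ Z, ∀ x ∈ U Z, ξ Z ⤳ x := fun Z x hx => by
    rw [(hξ Z).specializes_iff_mem]
    have := hsep Z x hx (irreducibleComponent x) (irreducibleComponent_mem_irreducibleComponents x) mem_irreducibleComponent
    exact this ▸ mem_irreducibleComponent
  -- the fields of the components
  have hfield : ∀ Z : {Z // Z ∈ Top}, 0 < geomComp f Z.1 ∧ ∃ C : ℝ, 0 ≤ C ∧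
      ∀ (k' : Type u) [Field k'] [Algebra k k'] [Finite k'],
        (geomComp f Z.1 ∣ Module.finrank k k' →
          |(Nat.card {g : Pts f k' // ptOf f g ∈ U Z} : ℝ) - geomComp f Z.1 * (Nat.card k' : ℝ) ^ (r : ℝ)| ≤
            C * (Nat.card k' : ℝ) ^ ((r : ℝ) - 1 / 2)) ∧
        (¬ geomComp f Z.1 ∣ Module.finrank k k' →
          (Nat.card {g : Pts f k' // ptOf f g ∈ U Z} : ℝ) ≤ C * (Nat.card k' : ℝ) ^ ((r : ℝ) - 1)) := by
    intro Z
    letI : Algebra k (X.residueField (ξ Z)) := (VarDim.resHom f (ξ Z)).toAlgebra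
    obtain ⟨S, hS, hpts⟩ := open_count f (ξ Z) (hU Z) (hξU Z) (hgenU Z)
    haveI : Algebra.EssFiniteType k (X.residueField (ξ Z)) := IntermediateField.fg_top_iff.1 ⟨S, hS⟩
    obtain ⟨tb, htb, -⟩ := exists_isTranscendenceBasis_and_isSeparable_of_perfectField k (X.residueField (ξ Z))
    have htr : Algebra.trdeg k (X.residueField (ξ Z)) = (r : Cardinal) := by
      have h1 := htb.cardinalMk_eq_trdeg
      rw [Cardinal.mk_fintype, Fintype.card_coe] at h1
      have h2 : VarDim.deg f (ξ Z) = tb.card := by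
        show Cardinal.toNat (Algebra.trdeg k (X.residueField (ξ Z))) = _
        rw [← h1, Cardinal.toNat_natCast]
      have h3 := VarDim.topologicalKrullDim_closure_singleton f (ξ Z)
      rw [(hξ Z).def, ((hTop Z.1).1 Z.2).2, h2] at h3
      rw [← h1]
      exact congrArg Nat.cast (by exact_mod_cast h3.symm)
    obtain ⟨hm0, C, hC, hest⟩ := estimate_field r htr S hS
    haveI := GeomIrrSection.finiteDimensional_algebraicClosure k (X.residueField (ξ Z)) ⟨S, hS⟩
    have heq : separableClosure k (X.residueField (ξ Z)) = algebraicClosure k (X.residueField (ξ Z)) :=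
      IntermediateField.ext fun a => by
        rw [mem_separableClosure_iff, mem_algebraicClosure_iff]
        exact ⟨fun h => h.isIntegral.isAlgebraic, fun h =>
          PerfectField.separable_of_irreducible (minpoly.irreducible h.isIntegral)⟩
    haveI : FiniteDimensional k (separableClosure k (X.residueField (ξ Z))) := heq ▸ inferInstance
    have hm : geomComp f Z.1 = Module.finrank k (algebraicClosure k (X.residueField (ξ Z))) := by
      rw [← heq, ← card_components_preimage (AlgebraicClosure k) (x := ξ Z), geomComp]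
      rw [(hξ Z).def]
      rfl
    refine ⟨hm ▸ hm0, C, hC, fun k' _ _ _ => ?_⟩
    rw [hm, hpts k']
    exact hest k'
  choose hmpos CZ hCZ hZest using hfield
  -- the rest
  let W : Set X := (⋃ Z, (U Z : Set X))ᶜ
  have hWcl : IsClosed W := (isOpen_iUnion fun Z => (U Z).isOpen).isClosed_compl
  have hWdim : topologicalKrullDim W < r := by
    refine lt_of_not_ge fun hge => ?_
    obtain ⟨l, hl⟩ := Order.le_krullDim_iff.1 hge
    let T : IrreducibleCloseds X :=
      ⟨closure (Subtype.val '' (l.last : Set W)),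
        (l.last.isIrreducible.image _ continuous_subtype_val.continuousOn).closure, isClosed_closure⟩
    have hTdim : (r : WithBot ℕ∞) ≤ topologicalKrullDim (T : Set X) := by
      have hsub : ∀ i, Subtype.val '' (l i : Set W) ⊆ (T : Set X) := fun i =>
        (Set.image_mono (SetLike.coe_subset_coe.2 (l.monotone (Fin.le_last i)))).trans subset_closure
      have hemb : Topology.IsEmbedding fun w : ↥(l.last : Set W) => (⟨w.1.1, hsub (Fin.last _) ⟨w.1, w.2, rfl⟩⟩ : (T : Set X)) :=
        Topology.IsEmbedding.of_comp (by fun_prop) continuous_subtype_val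
          (show Topology.IsEmbedding (fun w : ↥(l.last : Set W) => w.1.1) from
            Topology.IsEmbedding.subtypeVal.comp Topology.IsEmbedding.subtypeVal)
      refine le_trans ?_ hemb.isInducing.topologicalKrullDim_le
      let z : Fin (l.length + 1) → IrreducibleCloseds ↥(l.last : Set W) := fun i =>
        ⟨Subtype.val ⁻¹' (l i : Set W), by
          refine ⟨?_, ?_⟩
          · obtain ⟨a, ha⟩ := (l i).isIrreducible.nonempty
            exact ⟨⟨a, SetLike.coe_subset_coe.2 (l.monotone (Fin.le_last i)) ha⟩, ha⟩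
          · intro u v hu hv hcu hcv
            obtain ⟨u', hu', rfl⟩ := hu
            obtain ⟨v', hv', rfl⟩ := hv
            obtain ⟨a, ha, hau⟩ := hcu
            obtain ⟨b, hb, hbv⟩ := hcv
            obtain ⟨c, hc, hcu', hcv'⟩ := (l i).isIrreducible.2 u' v' hu' hv' ⟨a.1, ha, hau⟩ ⟨b.1, hb, hbv⟩
            exact ⟨⟨c, SetLike.coe_subset_coe.2 (l.monotone (Fin.le_last i)) hc⟩, hc, hcu', hcv'⟩,
          (l i).isClosed.preimage continuous_subtype_val⟩
      rw [← hl]
      refine Order.le_krullDim_iff.2 ⟨LTSeries.mk l.length z fun i j hij => ?_, rfl⟩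
      refine lt_of_le_of_ne (fun a ha => SetLike.coe_subset_coe.2 (l.monotone hij.le) ha) fun he => ?_
      refine (l.strictMono hij).ne (le_antisymm (l.monotone hij.le) fun a ha => ?_)
      have h1 : (⟨a, SetLike.coe_subset_coe.2 (l.monotone (Fin.le_last j)) ha⟩ : ↥(l.last : Set W)) ∈ (z j : Set _) := ha
      rw [← he] at h1
      exact h1
    obtain ⟨Z, hZ, hTZ⟩ := exists_mem_irreducibleComponents_subset_of_isIrreducible (T : Set X) T.isIrreducible
    have hTZ' : (T : Set X) = Z := by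
      by_contra hne
      have hlt : T < ⟨Z, hZ.1, isClosed_of_mem_irreducibleComponents Z hZ⟩ :=
        lt_of_le_of_ne hTZ fun he => hne (congrArg SetLike.coe he)
      have h1 : Order.height T + 1 ≤ Order.height (⟨Z, hZ.1, isClosed_of_mem_irreducibleComponents Z hZ⟩ : IrreducibleCloseds X) :=
        Order.height_add_one_le hlt
      have h2 : ((Order.height T + 1 : ℕ∞) : WithBot ℕ∞) ≤ (r : WithBot ℕ∞) := by
        refine le_trans ?_ hr.le
        exact le_trans (WithBot.coe_le_coe.2 h1) (Order.height_le_krullDim _)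
      have h3 : (r : ℕ∞) ≤ Order.height T := by
        let emb : Fin (l.length + 1) → IrreducibleCloseds X := fun i =>
          ⟨Subtype.val '' (l i : Set W), (l i).isIrreducible.image _ continuous_subtype_val.continuousOn,
            hWcl.isClosedEmbedding_subtypeVal.isClosedMap _ (l i).isClosed⟩
        have hmono : StrictMono emb := fun i j hij => by
          refine lt_of_le_of_ne (Set.image_mono (SetLike.coe_subset_coe.2 (l.monotone hij.le))) fun he => ?_
          exact (l.strictMono hij).ne (IrreducibleCloseds.ext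
            (Subtype.val_injective.image_injective (congrArg SetLike.coe he)))
        have hlast : emb (Fin.last _) ≤ T := subset_closure
        rw [← hl]
        exact Order.length_le_height (p := LTSeries.mk l.length emb hmono) hlast
      have h4 : (r : ℕ∞) + 1 ≤ r := le_trans (add_le_add h3 le_rfl) (WithBot.coe_le_coe.1 h2)
      exact absurd h4 (not_le.2 (by exact_mod_cast Nat.lt_succ_self r))
    have hZTop : Z ∈ Top := (hTop Z).2 ⟨hZ, le_antisymm
      (by rw [← hr]; exact Topology.IsInducing.topologicalKrullDim_le Topology.IsInducing.subtypeVal) (hTZ' ▸ hTdim)⟩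
    have hTW : (T : Set X) ⊆ W := closure_minimal (by rintro _ ⟨a, -, rfl⟩; exact a.2) hWcl
    exact hTW (hTZ'.symm ▸ (hξ ⟨Z, hZTop⟩).mem) (Set.mem_iUnion_of_mem ⟨Z, hZTop⟩ (hξU ⟨Z, hZTop⟩))
  obtain ⟨CW, hCW, hWest⟩ := closed_count f hWcl r hWdim
  refine ⟨Top, ∑ Z, CZ Z + CW, hTop, add_nonneg (Finset.sum_nonneg fun Z _ => hCZ Z) hCW,
    fun Z hZ => hmpos ⟨Z, hZ⟩, fun k' _ _ _ => ?_⟩
  set q : ℝ := (Nat.card k' : ℝ) with hq
  have hq1 : (1 : ℝ) ≤ q := by rw [hq]; exact_mod_cast (Nat.card_pos (α := k'))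
  haveI : Finite (Pts f k') := finite_pts f hr.le k'
  haveI := Fintype.ofFinite (Pts f k')
  -- partition
  have hsplit : (Nat.card (Pts f k') : ℝ) =
      (∑ Z : {Z // Z ∈ Top}, (Nat.card {g : Pts f k' // ptOf f g ∈ U Z} : ℝ)) +
        (Nat.card {g : Pts f k' // ptOf f g ∈ W} : ℝ) := by
    rw [← Nat.cast_sum, ← Nat.cast_add, Nat.cast_inj]
    simp only [Nat.card_eq_fintype_card, Fintype.card_subtype]
    have hd : ∀ Z ∈ (Finset.univ : Finset {Z // Z ∈ Top}), ∀ Z' ∈ (Finset.univ : Finset {Z // Z ∈ Top}), Z ≠ Z' →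
        Disjoint (Finset.univ.filter fun g : Pts f k' => ptOf f g ∈ U Z)
          (Finset.univ.filter fun g : Pts f k' => ptOf f g ∈ U Z') := fun Z _ Z' _ hne => by
      rw [Finset.disjoint_filter]
      intro g _ h h'
      refine hne (Subtype.ext ?_)
      have e1 := hsep Z _ h _ (irreducibleComponent_mem_irreducibleComponents _) mem_irreducibleComponent
      have e2 := hsep Z' _ h' _ (irreducibleComponent_mem_irreducibleComponents _) mem_irreducibleComponent
      exact e1.symm.trans e2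
    rw [← Finset.card_biUnion hd, ← Finset.card_union_of_disjoint]
    · rw [← Finset.card_univ]
      congr 1
      ext g
      simp only [Finset.mem_univ, Finset.mem_union, Finset.mem_biUnion, Finset.mem_filter, true_and, true_iff]
      by_cases hg : ptOf f g ∈ W
      · exact Or.inr hg
      · exact Or.inl (by simpa [W] using hg)
    · rw [Finset.disjoint_left]
      intro g hg hgW
      simp only [Finset.mem_biUnion, Finset.mem_filter, Finset.mem_univ, true_and] at hg hgW
      obtain ⟨Z, hZ⟩ := hg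
      exact hgW (Set.mem_iUnion_of_mem Z hZ)
  have hW := hWest k'
  have hexp : q ^ ((r : ℝ) - 1) ≤ q ^ ((r : ℝ) - 1 / 2) := Real.rpow_le_rpow_of_exponent_le hq1 (by linarith)
  constructor
  · have hterm : ∀ Z : {Z // Z ∈ Top}, |(Nat.card {g : Pts f k' // ptOf f g ∈ U Z} : ℝ) -
        (if geomComp f Z.1 ∣ Module.finrank k k' then (geomComp f Z.1 : ℝ) * q ^ (r : ℝ) else 0)| ≤
        CZ Z * q ^ ((r : ℝ) - 1 / 2) := fun Z => by
      split_ifs with h
      · exact (hZest Z k').1 h
      · rw [sub_zero, abs_of_nonneg (Nat.cast_nonneg _)]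
        exact ((hZest Z k').2 h).trans (mul_le_mul_of_nonneg_left hexp (hCZ Z))
    have hsum : ((∑ Z ∈ Top with geomComp f Z ∣ Module.finrank k k', geomComp f Z : ℕ) : ℝ) * q ^ (r : ℝ) =
        ∑ Z : {Z // Z ∈ Top}, (if geomComp f Z.1 ∣ Module.finrank k k' then (geomComp f Z.1 : ℝ) * q ^ (r : ℝ) else 0) := by
      rw [Nat.cast_sum, Finset.sum_mul, Finset.sum_filter]
      exact (Finset.sum_coe_sort Top fun Z =>
        if geomComp f Z ∣ Module.finrank k k' then (geomComp f Z : ℝ) * q ^ (r : ℝ) else 0).symm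
    rw [hsplit, hsum, add_sub_right_comm, ← Finset.sum_sub_distrib, add_mul, Finset.sum_mul]
    refine (abs_add_le _ _).trans (add_le_add ((Finset.abs_sum_le_sum_abs _ _).trans
      (Finset.sum_le_sum fun Z _ => hterm Z)) ?_)
    rw [abs_of_nonneg (Nat.cast_nonneg _)]
    exact hW.trans (mul_le_mul_of_nonneg_left hexp hCW)
  · intro hno
    rw [hsplit, add_mul, Finset.sum_mul]
    exact add_le_add (Finset.sum_le_sum fun Z _ => (hZest Z k').2 (hno Z.1 Z.2)) hW

end Groth.Agent.H9PB.LangWeil
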