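import Groth.Agent.H9PB.LangWeil.PlaneCurve
import Mathlib.RingTheory.DiscreteValuationRing.TFAE

/-!
# Counting points of absolutely irreducible plane curves from both sides
-/

set_option autoImplicit false
set_option linter.style.haveILetI false
set_option linter.unusedSectionVars false
set_option maxHeartbeats 1000000

open Polynomial WithZero IntermediateField
open FunFld

namespace Groth.Agent.H9PB.LangWeil

open Groth.Agent.FFLib

universe u

variable {k : Type u} [Field k] {F : k[X][X]}
variable (hF : F.Monic) (hD : 0 < F.natDegree)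
  (h : NoSplit (F.map (mapRingHom (algebraMap k (AlgebraicClosure k)))))
include hF hD h

variable [Fact (Irreducible (F.map (algebraMap k[X] (RatFunc k))))]

/-- The coordinate map of the curve. -/
noncomputable def coord (F : k[X][X]) : k[X][X] →+* AdjoinRoot (F.map (algebraMap k[X] (RatFunc k))) :=
  (AdjoinRoot.mk _).comp (mapRingHom (algebraMap k[X] (RatFunc k)))

omit h hD in
theorem coord_eq_zero_iff (p : k[X][X]) : coord F p = 0 ↔ F ∣ p := by
  rw [coord, RingHom.comp_apply, AdjoinRoot.mk_eq_zero, coe_mapRingHom]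
  exact Polynomial.map_dvd_map _ (IsFractionRing.injective k[X] (RatFunc k)) hF

/-- A smooth rational point is the centre of exactly one place, of degree one. -/
theorem existsUnique_place {c d : k} (hd : (F.map (evalRingHom c)).eval d = 0)
    (hd' : (F.derivative.map (evalRingHom c)).eval d ≠ 0) :
    ∃ P : Place k (FF F), P.deg = 1 ∧ P.1 (coord F (C (X - C c))) < 1 ∧ P.1 (coord F (X - C (C d))) < 1 ∧
      ∀ Q : Place k (FF F), Q.1 (coord F (C (X - C c))) < 1 → Q.1 (coord F (X - C (C d))) < 1 → Q = P := by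
  classical
  have hK := isFunctionField hF hD h
  let ev : k[X][X] →+* k := (evalRingHom d).comp (mapRingHom (evalRingHom c))
  have hevC : ∀ e : k, ev (C (C e)) = e := fun e => by simp [ev]
  have hFev : ev F = 0 := hd
  let R := AdjoinRoot F
  let mkR : k[X][X] →+* R := AdjoinRoot.mk F
  let π : R →+* k := Ideal.Quotient.lift _ ev fun a ha => by
    obtain ⟨b, rfl⟩ := Ideal.mem_span_singleton'.1 ha
    rw [map_mul, hFev, mul_zero]
  have hπ : ∀ p, π (mkR p) = ev p := fun p => rfl
  let j : R →+* FF F := Ideal.Quotient.lift _ (coord F) fun a ha => by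
    rw [coord_eq_zero_iff hF]; exact Ideal.mem_span_singleton.1 ha
  have hj : ∀ p, j (mkR p) = coord F p := fun p => rfl
  have hjinj : Function.Injective j := (injective_iff_map_eq_zero _).2 fun r hr => by
    obtain ⟨p, rfl⟩ := AdjoinRoot.mk_surjective r
    rw [hj, coord_eq_zero_iff hF] at hr
    exact AdjoinRoot.mk_eq_zero.2 hr
  haveI : IsDomain R := hjinj.isDomain j
  -- the maximal ideal at the point
  set tx := mkR (C (X - C c)) with htx
  set ty := mkR (X - C (C d)) with hty
  let p := RingHom.ker π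
  haveI hp : p.IsPrime := RingHom.ker_isPrime π
  have hsplit : ∀ q : k[X][X], ∃ u w, q = C (C (ev q)) + (X - C (C d)) * u + C (X - C c) * C w := by
    intro q
    obtain ⟨u, hu⟩ : X - C (C d) ∣ q - C (q.eval (C d)) := X_sub_C_dvd_sub_C_eval
    obtain ⟨w, hw⟩ : X - C c ∣ q.eval (C d) - C ((q.eval (C d)).eval c) := X_sub_C_dvd_sub_C_eval
    refine ⟨u, w, ?_⟩
    have hev : ev q = (q.eval (C d)).eval c := by
      show (q.map (evalRingHom c)).eval d = _
      rw [← coe_evalRingHom c, ← eval₂_at_apply, eval₂_eq_eval_map]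
      simp
    rw [← map_mul, ← hw, ← hu, hev, map_sub]
    ring
  have hspan : p ≤ Ideal.span {tx, ty} := fun r hr => by
    obtain ⟨q, rfl⟩ := AdjoinRoot.mk_surjective r
    obtain ⟨u, w, hq⟩ := hsplit q
    have h0 : ev q = 0 := hr
    rw [h0, map_zero, map_zero, zero_add] at hq
    rw [show AdjoinRoot.mk F q = mkR q from rfl, hq, map_add, map_mul, map_mul]
    exact Ideal.add_mem _ (Ideal.mul_mem_right _ _ (Ideal.subset_span (Set.mem_insert_of_mem _ rfl)))
      (Ideal.mul_mem_right _ _ (Ideal.subset_span (Set.mem_insert _ _)))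
  have htxp : tx ∈ p := by show ev _ = 0; simp [ev]
  -- the local ring is principal at the point
  obtain ⟨u, w, hu⟩ := hsplit F
  have huev : ev u ≠ 0 := by
    have h1 := congrArg (fun q : k[X][X] => ev q.derivative) hu
    simp only [hFev, map_zero, zero_add, derivative_add, derivative_mul, derivative_sub, derivative_X, derivative_C,
      sub_zero, one_mul, zero_mul, mul_zero, add_zero, map_add, map_mul] at h1
    rw [show ev (X - C (C d)) = 0 by simp [ev], zero_mul, add_zero] at h1
    exact h1 ▸ hd'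
  have hrel : ty * mkR u = - (tx * mkR (C w)) := by
    have h1 := congrArg mkR hu
    rw [hFev, map_zero, map_zero, zero_add, map_add, map_mul, map_mul,
      show mkR F = 0 from AdjoinRoot.mk_self] at h1
    linear_combination -h1
  let Rp := Localization.AtPrime p
  let jp : Rp →+* FF F := IsLocalization.lift (M := p.primeCompl) (g := j) fun y =>
    isUnit_iff_ne_zero.2 ((map_ne_zero_iff j hjinj).2 fun e => y.2 (by rw [e]; exact p.zero_mem))
  have hjp : ∀ r, jp (algebraMap R Rp r) = j r := IsLocalization.lift_eq _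
  have hjmk : ∀ (a : R) (s : p.primeCompl), jp (IsLocalization.mk' Rp a s) = j a / j s := fun a s => by
    rw [eq_div_iff ((map_ne_zero_iff j hjinj).2 fun e => s.2 (by rw [e]; exact p.zero_mem)), ← hjp a,
      ← hjp (s : R), ← map_mul, IsLocalization.mk'_spec]
  haveI : IsDomain Rp := IsLocalization.isDomain_localization p.primeCompl_le_nonZeroDivisors
  haveI : IsNoetherianRing R := Ideal.Quotient.isNoetherianRing _
  haveI : IsNoetherianRing Rp := IsLocalization.isNoetherianRing p.primeCompl Rp inferInstance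
  have hmax : IsLocalRing.maximalIdeal Rp = Ideal.span {algebraMap R Rp tx} := by
    refine le_antisymm ?_ ((Ideal.span_singleton_le_iff_mem _).2 ?_)
    · rw [← IsLocalization.AtPrime.map_eq_maximalIdeal p]
      refine Ideal.map_le_iff_le_comap.2 (hspan.trans (Ideal.span_le.2 ?_))
      rintro z (rfl | rfl)
      · exact Ideal.subset_span rfl
      · have hu1 : IsUnit (algebraMap R Rp (mkR u)) := IsLocalization.map_units Rp (⟨mkR u, huev⟩ : p.primeCompl)
        have h1 := congrArg (algebraMap R Rp) hrel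
        rw [map_mul, map_neg, map_mul] at h1
        rw [SetLike.mem_coe, Ideal.mem_comap]
        refine (Ideal.mul_unit_mem_iff_mem _ hu1).1 ?_
        rw [h1, ← mul_neg]
        exact Ideal.mul_mem_right _ _ (Ideal.subset_span rfl)
    · exact (IsLocalization.AtPrime.to_map_mem_maximal_iff Rp p tx).2 htxp
  haveI : ValuationRing Rp := by
    have htfae := (tfae_of_isNoetherianRing_of_isLocalRing_of_isDomain (R := Rp)).out 4 1
    exact htfae.1 ⟨algebraMap R Rp tx, hmax⟩
  -- fractions
  have hfrac : ∀ z : FF F, ∃ a b : R, b ≠ 0 ∧ z * j b = j a := by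
    intro z
    obtain ⟨q, rfl⟩ := AdjoinRoot.mk_surjective z
    induction q using Polynomial.induction_on' with
    | add q₁ q₂ h₁ h₂ =>
      obtain ⟨a₁, b₁, hb₁, e₁⟩ := h₁
      obtain ⟨a₂, b₂, hb₂, e₂⟩ := h₂
      exact ⟨a₁ * b₂ + a₂ * b₁, b₁ * b₂, mul_ne_zero hb₁ hb₂, by
        simp only [map_add, map_mul, ← e₁, ← e₂]; ring⟩
    | monomial n e =>
      obtain ⟨⟨num, den⟩, hnd⟩ := IsLocalization.surj (nonZeroDivisors k[X]) e
      refine ⟨mkR (monomial n num), mkR (C (den : k[X])), ?_, ?_⟩
      · intro h0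
        have h1 := congrArg j h0
        rw [hj, map_zero, coord_eq_zero_iff hF] at h1
        have h2 := natDegree_le_of_dvd h1 (C_ne_zero.2 (nonZeroDivisors.ne_zero den.2))
        rw [natDegree_C] at h2
        omega
      · rw [hj, hj, coord, RingHom.comp_apply, RingHom.comp_apply, coe_mapRingHom, map_C, Polynomial.map_monomial,
          ← map_mul, monomial_mul_C]
        exact congrArg (fun t => AdjoinRoot.mk _ (monomial n t)) hnd
  have hjpinj : Function.Injective jp := (injective_iff_map_eq_zero _).2 fun z hz => by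
    obtain ⟨a, s, rfl⟩ := IsLocalization.exists_mk'_eq p.primeCompl z
    rw [IsLocalization.lift_mk', Units.mul_left_eq_zero] at hz
    rw [(map_eq_zero_iff j hjinj).1 hz, IsLocalization.mk'_zero]
  have hval : ∀ z : FF F, z ∈ jp.range ∨ z⁻¹ ∈ jp.range := fun z => by
    obtain ⟨a, b, hb, e⟩ := hfrac z
    have hjb : j b ≠ 0 := (map_ne_zero_iff j hjinj).2 hb
    have hz : z = j a / j b := by rw [← e, mul_div_cancel_right₀ _ hjb]
    rcases ValuationRing.cond (algebraMap R Rp a) (algebraMap R Rp b) with ⟨t, ht | ht⟩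
    · rcases eq_or_ne a 0 with rfl | ha
      · exact Or.inl ⟨0, by rw [hz, map_zero, map_zero, zero_div]⟩
      refine Or.inr ⟨t, ?_⟩
      rw [hz, inv_div, eq_div_iff ((map_ne_zero_iff j hjinj).2 ha), ← hjp a, ← hjp b, ← ht, map_mul, mul_comm]
    · refine Or.inl ⟨t, ?_⟩
      rw [hz, eq_div_iff hjb, ← hjp a, ← hjp b, ← ht, map_mul, mul_comm]
  let V : ValuationSubring (FF F) := { jp.range with mem_or_inv_mem' := hval }
  have hkV : ∀ e : k, algebraMap k (FF F) e ∈ V := fun e => ⟨algebraMap R Rp (mkR (C (C e))), by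
    rw [hjp, hj]
    show AdjoinRoot.mk _ ((C (C e)).map (algebraMap k[X] (RatFunc k))) = _
    rw [map_C, AdjoinRoot.mk_C, ← Polynomial.algebraMap_eq, ← IsScalarTower.algebraMap_apply]
    exact (IsScalarTower.algebraMap_apply k (RatFunc k) (FF F) e).symm⟩
  have hjR : ∀ r, j r ∈ V := fun r => ⟨algebraMap R Rp r, hjp r⟩
  have hnu : ∀ z : Rp, z ∈ IsLocalRing.maximalIdeal Rp → z ≠ 0 → (jp z)⁻¹ ∉ V := by
    rintro z hz hz0 ⟨t, ht⟩
    refine hz ((isUnit_iff_exists_inv).2 ⟨t, hjpinj ?_⟩)
    rw [map_mul, ht, map_one, mul_inv_cancel₀ ((map_ne_zero_iff jp hjpinj).2 hz0)]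
  have htx0 : tx ≠ 0 := fun e => by
    have h1 := congrArg j e
    rw [hj, map_zero, coord_eq_zero_iff hF] at h1
    have h2 := natDegree_le_of_dvd h1 (C_ne_zero.2 (X_sub_C_ne_zero c))
    rw [natDegree_C] at h2
    omega
  have hV : V ≠ ⊤ := fun e => by
    have h1 : (jp (algebraMap R Rp tx))⁻¹ ∈ V := e ▸ trivial
    exact hnu _ ((IsLocalization.AtPrime.to_map_mem_maximal_iff Rp p tx).2 htxp)
      ((map_ne_zero_iff _ (IsLocalization.injective Rp p.primeCompl_le_nonZeroDivisors)).2 htx0) h1
  obtain ⟨P, hP⟩ := exists_place_of_valuationSubring hK.1 V hkV hV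
  have hPle : ∀ z, P.1 z ≤ 1 ↔ z ∈ V := fun z => by rw [← hP]; rfl
  have hPlt : ∀ r ∈ p, P.1 (j r) < 1 := fun r hr => by
    rcases eq_or_ne r 0 with rfl | hr0
    · simp
    refine lt_of_le_of_ne ((hPle _).2 (hjR r)) fun e => ?_
    refine hnu _ ((IsLocalization.AtPrime.to_map_mem_maximal_iff Rp p r).2 hr)
      ((map_ne_zero_iff _ (IsLocalization.injective Rp p.primeCompl_le_nonZeroDivisors)).2 hr0) ((hPle _).1 ?_)
    rw [hjp, map_inv₀, e, inv_one]
  refine ⟨P, ?_, hPlt tx htxp, hPlt ty (by show ev _ = 0; simp [ev]), fun Q hQx hQy => ?_⟩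
  · have hsurj : Function.Surjective (algebraMap k (IsLocalRing.ResidueField P.O)) := fun z => by
      obtain ⟨⟨z, hz⟩, rfl⟩ := IsLocalRing.residue_surjective z
      obtain ⟨t, rfl⟩ := (hPle z).1 hz
      obtain ⟨a, s, rfl⟩ := IsLocalization.exists_mk'_eq p.primeCompl t
      refine ⟨π a / π s, ?_⟩
      symm
      rw [← sub_eq_zero]
      show IsLocalRing.residue P.O _ - IsLocalRing.residue P.O _ = 0
      rw [← map_sub, residue_eq_zero]
      show P.1 (jp (IsLocalization.mk' Rp a s) - algebraMap k (FF F) (π a / π s)) < 1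
      have hjs : j s ≠ 0 := (map_ne_zero_iff j hjinj).2 fun e => s.2 (by rw [e]; exact p.zero_mem)
      have he : ∀ e : k, algebraMap k (FF F) e = j (mkR (C (C e))) := fun e => by
        rw [hj]
        show _ = AdjoinRoot.mk _ ((C (C e)).map (algebraMap k[X] (RatFunc k)))
        rw [map_C, AdjoinRoot.mk_C, ← Polynomial.algebraMap_eq, ← IsScalarTower.algebraMap_apply]
        exact IsScalarTower.algebraMap_apply k (RatFunc k) (FF F) e
      have hps : P.1 (j s) = 1 := by
        refine le_antisymm ((hPle _).2 (hjR _)) ?_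
        have h1 : (j (s : R))⁻¹ ∈ V := ⟨IsLocalization.mk' Rp 1 s, by
          rw [hjmk, map_one, one_div]⟩
        have h2 := (hPle _).2 h1
        rwa [map_inv₀, inv_le_one₀ (zero_lt_iff.2 (val_ne_zero P hjs))] at h2
      rw [hjmk, he, div_sub' hjs, map_div₀, hps, div_one, ← map_mul, ← map_sub]
      refine hPlt _ ?_
      show π (a - s * mkR (C (C (π a / π s)))) = 0
      rw [map_sub, map_mul, hπ, hevC, mul_div_cancel₀ _ (show π (s : R) ≠ 0 from s.2), sub_self]
    rw [Place.deg]
    exact finrank_eq_one 1 one_ne_zero fun z => by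
      obtain ⟨e, he⟩ := hsurj z
      exact ⟨e, (Algebra.algebraMap_eq_smul_one e).symm.trans he⟩
  · have hQk : ∀ e : k, Q.1 (coord F (C (C e))) ≤ 1 := fun e => by
      refine le_of_eq_of_le ?_ (Q.2.1 e)
      congr 1
      show AdjoinRoot.mk _ ((C (C e)).map (algebraMap k[X] (RatFunc k))) = _
      rw [map_C, AdjoinRoot.mk_C, ← Polynomial.algebraMap_eq, ← IsScalarTower.algebraMap_apply]
      exact (IsScalarTower.algebraMap_apply k (RatFunc k) (FF F) e).symm
    have hQc : Q.1 (coord F (C X)) ≤ 1 := by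
      rw [show (C X : k[X][X]) = C (X - C c) + C (C c) by rw [← map_add, sub_add_cancel], map_add]
      exact (Q.1.map_add _ _).trans (max_le hQx.le (hQk c))
    have hQd : Q.1 (coord F X) ≤ 1 := by
      rw [show (X : k[X][X]) = (X - C (C d)) + C (C d) by rw [sub_add_cancel], map_add]
      exact (Q.1.map_add _ _).trans (max_le hQy.le (hQk d))
    have hQR : ∀ r, Q.1 (j r) ≤ 1 := fun r => by
      obtain ⟨q, rfl⟩ := AdjoinRoot.mk_surjective r
      show Q.1 (coord F q) ≤ 1
      induction q using Polynomial.induction_on with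
      | C e =>
        induction e using Polynomial.induction_on with
        | C e => exact hQk e
        | add e e' he he' => rw [map_add, map_add]; exact (Q.1.map_add _ _).trans (max_le he he')
        | monomial n e he =>
          rw [pow_succ, ← mul_assoc, map_mul C, map_mul, map_mul]; exact mul_le_one' he hQc
      | add q q' hq hq' => rw [map_add]; exact (Q.1.map_add _ _).trans (max_le hq hq')
      | monomial n e he => rw [pow_succ, ← mul_assoc, map_mul, map_mul]; exact mul_le_one' he hQd
    have hQp : ∀ r ∈ p, Q.1 (j r) < 1 := fun r hr => by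
      obtain ⟨a, b, hab⟩ := Ideal.mem_span_pair.1 (hspan hr)
      rw [← hab, map_add, map_mul, map_mul]
      refine (Q.1.map_add _ _).trans_lt (max_lt ?_ ?_) <;> rw [map_mul]
      · exact mul_lt_one_of_nonneg_of_lt_one_right (hQR a) zero_le' hQx
      · exact mul_lt_one_of_nonneg_of_lt_one_right (hQR b) zero_le' hQy
    have hQs : ∀ s : p.primeCompl, Q.1 (j s) = 1 := fun s => by
      refine le_antisymm (hQR _) (not_lt.1 fun hlt => ?_)
      have hne : π (s : R) ≠ 0 := s.2
      have h1 : Q.1 (j ((s : R) - mkR (C (C (π s))))) < 1 := hQp _ (by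
        show π _ = 0
        rw [map_sub, hπ, hevC, sub_self])
      rw [map_sub] at h1
      have h2 : Q.1 (j (mkR (C (C (π s))))) < 1 := by
        have := (Q.1.map_sub (j (s : R)) (j (s : R) - j (mkR (C (C (π s)))))).trans_lt (max_lt hlt h1)
        rwa [sub_sub_cancel] at this
      refine h2.ne ?_
      rw [show j (mkR (C (C (π (s : R))))) = algebraMap k (FF F) (π s) by
        rw [hj]
        show AdjoinRoot.mk _ ((C (C (π (s : R)))).map (algebraMap k[X] (RatFunc k))) = _
        rw [map_C, AdjoinRoot.mk_C, ← Polynomial.algebraMap_eq, ← IsScalarTower.algebraMap_apply]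
        exact (IsScalarTower.algebraMap_apply k (RatFunc k) (FF F) _).symm]
      exact val_algebraMap Q hne
    refine (place_eq_of_le fun z hz => ?_).symm
    obtain ⟨t, rfl⟩ := (hPle z).1 hz
    obtain ⟨a, s, rfl⟩ := IsLocalization.exists_mk'_eq p.primeCompl t
    rw [hjmk, map_div₀, hQs, div_one]
    exact hQR a

/-- Two-sided count of the smooth rational points of an absolutely irreducible plane curve. -/
theorem card_pairs [Finite k] {N : ℕ} (hN : ∀ i, (F.coeff i).natDegree ≤ N) (g : k[X]) (hg : g ≠ 0)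
    (a b : k[X][X]) (hab : a * F + b * F.derivative = C g) :
    |(Nat.card {p : k × k // g.eval p.1 ≠ 0 ∧ (F.map (evalRingHom p.1)).eval p.2 = 0} : ℝ) - Nat.card k| ≤
      2 * (N * F.natDegree ^ 2) * Real.sqrt (Nat.card k) + 1 + F.natDegree * (g.natDegree + 1) := by
  classical
  obtain ⟨hx, hfin, hrank⟩ := finrank_adjoin hF hD h
  have hK := isFunctionField hF hD h
  haveI := Fintype.ofFinite k
  set x := algebraMap (RatFunc k) (FF F) RatFunc.X with hxdef
  set y := AdjoinRoot.root (F.map (algebraMap k[X] (RatFunc k))) with hydef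
  set D := F.natDegree with hDdef
  obtain ⟨α, hα, hnorm⟩ := norm_sq_root hK
  have hfinP : {P : Place k (FF F) | P.deg = 1}.Finite := (finite_deg_le hK.1 1).subset fun P hP => le_of_eq hP
  set S := hfinP.toFinset
  have hScard : placeCount k (FF F) 1 = S.card := by
    have hcount : placeCount k (FF F) 1 = Nat.card {P : Place k (FF F) // P.deg = 1} := by simp [placeCount]
    rw [hcount, ← Nat.card_eq_finsetCard]
    exact Nat.card_congr (Equiv.subtypeEquivRight fun P => hfinP.mem_toFinset.symm)
  have hplaces : |(S.card : ℝ) - ((Nat.card k : ℝ) + 1)| ≤ 2 * (N * D ^ 2) * Real.sqrt (Nat.card k) := by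
    have he := placeCount_eq hK.1 α hα le_rfl
    simp only [pow_one] at he
    have hsum : ‖∑ i, α i‖ ≤ 2 * genus k (FF F) * Real.sqrt (Nat.card k) := by
      refine (norm_sum_le _ _).trans ?_
      have h1 : ∀ i, ‖α i‖ = Real.sqrt (Nat.card k) := fun i => by
        rw [← hnorm i, Real.sqrt_sq (norm_nonneg _)]
      rw [Finset.sum_congr rfl fun i _ => h1 i, Finset.sum_const, Finset.card_univ, Fintype.card_fin, nsmul_eq_mul]
      exact le_of_eq (by push_cast; ring)
    have hre : (placeCount k (FF F) 1 : ℝ) = 1 + Nat.card k - (∑ i, α i).re := by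
      have := congrArg Complex.re he
      simpa using this
    have h2 := (Complex.abs_re_le_norm (∑ i, α i)).trans hsum
    have h3 : (genus k (FF F) : ℝ) ≤ N * D ^ 2 := by exact_mod_cast genus_le hF hD h hN
    have h4 : (2 : ℝ) * genus k (FF F) * Real.sqrt (Nat.card k) ≤ 2 * (N * D ^ 2) * Real.sqrt (Nat.card k) := by gcongr
    rw [← hScard, hre, show (1 : ℝ) + Nat.card k - (∑ i, α i).re - ((Nat.card k : ℝ) + 1) = -(∑ i, α i).re by ring,
      abs_neg]
    linarith
  have hcX : coord F (C X) = x := by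
    show AdjoinRoot.mk _ ((C X).map (algebraMap k[X] (RatFunc k))) = _
    rw [map_C, AdjoinRoot.mk_C, RatFunc.algebraMap_X]; rfl
  have hcC : ∀ e : k, coord F (C (C e)) = algebraMap k (FF F) e := fun e => by
    show AdjoinRoot.mk _ ((C (C e)).map (algebraMap k[X] (RatFunc k))) = _
    rw [map_C, AdjoinRoot.mk_C, ← Polynomial.algebraMap_eq, ← IsScalarTower.algebraMap_apply]
    exact (IsScalarTower.algebraMap_apply k (RatFunc k) (FF F) e).symm
  have hcY : coord F X = y := by
    show AdjoinRoot.mk _ ((X : k[X][X]).map (algebraMap k[X] (RatFunc k))) = _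
    rw [map_X, AdjoinRoot.mk_X]
  have hcx : ∀ e : k, coord F (C (X - C e)) = x - algebraMap k (FF F) e := fun e => by
    rw [map_sub, map_sub, hcX, hcC]
  have hcy : ∀ e : k, coord F (X - C (C e)) = y - algebraMap k (FF F) e := fun e => by
    rw [map_sub, hcY, hcC]
  have hconst : ∀ (P : Place k (FF F)) (z : FF F) (c c' : k), P.1 (z - algebraMap k (FF F) c) < 1 →
      P.1 (z - algebraMap k (FF F) c') < 1 → c = c' := fun P z c c' h1 h2 => by
    by_contra hne
    have h3 : P.1 (algebraMap k (FF F) (c - c')) < 1 := by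
      rw [show algebraMap k (FF F) (c - c') = (z - algebraMap k (FF F) c') - (z - algebraMap k (FF F) c) by
        rw [map_sub]; ring]
      exact (P.1.map_sub _ _).trans_lt (max_lt h2 h1)
    exact h3.ne (val_algebraMap P (sub_ne_zero.2 hne))
  -- from pairs to places
  have hsm : ∀ p : {p : k × k // g.eval p.1 ≠ 0 ∧ (F.map (evalRingHom p.1)).eval p.2 = 0},
      ∃ P : Place k (FF F), P.deg = 1 ∧ P.1 (x - algebraMap k (FF F) p.1.1) < 1 ∧
        P.1 (y - algebraMap k (FF F) p.1.2) < 1 ∧ ∀ Q : Place k (FF F), Q.1 (x - algebraMap k (FF F) p.1.1) < 1 →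
          Q.1 (y - algebraMap k (FF F) p.1.2) < 1 → Q = P := by
    rintro ⟨⟨c, d⟩, hgc, hd⟩
    have hd' : (F.derivative.map (evalRingHom c)).eval d ≠ 0 := fun h0 => by
      have h1 := congrArg (fun q : k[X][X] => (q.map (evalRingHom c)).eval d) hab
      simp only [Polynomial.map_add, Polynomial.map_mul, eval_add, eval_mul, map_C, eval_C, coe_evalRingHom, h0,
        mul_zero, add_zero] at h1
      rw [show (F.map (evalRingHom c)).eval d = 0 from hd, mul_zero] at h1
      exact hgc h1.symm
    obtain ⟨P, h1, h2, h3, h4⟩ := existsUnique_place hF hD h hd hd'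
    simp only [hcx, hcy] at h2 h3 h4
    exact ⟨P, h1, h2, h3, h4⟩
  choose Φ hΦdeg hΦx hΦy hΦu using hsm
  have hΦinj : Function.Injective Φ := fun p p' he => Subtype.ext (Prod.ext
    (hconst (Φ p) x _ _ (hΦx p) (he ▸ hΦx p')) (hconst (Φ p) y _ _ (hΦy p) (he ▸ hΦy p')))
  haveI := Fintype.ofFinite {p : k × k // g.eval p.1 ≠ 0 ∧ (F.map (evalRingHom p.1)).eval p.2 = 0}
  set Tn := Nat.card {p : k × k // g.eval p.1 ≠ 0 ∧ (F.map (evalRingHom p.1)).eval p.2 = 0} with hTn
  have hTimg : (Finset.univ.image Φ).card = Tn := by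
    rw [Finset.card_image_of_injective _ hΦinj, Finset.card_univ, hTn, Nat.card_eq_fintype_card]
  have hup : Tn ≤ S.card := by
    rw [← hTimg]
    exact Finset.card_le_card fun P hP => by
      obtain ⟨p, -, rfl⟩ := Finset.mem_image.1 hP
      exact hfinP.mem_toFinset.2 (hΦdeg p)
  have hzero : ∀ (T : Finset (Place k (FF F))) (z : (FF F)), Transcendental k z →
      Module.finrank k⟮z⟯ (FF F) ≤ D → (∀ P ∈ T, P.1 z < 1) → T.card ≤ D := fun T z hz hr hT => by
    have h1 := sum_ord_deg_le hK.1 T hz hT
    have h2 : (T.card : ℤ) ≤ ∑ P ∈ T, P.ord z * (P.deg : ℤ) := by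
      rw [Finset.card_eq_sum_ones, Nat.cast_sum]
      refine Finset.sum_le_sum fun P hP => ?_
      have h5 := (val_lt_one_iff P (fun e => hz (by rw [e]; exact isAlgebraic_zero))).mp (hT P hP)
      have h6 := deg_pos hK.1 P
      push_cast
      nlinarith
    omega
  have hsub : ∀ c : k, Transcendental k (x - algebraMap k (FF F) c) ∧ k⟮x - algebraMap k (FF F) c⟯ = k⟮x⟯ := fun c =>
    ⟨fun hh => hx (by simpa using hh.add (isAlgebraic_algebraMap c)),
      le_antisymm (adjoin_simple_le_iff.2 (sub_mem (mem_adjoin_simple_self k x) (IntermediateField.algebraMap_mem _ c)))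
        (adjoin_simple_le_iff.2 (by
          simpa using add_mem (mem_adjoin_simple_self k (x - algebraMap k (FF F) c)) (IntermediateField.algebraMap_mem _ c)))⟩
  have hcover : S ⊆ Finset.univ.image Φ ∪ ((S.filter fun P => 1 < P.1 x) ∪
      g.roots.toFinset.biUnion fun c => S.filter fun P => P.1 (x - algebraMap k (FF F) c) < 1) := by
    intro P hP
    by_cases hxP : 1 < P.1 x
    · exact Finset.mem_union_right _ (Finset.mem_union_left _ (Finset.mem_filter.2 ⟨hP, hxP⟩))
    have hxP' := not_lt.1 hxP
    obtain ⟨c, hc⟩ := exists_value hK.1 (hfinP.mem_toFinset.1 hP) hxP'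
    by_cases hgc : g.eval c = 0
    · exact Finset.mem_union_right _ (Finset.mem_union_right _ (Finset.mem_biUnion.2
        ⟨c, Multiset.mem_toFinset.2 ((mem_roots hg).2 hgc), Finset.mem_filter.2 ⟨hP, hc⟩⟩))
    have hyP : P.1 y ≤ 1 := (val_root_le hF hD h hN P).trans (pow_le_one' (max_le le_rfl hxP') N)
    obtain ⟨d, hd⟩ := exists_value hK.1 (hfinP.mem_toFinset.1 hP) hyP
    have hd0 : (F.map (evalRingHom c)).eval d = 0 := by
      by_contra hne
      have hall : ∀ q : k[X][X], P.1 (coord F q) ≤ 1 ∧
          P.1 (coord F q - algebraMap k (FF F) ((q.map (evalRingHom c)).eval d)) < 1 := by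
        have hmul : ∀ (u v : FF F) (e e' : k), P.1 u ≤ 1 → P.1 (u - algebraMap k (FF F) e) < 1 →
            P.1 (v - algebraMap k (FF F) e') < 1 → P.1 (u * v - algebraMap k (FF F) (e * e')) < 1 := fun u v e e' hu he he' => by
          rw [show u * v - algebraMap k (FF F) (e * e') = u * (v - algebraMap k (FF F) e') +
            (u - algebraMap k (FF F) e) * algebraMap k (FF F) e' by rw [map_mul]; ring]
          refine (P.1.map_add _ _).trans_lt (max_lt ?_ ?_) <;> rw [map_mul]
          · exact mul_lt_one_of_nonneg_of_lt_one_right hu zero_le' he'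
          · exact mul_lt_one_of_nonneg_of_lt_one_left zero_le' he (P.2.1 _)
        intro q
        induction q using Polynomial.induction_on with
        | C e =>
          induction e using Polynomial.induction_on with
          | C e => rw [hcC]; simp [P.2.1 e]
          | add e e' he he' =>
            simp only [map_add, Polynomial.map_add, eval_add] at he he' ⊢
            refine ⟨(P.1.map_add _ _).trans (max_le he.1 he'.1), ?_⟩
            rw [add_sub_add_comm]
            exact (P.1.map_add _ _).trans_lt (max_lt he.2 he'.2)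
          | monomial n e he =>
            rw [pow_succ, ← mul_assoc, map_mul C, map_mul (coord F), hcX]
            simp only [Polynomial.map_mul, eval_mul, map_C, eval_C, coe_evalRingHom, eval_X] at he ⊢
            exact ⟨by rw [map_mul]; exact mul_le_one' he.1 hxP', hmul _ _ _ _ he.1 he.2 hc⟩
        | add q q' hq hq' =>
          simp only [map_add, Polynomial.map_add, eval_add]
          refine ⟨(P.1.map_add _ _).trans (max_le hq.1 hq'.1), ?_⟩
          rw [add_sub_add_comm]
          exact (P.1.map_add _ _).trans_lt (max_lt hq.2 hq'.2)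
        | monomial n e he =>
          rw [pow_succ, ← mul_assoc, map_mul (coord F), hcY, Polynomial.map_mul, eval_mul, Polynomial.map_X, eval_X]
          exact ⟨by rw [map_mul]; exact mul_le_one' he.1 hyP, hmul _ _ _ _ he.1 he.2 hd⟩
      have h1 := (hall F).2
      rw [(coord_eq_zero_iff hF F).2 dvd_rfl, zero_sub, Valuation.map_neg] at h1
      exact h1.ne (val_algebraMap P hne)
    exact Finset.mem_union_left _ (Finset.mem_image.2
      ⟨⟨(c, d), hgc, hd0⟩, Finset.mem_univ _, (hΦu ⟨(c, d), hgc, hd0⟩ P hc hd).symm⟩)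
  have hb1 : (S.filter fun P => 1 < P.1 x).card ≤ D := by
    refine hzero _ x⁻¹ (transcendental_inv hx) (by rw [adjoin_inv, hrank]) fun P hP => ?_
    rw [map_inv₀]
    exact inv_lt_one_of_one_lt₀ (Finset.mem_filter.1 hP).2
  have hb2 : ∀ c : k, (S.filter fun P => P.1 (x - algebraMap k (FF F) c) < 1).card ≤ D := fun c =>
    hzero _ _ (hsub c).1 (by rw [(hsub c).2, hrank]) fun P hP => (Finset.mem_filter.1 hP).2
  have hlow : S.card ≤ Tn + D * (g.natDegree + 1) := by
    calc S.card ≤ _ := Finset.card_le_card hcover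
      _ ≤ Tn + (D + g.natDegree * D) := (Finset.card_union_le _ _).trans (add_le_add hTimg.le
          ((Finset.card_union_le _ _).trans (add_le_add hb1
            ((Finset.card_biUnion_le_card_mul _ _ _ fun c _ => hb2 c).trans
              (Nat.mul_le_mul_right _ ((Multiset.toFinset_card_le _).trans (card_roots' g)))))))
      _ = _ := by ring
  have hupR : (Tn : ℝ) ≤ S.card := by exact_mod_cast hup
  have hlowR : (S.card : ℝ) ≤ Tn + D * (g.natDegree + 1) := by exact_mod_cast hlow
  rw [abs_le] at hplaces ⊢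
  constructor
  · linarith
  · have : (0 : ℝ) ≤ D * ((g.natDegree : ℝ) + 1) := by positivity
    linarith

end Groth.Agent.H9PB.LangWeil
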