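import Mathlib.Algebra.Polynomial.Bivariate
import Mathlib.Algebra.Polynomial.Monic
import Mathlib.RingTheory.Jacobson.Ring
import Mathlib.RingTheory.Localization.FractionRing
import Mathlib.RingTheory.MvPolynomial.Localization
import Mathlib.FieldTheory.IsAlgClosed.AlgebraicClosure

/-!
# Absolute irreducibility spreads out

A monic polynomial in `Y` over `B[X]` without monic splittings over all finite extensions of the fraction field
has none over every field receiving `B` with a fixed element invertible.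
-/

set_option autoImplicit false
set_option linter.style.haveILetI false
set_option linter.unusedSectionVars false
set_option maxHeartbeats 1000000

open Polynomial

namespace Groth.Agent.H9PB.LangWeil

universe u v

/-- `F` has no nontrivial monic factorisation. -/
def NoSplit {R : Type u} [CommRing R] (F : R[X][X]) : Prop :=
  ∀ G H : R[X][X], G.Monic → H.Monic → G * H = F → G.natDegree = 0 ∨ H.natDegree = 0

theorem coeff_coeff_swap {R : Type u} [CommRing R] (p : R[X][X]) (i j : ℕ) :
    ((Bivariate.swap p).coeff i).coeff j = (p.coeff j).coeff i := by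
  induction p using Polynomial.induction_on' with
  | add p q hp hq => simp [hp, hq]
  | monomial n f =>
    induction f using Polynomial.induction_on' with
    | add f g hf hg => simp [map_add, hf, hg]
    | monomial m r =>
      rw [Bivariate.swap_monomial_monomial]
      simp only [coeff_monomial]
      split_ifs with h1 h2 h3 <;> simp_all [coeff_monomial]

theorem natDegree_coeff_le_swap {R : Type u} [CommRing R] (p : R[X][X]) (j : ℕ) :
    (p.coeff j).natDegree ≤ (Bivariate.swap p).natDegree := by
  refine natDegree_le_iff_coeff_eq_zero.2 fun i hi => ?_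
  rw [← coeff_coeff_swap, coeff_eq_zero_of_natDegree_lt hi, coeff_zero]

theorem natDegree_swap_le {R : Type u} [CommRing R] (p : R[X][X]) {N : ℕ}
    (h : ∀ j, (p.coeff j).natDegree ≤ N) : (Bivariate.swap p).natDegree ≤ N := by
  refine natDegree_le_iff_coeff_eq_zero.2 fun i hi => Polynomial.ext fun j => ?_
  rw [coeff_coeff_swap, coeff_zero]
  exact coeff_eq_zero_of_natDegree_lt ((h j).trans_lt hi)

/-- The coefficients of a factor are bounded by those of the product. -/
theorem natDegree_coeff_factor_le {R : Type u} [CommRing R] [IsDomain R] {G H : R[X][X]} (hG : G ≠ 0)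
    (hH : H ≠ 0) {N : ℕ} (h : ∀ j, ((G * H).coeff j).natDegree ≤ N) (j : ℕ) :
    (G.coeff j).natDegree ≤ N := by
  have h1 := natDegree_swap_le _ h
  rw [map_mul, natDegree_mul ((map_ne_zero_iff _ (AlgEquiv.injective _)).2 hG)
    ((map_ne_zero_iff _ (AlgEquiv.injective _)).2 hH)] at h1
  exact (natDegree_coeff_le_swap G j).trans (le_trans (Nat.le_add_right _ _) h1)

section Spread

variable {B : Type u} [CommRing B] [IsDomain B]

/-- A generic monic polynomial of degree `e` with coefficients of degree at most `N`. -/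
noncomputable def genPoly {R : Type v} [CommRing R] (e N : ℕ) (z : Fin e × Fin (N + 1) → R) : R[X][X] :=
  X ^ e + ∑ i : Fin e, C (∑ j : Fin (N + 1), C (z (i, j)) * X ^ (j : ℕ)) * X ^ (i : ℕ)

theorem genPoly_monic {R : Type v} [CommRing R] (e N : ℕ) (z : Fin e × Fin (N + 1) → R) :
    (genPoly e N z).Monic := monic_X_pow_add (degree_sum_fin_lt _)

theorem natDegree_genPoly {R : Type v} [CommRing R] [Nontrivial R] (e N : ℕ) (z : Fin e × Fin (N + 1) → R) :
    (genPoly e N z).natDegree = e := by
  refine natDegree_eq_of_degree_eq_some ?_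
  rw [genPoly, degree_add_eq_left_of_degree_lt]
  · exact degree_X_pow _
  · rw [degree_X_pow]; exact degree_sum_fin_lt _

theorem map_genPoly {R S : Type v} [CommRing R] [CommRing S] (f : R →+* S) (e N : ℕ)
    (z : Fin e × Fin (N + 1) → R) :
    (genPoly e N z).map (mapRingHom f) = genPoly e N fun q => f (z q) := by
  simp [genPoly, Polynomial.map_add, Polynomial.map_pow, Polynomial.map_sum]

theorem exists_eq_genPoly {R : Type v} [CommRing R] {e N : ℕ} {G : R[X][X]} (hG : G.Monic)
    (he : G.natDegree = e) (hN : ∀ j, (G.coeff j).natDegree ≤ N) : ∃ z, genPoly e N z = G := by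
  refine ⟨fun q => (G.coeff q.1).coeff q.2, ?_⟩
  have h1 : ∀ i : Fin e, (∑ j : Fin (N + 1), C ((G.coeff i).coeff j) * X ^ (j : ℕ)) = G.coeff i := fun i => by
    rw [Fin.sum_univ_eq_sum_range (fun j => C ((G.coeff i).coeff j) * X ^ j)]
    exact ((G.coeff i).as_sum_range_C_mul_X_pow' (Nat.lt_succ_of_le (hN i))).symm
  simp only [genPoly, h1]
  rw [Fin.sum_univ_eq_sum_range (fun i => C (G.coeff i) * X ^ i), ← he]
  exact hG.as_sum.symm

theorem exists_spec_degree (L : Type u) [Field L] [Algebra B L] [IsFractionRing B L] (F : B[X][X]) (N e e' : ℕ)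
    (h : ∀ (L' : Type u) [Field L'] [Algebra L L'] [FiniteDimensional L L'],
      ∀ z w, genPoly e N z * genPoly e' N w ≠ F.map (mapRingHom ((algebraMap L L').comp (algebraMap B L)))) :
    ∃ b : B, b ≠ 0 ∧ ∀ (Ω : Type u) [Field Ω] (φ : B →+* Ω), φ b ≠ 0 →
      ∀ z w, genPoly e N z * genPoly e' N w ≠ F.map (mapRingHom φ) := by
  classical
  let σ := (Fin e × Fin (N + 1)) ⊕ (Fin e' × Fin (N + 1))
  let R := MvPolynomial σ B
  let P : R[X][X] := genPoly e N (fun q => MvPolynomial.X (Sum.inl q)) *
    genPoly e' N (fun q => MvPolynomial.X (Sum.inr q)) - F.map (mapRingHom MvPolynomial.C)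
  let J : Ideal R := Ideal.span (Set.range fun q : ℕ × ℕ => (P.coeff q.1).coeff q.2)
  have key : ∀ {S : Type u} [CommRing S] (φ : B →+* S) (ev : R →+* S),
      ev.comp MvPolynomial.C = φ → (J ≤ RingHom.ker ev ↔
        genPoly e N (fun q => ev (MvPolynomial.X (Sum.inl q))) *
          genPoly e' N (fun q => ev (MvPolynomial.X (Sum.inr q))) = F.map (mapRingHom φ)) := by
    intro S _ φ ev hev
    have hP : P.map (mapRingHom ev) = genPoly e N (fun q => ev (MvPolynomial.X (Sum.inl q))) *
        genPoly e' N (fun q => ev (MvPolynomial.X (Sum.inr q))) - F.map (mapRingHom φ) := by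
      rw [Polynomial.map_sub, Polynomial.map_mul, map_genPoly, map_genPoly, Polynomial.map_map,
        mapRingHom_comp, hev]
    rw [← sub_eq_zero (a := _ * _), ← hP, Ideal.span_le]
    refine ⟨fun hJ => Polynomial.ext fun a => Polynomial.ext fun b => ?_, fun h0 => ?_⟩
    · simpa [coeff_map] using hJ ⟨(a, b), rfl⟩
    · rintro _ ⟨⟨a, b⟩, rfl⟩
      have := congrArg (fun p => (p.coeff a).coeff b) h0
      simpa [coeff_map] using this
  by_cases hb : ∃ b : B, b ≠ 0 ∧ MvPolynomial.C b ∈ J
  · obtain ⟨b, hb0, hbJ⟩ := hb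
    refine ⟨b, hb0, fun Ω _ φ hφ z w hzw => hφ ?_⟩
    let ev : R →+* Ω := MvPolynomial.eval₂Hom φ (Sum.elim z w)
    have hz : (fun q => ev (MvPolynomial.X (Sum.inl q))) = z :=
      funext fun q => MvPolynomial.eval₂Hom_X' _ _ (Sum.inl q)
    have hw : (fun q => ev (MvPolynomial.X (Sum.inr q))) = w :=
      funext fun q => MvPolynomial.eval₂Hom_X' _ _ (Sum.inr q)
    have h1 : J ≤ RingHom.ker ev :=
      (key φ ev (RingHom.ext fun b => MvPolynomial.eval₂Hom_C _ _ b)).2 (by rw [hz, hw]; exact hzw)
    exact ((MvPolynomial.eval₂Hom_C φ (Sum.elim z w) b).symm.trans (h1 hbJ))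
  exfalso
  push Not at hb
  let m : R →+* MvPolynomial σ L := MvPolynomial.map (algebraMap B L)
  have hne : J.map m ≠ ⊤ := by
    intro htop
    letI : Algebra R (MvPolynomial σ L) := m.toAlgebra
    haveI : IsLocalization ((nonZeroDivisors B).map (MvPolynomial.C (σ := σ))) (MvPolynomial σ L) :=
      MvPolynomial.isLocalization (nonZeroDivisors B) L
    obtain ⟨⟨a, s⟩, hs⟩ := (IsLocalization.mem_map_algebraMap_iff
      ((nonZeroDivisors B).map (MvPolynomial.C (σ := σ))) (MvPolynomial σ L)).1
      (show (1 : MvPolynomial σ L) ∈ J.map (algebraMap R (MvPolynomial σ L)) from htop ▸ Submodule.mem_top)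
    obtain ⟨b, hb', hbs⟩ := s.2
    rw [one_mul] at hs
    have := MvPolynomial.map_injective (algebraMap B L) (IsFractionRing.injective B L) hs
    exact hb b (nonZeroDivisors.ne_zero hb') (by rw [hbs, this]; exact a.2)
  obtain ⟨M, hM, hJM⟩ := Ideal.exists_le_maximal _ hne
  let L' := MvPolynomial σ L ⧸ M
  letI : Field L' := Ideal.Quotient.field M
  haveI : FiniteDimensional L L' := finite_of_finite_type_of_isJacobsonRing L L'
  let j : B →+* L' := (algebraMap L L').comp (algebraMap B L)
  refine h L' _ _ ((key j ((Ideal.Quotient.mk M).comp m) ?_).1 fun a ha => ?_)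
  · exact RingHom.ext fun b => congrArg (Ideal.Quotient.mk M) (MvPolynomial.map_C _ b)
  · rw [RingHom.mem_ker, RingHom.comp_apply, Ideal.Quotient.eq_zero_iff_mem]
    exact hJM (Ideal.mem_map_of_mem m ha)

/-- Absence of splittings spreads out from the generic point. -/
theorem exists_spec (L : Type u) [Field L] [Algebra B L] [IsFractionRing B L] (F : B[X][X]) (hF : F.Monic)
    (h : ∀ (L' : Type u) [Field L'] [Algebra L L'] [FiniteDimensional L L'],
      NoSplit (F.map (mapRingHom ((algebraMap L L').comp (algebraMap B L))))) :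
    ∃ b : B, b ≠ 0 ∧ ∀ (Ω : Type u) [Field Ω] (φ : B →+* Ω), φ b ≠ 0 → NoSplit (F.map (mapRingHom φ)) := by
  classical
  set D := F.natDegree
  set N := (Finset.range (D + 1)).sup fun i => (F.coeff i).natDegree
  have hN : ∀ {S : Type u} [CommRing S] (φ : B →+* S) (i : ℕ),
      ((F.map (mapRingHom φ)).coeff i).natDegree ≤ N := by
    intro S _ φ i
    rw [coeff_map, coe_mapRingHom]
    refine natDegree_map_le.trans ?_
    by_cases hi : i ≤ D
    · exact Finset.le_sup (f := fun i => (F.coeff i).natDegree) (Finset.mem_range.2 (Nat.lt_succ_of_le hi))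
    · rw [coeff_eq_zero_of_natDegree_lt (not_le.1 hi), natDegree_zero]; exact Nat.zero_le _
  have hex : ∀ e ∈ Finset.Ioo 0 D, ∃ b : B, b ≠ 0 ∧ ∀ (Ω : Type u) [Field Ω] (φ : B →+* Ω), φ b ≠ 0 →
      ∀ z w, genPoly e N z * genPoly (D - e) N w ≠ F.map (mapRingHom φ) := fun e he => by
    obtain ⟨he0, heD⟩ := Finset.mem_Ioo.1 he
    refine exists_spec_degree L F N e (D - e) fun L' _ _ _ z w hzw => ?_
    rcases h L' _ _ (genPoly_monic _ _ _) (genPoly_monic _ _ _) hzw with h1 | h1 <;>
      rw [natDegree_genPoly] at h1 <;> omega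
  choose! b hb hb' using hex
  refine ⟨∏ e ∈ Finset.Ioo 0 D, b e, Finset.prod_ne_zero_iff.2 hb, fun Ω _ φ hφ G H hG hH hGH => ?_⟩
  rw [map_prod] at hφ
  have hsum : G.natDegree + H.natDegree = D := by
    rw [← natDegree_mul hG.ne_zero hH.ne_zero, hGH, hF.natDegree_map]
  by_contra hcon
  have he : G.natDegree ∈ Finset.Ioo 0 D := Finset.mem_Ioo.2 ⟨by omega, by omega⟩
  obtain ⟨z, hz⟩ := exists_eq_genPoly hG rfl
    (natDegree_coeff_factor_le hG.ne_zero hH.ne_zero fun i => by rw [hGH]; exact hN φ i)
  obtain ⟨w, hw⟩ := exists_eq_genPoly (e := D - G.natDegree) hH (by omega)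
    (natDegree_coeff_factor_le hH.ne_zero hG.ne_zero fun i => by rw [mul_comm, hGH]; exact hN φ i)
  exact hb' _ he Ω φ (Finset.prod_ne_zero_iff.1 hφ _ he) z w (by rw [hz, hw, hGH])

end Spread

end Groth.Agent.H9PB.LangWeil
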