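import Groth.Agent.H9PB.LangWeil.Induction

/-!
# Fibering a regular extension by curves
-/

set_option autoImplicit false
set_option linter.style.haveILetI false
set_option linter.unusedSectionVars false
set_option maxHeartbeats 2000000

open Polynomial IntermediateField
open scoped IntermediateField.algebraAdjoinAdjoin

namespace Groth.Agent.H9PB.LangWeil

universe u

/-- A regular extension presented as a regular curve over a regular extension of one degree less. -/
structure Fibration (k K : Type u) [Field k] [Field K] [Algebra k K] (r : ℕ) where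
  L : IntermediateField k K
  gen : Fin r → L
  indep : AlgebraicIndependent k gen
  sep : Algebra.IsSeparable (IntermediateField.adjoin k (Set.range gen)) L
  closed : ∀ z : L, IsAlgebraic k z → z ∈ Set.range (algebraMap k L)
  T : Finset L
  top : IntermediateField.adjoin k (T : Set L) = ⊤
  x : K
  y : K
  F : L[X][X]
  isFF : FunFld.IsFunctionField L K
  monic : F.Monic
  pos : 0 < F.natDegree
  root : F.eval₂ (aeval x).toRingHom y = 0
  noRel : ∀ p : L[X][X], p.degree < F.degree → p.eval₂ (aeval x).toRingHom y = 0 → p = 0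
  sepF : (F.map (algebraMap L[X] (RatFunc L))).Separable
  frac : ∀ a : K, ∃ (g : L[X]) (P : L[X][X]), g ≠ 0 ∧ a * aeval x g = P.eval₂ (aeval x).toRingHom y
  xtr : Transcendental L x

/-- The fibration of a separably generated regular extension. -/
theorem exists_fibration {k K : Type u} [Field k] [Field K] [Algebra k K] {r : ℕ} (t : Fin (r + 1) → K)
    (ht : AlgebraicIndependent k t) (hsep : Algebra.IsSeparable (IntermediateField.adjoin k (Set.range t)) K)
    (hcl : ∀ a : K, IsAlgebraic k a → a ∈ Set.range (algebraMap k K)) (S : Finset K)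
    (hS : IntermediateField.adjoin k (S : Set K) = ⊤) : Nonempty (Fibration k K r) := by
  classical
  -- the field `L`
  set L₀ := IntermediateField.adjoin k (Set.range (t ∘ Fin.castSucc)) with hL₀
  set x := t (Fin.last r) with hx
  have hxtr₀ : Transcendental L₀ x := by
    intro halg
    have hset : Set.range (t ∘ Fin.castSucc) = t '' {Fin.last r}ᶜ := by
      rw [Set.range_comp]
      congr 1
      ext i
      refine ⟨?_, fun hi => ?_⟩
      · rintro ⟨j, rfl⟩; exact Fin.castSucc_ne_last j
      · exact ⟨i.castPred hi, Fin.castSucc_castPred i hi⟩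
    have h1 := ht.transcendental_adjoin (i := Fin.last r) (s := {Fin.last r}ᶜ) (fun h => h rfl)
    rw [← hset] at h1
    exact h1 ((IsFractionRing.isAlgebraic_iff (Algebra.adjoin k (Set.range (t ∘ Fin.castSucc)))
      L₀ K).2 halg)
  let L := algebraicClosure L₀ K
  have hfg : (⊤ : IntermediateField L₀ K).FG := ⟨S, top_le_iff.1 fun a _ => by
    have : IntermediateField.adjoin k (S : Set K) ≤ (IntermediateField.adjoin L₀ (S : Set K)).restrictScalars k :=
      IntermediateField.adjoin_le_iff.2 (IntermediateField.subset_adjoin L₀ _)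
    exact this (hS ▸ IntermediateField.mem_top)⟩
  haveI : FiniteDimensional L₀ L := GeomIrrSection.finiteDimensional_algebraicClosure L₀ K hfg
  haveI : Algebra.IsAlgebraic L₀ L := Algebra.IsAlgebraic.of_finite _ _
  haveI : IsScalarTower k L K := IsScalarTower.of_algebraMap_eq fun _ => rfl
  have hxtr : Transcendental L x := fun halg => hxtr₀ (IsAlgebraic.restrictScalars L₀ halg)
  -- `K` over `L(x)`
  have hEle : ∀ a : K, a ∈ IntermediateField.adjoin k (Set.range t) → a ∈ L⟮x⟯ := fun a ha => by
    have hle : IntermediateField.adjoin k (Set.range t) ≤ L⟮x⟯.restrictScalars k :=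
      IntermediateField.adjoin_le_iff.2 (by
        rintro _ ⟨i, rfl⟩
        rcases Fin.eq_castSucc_or_eq_last i with ⟨j, rfl⟩ | rfl
        · exact L⟮x⟯.algebraMap_mem (algebraMap L₀ L ⟨t j.castSucc, IntermediateField.subset_adjoin k _ ⟨j, rfl⟩⟩)
        · exact mem_adjoin_simple_self L x)
    exact hle ha
  let fE : IntermediateField.adjoin k (Set.range t) →+* L⟮x⟯ :=
    { toFun := fun a => ⟨a.1, hEle a.1 a.2⟩
      map_one' := rfl
      map_mul' := fun _ _ => rfl
      map_zero' := rfl
      map_add' := fun _ _ => rfl }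
  haveI hsep2 : Algebra.IsSeparable L⟮x⟯ K := ⟨fun a =>
    isSeparable_of_range_le fE (RingHom.id K) (RingHom.ext fun _ => rfl) a (Algebra.IsSeparable.isSeparable _ a)⟩
  haveI hfin : FiniteDimensional L⟮x⟯ K := by
    haveI : IsScalarTower k L⟮x⟯ K := IsScalarTower.of_algebraMap_eq fun _ => rfl
    have htop : IntermediateField.adjoin L⟮x⟯ (S : Set K) = ⊤ := top_le_iff.1 fun a _ => by
      have hle : IntermediateField.adjoin k (S : Set K) ≤
          (IntermediateField.adjoin L⟮x⟯ (S : Set K)).restrictScalars k :=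
        IntermediateField.adjoin_le_iff.2 (IntermediateField.subset_adjoin _ _)
      exact hle (hS ▸ IntermediateField.mem_top)
    haveI : FiniteDimensional L⟮x⟯ (IntermediateField.adjoin L⟮x⟯ (S : Set K)) :=
      IntermediateField.finiteDimensional_adjoin fun a _ => Algebra.IsSeparable.isIntegral _ a
    exact Module.Finite.equiv
      ((IntermediateField.equivOfEq htop).trans IntermediateField.topEquiv).toLinearEquiv
  have hK : FunFld.IsFunctionField L K := ⟨⟨x, hxtr, hfin⟩, fun a ha =>
    ⟨⟨a, mem_algebraicClosure_iff.2 (IsAlgebraic.restrictScalars L₀ ha)⟩, rfl⟩⟩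
  -- coordinates
  let emb : RatFunc L →ₐ[L] K := L⟮x⟯.val.comp (RatFunc.algEquivOfTranscendental x hxtr).toAlgHom
  letI : Algebra (RatFunc L) K := emb.toRingHom.toAlgebra
  letI : Algebra L[X] K := (aeval x : L[X] →ₐ[L] K).toRingHom.toAlgebra
  haveI : IsScalarTower L[X] (RatFunc L) K := IsScalarTower.of_algebraMap_eq fun p => by
    show aeval x p = ((RatFunc.algEquivOfTranscendental x hxtr (algebraMap L[X] (RatFunc L) p) : L⟮x⟯) : K)
    rw [RatFunc.algEquivOfTranscendental_algebraMap]
    simp
  let eq₁ : L⟮x⟯ ≃+* RatFunc L := (RatFunc.algEquivOfTranscendental x hxtr).symm.toRingEquiv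
  have heq₁ : (algebraMap (RatFunc L) K).comp eq₁.toRingHom =
      (RingEquiv.refl K).toRingHom.comp (algebraMap L⟮x⟯ K) :=
    RingHom.ext fun a => congrArg Subtype.val ((RatFunc.algEquivOfTranscendental x hxtr).apply_symm_apply a)
  haveI : FiniteDimensional (RatFunc L) K := Module.Finite.of_equiv_equiv eq₁ (RingEquiv.refl K) heq₁
  haveI : Algebra.IsSeparable (RatFunc L) K := Algebra.IsSeparable.of_equiv_equiv eq₁ (RingEquiv.refl K) heq₁
  obtain ⟨y₀, hy₀⟩ := Field.exists_primitive_element (RatFunc L) K
  obtain ⟨⟨m, hm⟩, hy⟩ := IsIntegral.exists_multiple_integral_of_isLocalization (nonZeroDivisors L[X]) y₀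
    (Algebra.IsIntegral.isIntegral (R := RatFunc L) y₀)
  set y := m • y₀ with hydef
  have hm0 : algebraMap L[X] (RatFunc L) m ≠ 0 :=
    IsFractionRing.to_map_ne_zero_of_mem_nonZeroDivisors hm
  have hgen : (RatFunc L)⟮y⟯ = ⊤ := by
    refine top_le_iff.1 (hy₀.ge.trans (adjoin_simple_le_iff.2 ?_))
    have : y₀ = (algebraMap L[X] (RatFunc L) m)⁻¹ • y := by
      rw [hydef, ← IsScalarTower.algebraMap_smul (RatFunc L) m y₀, smul_smul, inv_mul_cancel₀ hm0, one_smul]
    rw [this]
    exact IntermediateField.smul_mem _ (mem_adjoin_simple_self _ y)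
  set F : L[X][X] := minpoly L[X] y with hFdef
  have hyint : IsIntegral (RatFunc L) y := Algebra.IsIntegral.isIntegral y
  have hF : F.Monic := minpoly.monic hy
  have hmin : F.map (algebraMap L[X] (RatFunc L)) = minpoly (RatFunc L) y :=
    (minpoly.isIntegrallyClosed_eq_field_fractions' (RatFunc L) hy).symm
  have hD : 0 < F.natDegree := by
    rw [← hF.natDegree_map (algebraMap L[X] (RatFunc L)), hmin]; exact minpoly.natDegree_pos hyint
  have hroot : F.eval₂ (aeval x).toRingHom y = 0 := minpoly.aeval L[X] y
  have hsepF : (F.map (algebraMap L[X] (RatFunc L))).Separable := by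
    rw [hmin]; exact Algebra.IsSeparable.isSeparable (RatFunc L) y
  have hindep : ∀ p : L[X][X], p.degree < F.degree → p.eval₂ (aeval x).toRingHom y = 0 → p = 0 := by
    intro p hp h0
    by_contra hp0
    have hinj := IsFractionRing.injective L[X] (RatFunc L)
    have h1 : aeval y (p.map (algebraMap L[X] (RatFunc L))) = 0 := by
      rw [aeval_map_algebraMap]; exact h0
    have h2 := minpoly.degree_le_of_ne_zero (RatFunc L) y
      ((Polynomial.map_ne_zero_iff hinj).2 hp0) h1
    rw [← hmin, degree_map_eq_of_injective hinj, degree_map_eq_of_injective hinj] at h2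
    exact (lt_irrefl _) (hp.trans_le h2)
  have hfrac : ∀ a : K, ∃ (g : L[X]) (P : L[X][X]), g ≠ 0 ∧ a * aeval x g = P.eval₂ (aeval x).toRingHom y := by
    intro a
    obtain ⟨P₀, rfl⟩ : ∃ P₀ : (RatFunc L)[X], aeval y P₀ = a := by
      have h1 : Algebra.adjoin (RatFunc L) {y} = ⊤ := by
        rw [← IntermediateField.adjoin_simple_toSubalgebra_of_isAlgebraic hyint.isAlgebraic, hgen]; rfl
      have h2 : a ∈ Algebra.adjoin (RatFunc L) {y} := h1 ▸ Algebra.mem_top
      rwa [Algebra.adjoin_singleton_eq_range_aeval] at h2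
    induction P₀ using Polynomial.induction_on' with
    | add p q hp hq =>
      obtain ⟨g₁, P₁, hg₁, h₁⟩ := hp
      obtain ⟨g₂, P₂, hg₂, h₂⟩ := hq
      refine ⟨g₁ * g₂, C g₂ * P₁ + C g₁ * P₂, mul_ne_zero hg₁ hg₂, ?_⟩
      simp only [map_add, map_mul, eval₂_add, eval₂_mul, eval₂_C, ← h₁, ← h₂]
      show _ = aeval x g₂ * _ + aeval x g₁ * _
      ring
    | monomial n c =>
      obtain ⟨⟨num, g, hg⟩, hgn⟩ := IsLocalization.surj (nonZeroDivisors L[X]) c
      refine ⟨g, monomial n num, nonZeroDivisors.ne_zero hg, ?_⟩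
      rw [aeval_monomial, eval₂_monomial]
      show _ * algebraMap L[X] K g = algebraMap L[X] K num * _
      rw [IsScalarTower.algebraMap_apply L[X] (RatFunc L) K num, ← hgn, map_mul,
        ← IsScalarTower.algebraMap_apply]
      ring
  -- generators of `L`
  let gen : Fin r → L := fun j => algebraMap L₀ L ⟨t j.castSucc, IntermediateField.subset_adjoin k _ ⟨j, rfl⟩⟩
  let TL : Finset L := Finset.univ.image gen ∪ Finset.univ.image (Module.finBasis L₀ L)
  have hL₀mem : ∀ c : L₀, algebraMap L₀ L c ∈ IntermediateField.adjoin k (Finset.univ.image gen : Set L) := by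
    intro c
    have h1 : IntermediateField.adjoin k (Set.range (t ∘ Fin.castSucc)) ≤
        (IntermediateField.adjoin k (Finset.univ.image gen : Set L)).map (IsScalarTower.toAlgHom k L K) := by
      rw [IntermediateField.adjoin_map]
      refine IntermediateField.adjoin.mono k _ _ ?_
      rintro _ ⟨j, rfl⟩
      exact ⟨gen j, by simp, rfl⟩
    obtain ⟨z, hz, hzc⟩ := h1 c.2
    exact (show z = algebraMap L₀ L c from Subtype.ext hzc) ▸ hz
  have hTL : IntermediateField.adjoin k (TL : Set L) = ⊤ := top_le_iff.1 fun z _ => by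
    rw [← (Module.finBasis L₀ L).sum_repr z]
    refine sum_mem fun i _ => ?_
    rw [Algebra.smul_def]
    refine mul_mem ?_ (IntermediateField.subset_adjoin k _ (Finset.mem_coe.2
      (Finset.mem_union_right _ (Finset.mem_image_of_mem _ (Finset.mem_univ i)))))
    exact IntermediateField.adjoin.mono k _ _ (Finset.coe_subset.2 Finset.subset_union_left) (hL₀mem _)
  have hgenind : AlgebraicIndependent k gen := by
    refine AlgebraicIndependent.of_comp (IsScalarTower.toAlgHom k L K) ?_
    exact ht.comp Fin.castSucc (Fin.castSucc_injective r)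
  have hLsep : Algebra.IsSeparable (IntermediateField.adjoin k (Set.range gen)) L := ⟨fun a => by
    have hmap : (IntermediateField.adjoin k (Set.range gen)).map (IsScalarTower.toAlgHom k L K) = L₀ := by
      rw [IntermediateField.adjoin_map, ← Set.range_comp]; rfl
    have halg : IsAlgebraic L₀ (a : K) := mem_algebraicClosure_iff.1 a.2
    set Et := IntermediateField.adjoin k (Set.range t)
    -- algebraic elements of `L₀(x)` are constants
    have hconst : ∀ z : Et, IsAlgebraic L₀ (z : K) → (z : K) ∈ L₀ := by
      intro z hz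
      have hle : Et ≤ L₀⟮x⟯.restrictScalars k := IntermediateField.adjoin_le_iff.2 (by
        rintro _ ⟨i, rfl⟩
        rcases Fin.eq_castSucc_or_eq_last i with ⟨j, rfl⟩ | rfl
        · exact L₀⟮x⟯.algebraMap_mem (⟨t j.castSucc, IntermediateField.subset_adjoin k _ ⟨j, rfl⟩⟩ : L₀)
        · exact mem_adjoin_simple_self L₀ x)
      let e₀ := RatFunc.algEquivOfTranscendental x hxtr₀
      set u := e₀.symm ⟨z.1, hle z.2⟩ with hu
      have hu' : (e₀ u : K) = z := by rw [hu, e₀.apply_symm_apply]
      have hualg : IsAlgebraic L₀ u :=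
        (isAlgebraic_algHom_iff (L₀⟮x⟯.val.comp e₀.toAlgHom) ((L₀⟮x⟯.val.comp e₀.toAlgHom).injective)).1
          (show IsAlgebraic L₀ (e₀ u : K) from hu' ▸ hz)
      obtain ⟨d, hd⟩ : ∃ d, u = RatFunc.C d := by
        by_contra hne
        exact RatFunc.transcendental_of_ne_C _ hne hualg
      rw [← hu', hd, ← RatFunc.algebraMap_eq_C, AlgEquiv.commutes]
      exact d.2
    have hsepE : IsSeparable Et (a : K) := Algebra.IsSeparable.isSeparable _ _
    have hcoeff : ∀ i, ((minpoly Et (a : K)).coeff i : K) ∈ L₀ := fun i => hconst _ <| by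
      have hdvd : (minpoly Et (a : K)).map (algebraMap Et K) ∣ (minpoly L₀ (a : K)).map (algebraMap L₀ K) := by
        let inc : L₀ →+* Et := (IntermediateField.inclusion (IntermediateField.adjoin.mono k _ _
          (Set.range_comp_subset_range Fin.castSucc t))).toRingHom
        have : minpoly Et (a : K) ∣ (minpoly L₀ (a : K)).map inc := minpoly.dvd _ _ (by
          rw [aeval_def, eval₂_map]
          exact minpoly.aeval L₀ (a : K))
        have h2 := Polynomial.map_dvd (algebraMap Et K) this
        rwa [Polynomial.map_map] at h2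
      have hint := Polynomial.isIntegral_coeff_of_dvd (minpoly L₀ (a : K)) _ (minpoly.monic halg.isIntegral)
        ((minpoly.monic hsepE.isIntegral).map _) hdvd i
      rw [Polynomial.coeff_map] at hint
      exact hint.isAlgebraic
    obtain ⟨P, hP⟩ : ∃ P : L₀[X], P.map (algebraMap L₀ K) = (minpoly Et (a : K)).map (algebraMap Et K) := by
      rw [← mem_lifts, lifts_iff_coeff_lifts]
      exact fun i => ⟨⟨_, hcoeff i⟩, by rw [Polynomial.coeff_map]; rfl⟩
    have hPsep : P.Separable := by
      rw [← Polynomial.separable_map (algebraMap L₀ K), hP, Polynomial.separable_map]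
      exact hsepE
    have hle₀ : L₀ ≤ (IntermediateField.adjoin k (Set.range gen)).map (IsScalarTower.toAlgHom k L K) := hmap.ge
    let f : L₀ →+* IntermediateField.adjoin k (Set.range gen) :=
      { toFun := fun z => ⟨algebraMap L₀ L z, by
          obtain ⟨w, hw, hwz⟩ := hle₀ z.2
          exact (show w = algebraMap L₀ L z from Subtype.ext hwz) ▸ hw⟩
        map_one' := Subtype.ext (map_one (algebraMap L₀ L))
        map_mul' := fun z w => Subtype.ext (map_mul (algebraMap L₀ L) z w)
        map_zero' := Subtype.ext (map_zero (algebraMap L₀ L))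
        map_add' := fun z w => Subtype.ext (map_add (algebraMap L₀ L) z w) }
    refine Polynomial.Separable.of_dvd (Polynomial.Separable.map (f := f) hPsep) (minpoly.dvd _ _ ?_)
    apply (algebraMap L K).injective
    rw [map_zero, aeval_def, Polynomial.eval₂_map, Polynomial.hom_eval₂]
    show P.eval₂ (algebraMap L₀ K) (a : K) = 0
    rw [← Polynomial.eval_map, hP, Polynomial.eval_map]
    exact minpoly.aeval Et (a : K)⟩
  have hLcl : ∀ z : L, IsAlgebraic k z → z ∈ Set.range (algebraMap k L) := fun z hz => by
    obtain ⟨c, hc⟩ := hcl (z : K) (hz.algHom (IsScalarTower.toAlgHom k L K))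
    exact ⟨c, Subtype.ext hc⟩
  exact ⟨{ L := L.restrictScalars k, gen := gen, indep := hgenind, sep := hLsep, closed := hLcl, T := TL,
           top := hTL, x := x, y := y, F := F, isFF := hK, monic := hF, pos := hD, root := hroot,
           noRel := hindep, sepF := hsepF, frac := hfrac, xtr := hxtr }⟩

end Groth.Agent.H9PB.LangWeil
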