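import Groth.Agent.H9PB.LangWeil.TwoSided

/-!
# Points with values in finite fields of a finitely generated field extension
-/

set_option autoImplicit false
set_option linter.style.haveILetI false
set_option linter.unusedSectionVars false
set_option maxHeartbeats 1000000

open CategoryTheory AlgebraicGeometry

namespace Groth.Agent.H9PB.LangWeil

universe u

variable {k : Type u} [Field k] [Finite k]

/-- The estimate for a finitely generated field extension of a finite field. -/
theorem estimate_field {K : Type u} [Field K] [Algebra k K] (r : ℕ) (htr : Algebra.trdeg k K = r) (S : Finset K)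
    (hS : IntermediateField.adjoin k (S : Set K) = ⊤) :
    0 < Module.finrank k (algebraicClosure k K) ∧
    ∃ C : ℝ, 0 ≤ C ∧ ∀ (k' : Type u) [Field k'] [Algebra k k'] [Finite k'],
      (Module.finrank k (algebraicClosure k K) ∣ Module.finrank k k' →
        |(Nat.card (Algebra.adjoin k (S : Set K) →ₐ[k] k') : ℝ) -
          Module.finrank k (algebraicClosure k K) * (Nat.card k' : ℝ) ^ (r : ℝ)| ≤
          C * (Nat.card k' : ℝ) ^ ((r : ℝ) - 1 / 2)) ∧
      (¬ Module.finrank k (algebraicClosure k K) ∣ Module.finrank k k' →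
        (Nat.card (Algebra.adjoin k (S : Set K) →ₐ[k] k') : ℝ) ≤ C * (Nat.card k' : ℝ) ^ ((r : ℝ) - 1)) := by
  classical
  have hfg : (⊤ : IntermediateField k K).FG := ⟨S, hS⟩
  haveI := GeomIrrSection.finiteDimensional_algebraicClosure k K hfg
  refine ⟨Module.finrank_pos, ?_⟩
  set L := algebraicClosure k K with hL
  set m := Module.finrank k L with hm
  haveI : Finite L := Module.finite_of_finite k
  haveI : Algebra.IsAlgebraic k L := algebraicClosure.isAlgebraic k K
  -- the field over its constants
  have hcl : ∀ a : K, IsAlgebraic L a → a ∈ Set.range (algebraMap L K) := fun a ha =>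
    ⟨⟨a, mem_algebraicClosure_iff.2 (ha.restrictScalars k)⟩, rfl⟩
  have hSL : IntermediateField.adjoin L (S : Set K) = ⊤ := top_le_iff.1 fun a _ => by
    have h1 : IntermediateField.adjoin k (S : Set K) ≤ (IntermediateField.adjoin L (S : Set K)).restrictScalars k :=
      IntermediateField.adjoin_le_iff.2 (IntermediateField.subset_adjoin L _)
    exact h1 (hS ▸ IntermediateField.mem_top)
  haveI : Algebra.EssFiniteType L K := IntermediateField.fg_top_iff.1 ⟨S, hSL⟩
  obtain ⟨tb, htb, hsep⟩ := exists_isTranscendenceBasis_and_isSeparable_of_perfectField L K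
  have htb' : (tb.card : Cardinal) = r := by
    rw [← htr, ← trdeg_add_eq k L (A := K), trdeg_eq_zero, zero_add, ← htb.cardinalMk_eq_trdeg]
    simp
  have hcard : tb.card = r := by exact_mod_cast htb'
  let e : Fin r ≃ tb := (Fin.castOrderIso hcard.symm).toEquiv.trans tb.equivFin.symm
  let t : Fin r → K := fun i => (e i : K)
  have ht : AlgebraicIndependent L t := htb.1.comp e e.injective
  have hts : Set.range t = (tb : Set K) := by
    ext z
    exact ⟨by rintro ⟨i, rfl⟩; exact (e i).2, fun hz => ⟨e.symm ⟨z, hz⟩, by simp [t]⟩⟩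
  have hsep' : Algebra.IsSeparable (IntermediateField.adjoin L (Set.range t)) K := by rw [hts]; exact hsep
  -- add a basis of the constants
  let bs : Finset K := Finset.univ.image fun i => algebraMap L K (Module.finBasis k L i)
  obtain ⟨C₁, hC₁, h₁⟩ := close_union r htr.le S bs hS
  set A := Algebra.adjoin k ((S : Set K) ∪ bs) with hA
  have hLA : ∀ z : L, algebraMap L K z ∈ A := fun z => by
    rw [← (Module.finBasis k L).sum_repr z, map_sum]
    refine sum_mem fun i _ => ?_
    rw [Algebra.smul_def, map_mul, ← IsScalarTower.algebraMap_apply]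
    exact mul_mem (A.algebraMap_mem _) (Algebra.subset_adjoin (Or.inr (Finset.mem_coe.2
      (Finset.mem_image_of_mem _ (Finset.mem_univ i)))))
  obtain ⟨C₂, hC₂, h₂⟩ := estimate (k := L) r K t ht hsep' hcl S hSL
  have hAL : ((Algebra.adjoin L (S : Set K)).restrictScalars k) = A := by
    refine le_antisymm (fun z hz => ?_) (Algebra.adjoin_le ?_)
    · change z ∈ Algebra.adjoin L (S : Set K) at hz
      induction hz using Algebra.adjoin_induction with
      | mem a ha => exact Algebra.subset_adjoin (Or.inl ha)
      | algebraMap c => exact hLA c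
      | add a b _ _ ha hb => exact add_mem ha hb
      | mul a b _ _ ha hb => exact mul_mem ha hb
    · rintro z (hz | hz)
      · exact Algebra.subset_adjoin hz
      · obtain ⟨i, -, rfl⟩ := Finset.mem_image.1 hz
        exact Subalgebra.algebraMap_mem (Algebra.adjoin L (S : Set K)) _
  let ιL : L →ₐ[k] A := (IsScalarTower.toAlgHom k L K).codRestrict A hLA
  refine ⟨C₁ + m * C₂, by positivity, fun k' _ _ _ => ?_⟩
  set q : ℝ := (Nat.card k' : ℝ) with hq
  have hq1 : (1 : ℝ) ≤ q := by rw [hq]; exact_mod_cast (Nat.card_pos (α := k'))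
  have h := h₁ k'
  have hexp : q ^ ((r : ℝ) - 1) ≤ q ^ ((r : ℝ) - 1 / 2) := Real.rpow_le_rpow_of_exponent_le hq1 (by linarith)
  haveI : Finite (A →ₐ[k] k') := by
    rw [hA, ← Finset.coe_union]; exact finite_hom (R := k) (k' := k') (S ∪ bs)
  constructor
  · intro hdvd
    haveI : Finite (L →ₐ[k] k') := Finite.of_injective (fun σ => (σ : L → k')) DFunLike.coe_injective
    haveI := Fintype.ofFinite (L →ₐ[k] k')
    have hσ : Fintype.card (L →ₐ[k] k') = m := by rw [← Nat.card_eq_fintype_card]; exact FiniteField.natCard_algHom_of_finrank_dvd hdvd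
    -- split along the embeddings of the constants
    have hsum : |(Nat.card (A →ₐ[k] k') : ℝ) - m * q ^ (r : ℝ)| ≤ m * (C₂ * q ^ ((r : ℝ) - 1 / 2)) := by
      have e1 : Nat.card (A →ₐ[k] k') = ∑ σ : L →ₐ[k] k', Nat.card {ψ : A →ₐ[k] k' // ψ.comp ιL = σ} := by
        rw [← Nat.card_sigma]
        exact Nat.card_congr (Equiv.sigmaFiberEquiv fun ψ : A →ₐ[k] k' => ψ.comp ιL).symm
      have e2 : ∀ σ : L →ₐ[k] k',
          |(Nat.card {ψ : A →ₐ[k] k' // ψ.comp ιL = σ} : ℝ) - q ^ (r : ℝ)| ≤ C₂ * q ^ ((r : ℝ) - 1 / 2) := by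
        intro σ
        letI : Algebra L k' := σ.toRingHom.toAlgebra
        refine le_of_eq_of_le ?_ (h₂ k')
        congr 2
        refine congrArg Nat.cast (Nat.card_congr ?_)
        exact
          { toFun := fun ψ =>
              { toRingHom := ψ.1.toRingHom.comp
                  ((Algebra.adjoin L (S : Set K)).subtype.codRestrict A fun z => hAL.le z.2)
                commutes' := fun c => (DFunLike.congr_fun ψ.2 c : ψ.1 (ιL c) = σ c) }
            invFun := fun χ =>
              ⟨{ toRingHom := χ.toRingHom.comp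
                   (A.subtype.codRestrict (Algebra.adjoin L (S : Set K)) fun z => hAL.ge z.2)
                 commutes' := fun c => by
                   show χ _ = _
                   rw [← σ.commutes c]
                   exact (congrArg χ (Subtype.ext (IsScalarTower.algebraMap_apply k L K c))).trans
                     (χ.commutes (algebraMap k L c)) },
               AlgHom.ext fun c => χ.commutes c⟩
            left_inv := fun ψ => rfl
            right_inv := fun χ => rfl }
      rw [e1, Nat.cast_sum, show (m : ℝ) * q ^ (r : ℝ) = ∑ _σ : L →ₐ[k] k', q ^ (r : ℝ) by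
        rw [Finset.sum_const, Finset.card_univ, hσ, nsmul_eq_mul], ← Finset.sum_sub_distrib]
      refine (Finset.abs_sum_le_sum_abs _ _).trans ((Finset.sum_le_sum fun σ _ => e2 σ).trans (le_of_eq ?_))
      rw [Finset.sum_const, Finset.card_univ, hσ, nsmul_eq_mul]
    have h' := h.trans (mul_le_mul_of_nonneg_left hexp hC₁)
    rw [abs_le] at h' hsum ⊢
    constructor <;> linarith
  · intro hdvd
    haveI : IsEmpty (A →ₐ[k] k') := ⟨fun ψ =>
      hdvd (FiniteField.nonempty_algHom_iff_finrank_dvd.1 ⟨ψ.comp ιL⟩)⟩
    rw [Nat.card_of_isEmpty (α := A →ₐ[k] k'), Nat.cast_zero, sub_zero, abs_of_nonneg (Nat.cast_nonneg _)] at h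
    have : 0 ≤ (m : ℝ) * C₂ * q ^ ((r : ℝ) - 1) := by positivity
    linarith

end Groth.Agent.H9PB.LangWeil
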