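import Groth.Agent.H9PB.LangWeil.Factor
import Groth.Agent.FFLib.Weil.RH
import Groth.Agent.FFLib.Weil.Euler
import Groth.Agent.FFLib.RR
import Groth.Agent.FFLib.LSpace
import Groth.Agent.FFLib.Numer
import Mathlib.FieldTheory.RatFunc.IntermediateField
import Mathlib.FieldTheory.RatFunc.Luroth

/-!
# Points of absolutely irreducible plane curves over finite fields
-/

set_option autoImplicit false
set_option linter.style.haveILetI false
set_option linter.unusedSectionVars false

open Polynomial WithZero IntermediateField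
open FunFld

namespace Groth.Agent.H9PB.LangWeil

open Groth.Agent.FFLib

universe u

variable {k : Type u} [Field k] (F : k[X][X])

theorem irreducible_frac {R : Type u} [Field R] {G : R[X][X]} (hG : G.Monic) (hD : 0 < G.natDegree)
    (h : NoSplit G) : Irreducible (G.map (algebraMap R[X] (RatFunc R))) := by
  refine (hG.irreducible_iff_irreducible_map_fraction_map).1 ((hG.irreducible_iff_natDegree).2 ⟨?_, h⟩)
  rintro rfl
  simp at hD

/-- The extension of scalars to the algebraic closure, on rational functions. -/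
noncomputable def ratMap (k : Type u) [Field k] : RatFunc k →+* RatFunc (AlgebraicClosure k) :=
  IsFractionRing.map (A := k[X]) (B := (AlgebraicClosure k)[X]) (K := RatFunc k) (L := RatFunc (AlgebraicClosure k))
    (j := mapRingHom (algebraMap k (AlgebraicClosure k)))
    (Polynomial.map_injective _ (algebraMap k (AlgebraicClosure k)).injective)

theorem ratMap_algebraMap (p : k[X]) : ratMap k (algebraMap k[X] (RatFunc k) p) =
    algebraMap (AlgebraicClosure k)[X] _ (p.map (algebraMap k (AlgebraicClosure k))) :=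
  IsLocalization.map_eq (nonZeroDivisors_le_comap_nonZeroDivisors_of_injective _
    (Polynomial.map_injective _ (algebraMap k (AlgebraicClosure k)).injective)) p

theorem ratMap_algebraMap_base (c : k) : ratMap k (algebraMap k (RatFunc k) c) =
    algebraMap (AlgebraicClosure k) _ (algebraMap k (AlgebraicClosure k) c) := by
  rw [IsScalarTower.algebraMap_apply k k[X] (RatFunc k), ratMap_algebraMap, Polynomial.algebraMap_eq,
    Polynomial.map_C, ← Polynomial.algebraMap_eq, ← IsScalarTower.algebraMap_apply]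

/-- The function field of the curve `F(x, y) = 0`. -/
noncomputable abbrev FF := AdjoinRoot (F.map (algebraMap k[X] (RatFunc k)))

variable {F}

theorem map_frac_ratMap : (F.map (algebraMap k[X] (RatFunc k))).map (ratMap k) =
    (F.map (mapRingHom (algebraMap k (AlgebraicClosure k)))).map (algebraMap _ (RatFunc (AlgebraicClosure k))) := by
  rw [Polynomial.map_map, Polynomial.map_map]
  congr 1
  exact RingHom.ext ratMap_algebraMap

theorem noSplit_base (hF : F.Monic) (h : NoSplit (F.map (mapRingHom (algebraMap k (AlgebraicClosure k))))) :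
    NoSplit F := fun G H hG hH hGH => by
  have := h _ _ (hG.map _) (hH.map _) (by rw [← Polynomial.map_mul, hGH])
  rwa [hG.natDegree_map, hH.natDegree_map] at this

section Field

variable (hF : F.Monic) (hD : 0 < F.natDegree)
  (h : NoSplit (F.map (mapRingHom (algebraMap k (AlgebraicClosure k)))))

include hF hD h

theorem fact_irreducible : Fact (Irreducible (F.map (algebraMap k[X] (RatFunc k)))) :=
  ⟨irreducible_frac hF hD (noSplit_base hF h)⟩

variable [Fact (Irreducible (F.map (algebraMap k[X] (RatFunc k))))]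

theorem finrank_adjoin :
    Transcendental k (algebraMap (RatFunc k) (FF F) RatFunc.X) ∧
    FiniteDimensional k⟮algebraMap (RatFunc k) (FF F) RatFunc.X⟯ (FF F) ∧
    Module.finrank k⟮algebraMap (RatFunc k) (FF F) RatFunc.X⟯ (FF F) = F.natDegree := by
  have hm : (F.map (algebraMap k[X] (RatFunc k))).Monic := hF.map _
  let emb : RatFunc k →ₐ[k] FF F := IsScalarTower.toAlgHom k (RatFunc k) (FF F)
  have hrange : emb.fieldRange = k⟮algebraMap (RatFunc k) (FF F) RatFunc.X⟯ := by
    rw [AlgHom.fieldRange_eq_map, ← RatFunc.adjoin_X, IntermediateField.adjoin_map, Set.image_singleton]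
    rfl
  let e : RatFunc k ≃+* k⟮algebraMap (RatFunc k) (FF F) RatFunc.X⟯ :=
    ((AlgEquiv.ofInjectiveField emb).trans (IntermediateField.equivOfEq hrange)).toRingEquiv
  have he : (algebraMap k⟮algebraMap (RatFunc k) (FF F) RatFunc.X⟯ (FF F)).comp e.toRingHom =
      (RingEquiv.refl (FF F)).toRingHom.comp (algebraMap (RatFunc k) (FF F)) := RingHom.ext fun _ => rfl
  have hfin : Module.finrank k⟮algebraMap (RatFunc k) (FF F) RatFunc.X⟯ (FF F) = F.natDegree := by
    rw [← Algebra.finrank_eq_of_equiv_equiv e (RingEquiv.refl (FF F)) he]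
    rw [(AdjoinRoot.powerBasis hm.ne_zero).finrank, AdjoinRoot.powerBasis_dim, hF.natDegree_map]
  refine ⟨?_, Module.finite_of_finrank_pos (by omega), hfin⟩
  rw [transcendental_algebraMap_iff (algebraMap (RatFunc k) (FF F)).injective]
  exact RatFunc.transcendental_of_ne_C _ fun ⟨c, hc⟩ => by
    have := congrArg RatFunc.num hc
    rw [RatFunc.num_X, RatFunc.num_C] at this
    exact Polynomial.X_ne_C c this

theorem isFunctionField : IsFunctionField k (FF F) := by
  obtain ⟨hx, hfin, -⟩ := finrank_adjoin hF hD h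
  refine ⟨⟨_, hx, hfin⟩, fun a ha => ?_⟩
  let kb := AlgebraicClosure k
  set Fb := F.map (mapRingHom (algebraMap k kb)) with hFb
  haveI : Fact (Irreducible (Fb.map (algebraMap kb[X] (RatFunc kb)))) :=
    ⟨irreducible_frac (hF.map _) (by rwa [hF.natDegree_map]) h⟩
  have hroot : ((F.map (algebraMap k[X] (RatFunc k))).eval₂ ((AdjoinRoot.of _).comp (ratMap k))
      (AdjoinRoot.root (Fb.map (algebraMap kb[X] (RatFunc kb))))) = 0 := by
    rw [← Polynomial.eval₂_map, map_frac_ratMap]
    exact AdjoinRoot.eval₂_root _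
  let ι : FF F →+* FF Fb := AdjoinRoot.lift _ _ hroot
  have hιc : ∀ c : k, ι (algebraMap k (FF F) c) = algebraMap kb (FF Fb) (algebraMap k kb c) := fun c => by
    rw [IsScalarTower.algebraMap_apply k (RatFunc k) (FF F)]
    show ι (AdjoinRoot.of _ _) = _
    rw [AdjoinRoot.lift_of, RingHom.comp_apply, ratMap_algebraMap_base]
    exact (IsScalarTower.algebraMap_apply kb (RatFunc kb) (FF Fb) _).symm
  obtain ⟨p, hp0, hp⟩ := ha
  obtain ⟨c, hc⟩ : ∃ c : kb, ι a = algebraMap kb (FF Fb) c := by
    have hcomp : ι.comp (algebraMap k (FF F)) = (algebraMap kb (FF Fb)).comp (algebraMap k kb) := RingHom.ext hιc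
    have h0 : Polynomial.eval (ι a) ((p.map (algebraMap k kb)).map (algebraMap kb (FF Fb))) = 0 := by
      rw [Polynomial.eval_map, Polynomial.eval₂_map, ← hcomp, ← Polynomial.hom_eval₂]
      exact (congrArg ι hp).trans (map_zero ι)
    have hmem : ι a ∈ ((p.map (algebraMap k kb)).map (algebraMap kb (FF Fb))).roots := by
      rw [Polynomial.mem_roots (Polynomial.map_ne_zero (Polynomial.map_ne_zero hp0))]
      exact h0
    rw [(IsAlgClosed.splits (p.map (algebraMap k kb))).roots_map, Multiset.mem_map] at hmem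
    obtain ⟨c, -, hc⟩ := hmem
    exact ⟨c, hc.symm⟩
  obtain ⟨P₀, hP₀⟩ := AdjoinRoot.mk_surjective a
  set P := P₀ %ₘ F.map (algebraMap k[X] (RatFunc k))
  have hP : AdjoinRoot.mk (F.map (algebraMap k[X] (RatFunc k))) P = a := by
    rw [← hP₀, AdjoinRoot.mk_eq_mk]
    exact ⟨-(P₀ /ₘ F.map (algebraMap k[X] (RatFunc k))), by
      linear_combination Polynomial.modByMonic_add_div P₀ (F.map (algebraMap k[X] (RatFunc k)))⟩
  have hdeg : P.degree < (F.natDegree : WithBot ℕ) := by
    refine (Polynomial.degree_modByMonic_lt _ (hF.map _)).trans_le ?_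
    rw [hF.degree_map, Polynomial.degree_eq_natDegree hF.ne_zero]
  have hι : ι a = AdjoinRoot.mk _ (P.map (ratMap k)) := by
    rw [← hP]
    show AdjoinRoot.lift _ _ hroot _ = _
    rw [AdjoinRoot.lift_mk, ← Polynomial.eval₂_map]
    exact AdjoinRoot.aeval_eq _
  have hzero : P.map (ratMap k) - C (algebraMap kb (RatFunc kb) c) = 0 := by
    refine Polynomial.eq_zero_of_dvd_of_degree_lt (AdjoinRoot.mk_eq_zero.1 ?_)
      (show _ < (Fb.map (algebraMap kb[X] (RatFunc kb))).degree from ?_)
    · rw [map_sub, ← hι, hc, AdjoinRoot.mk_C, ← AdjoinRoot.algebraMap_eq, ← IsScalarTower.algebraMap_apply, sub_self]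
    · rw [(hF.map _).degree_map, hF.degree_map, Polynomial.degree_eq_natDegree hF.ne_zero]
      refine (Polynomial.degree_sub_le _ _).trans_lt (max_lt ?_ ?_)
      · exact (Polynomial.degree_map_le).trans_lt hdeg
      · exact Polynomial.degree_C_le.trans_lt (by exact_mod_cast hD)
  rw [sub_eq_zero] at hzero
  have hP0 : P = C (P.coeff 0) := Polynomial.eq_C_of_natDegree_le_zero (by
    rw [← Polynomial.natDegree_map (ratMap k), hzero, Polynomial.natDegree_C])
  have hc0 : ratMap k (P.coeff 0) = algebraMap kb (RatFunc kb) c := by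
    have := congrArg (fun q => q.coeff 0) hzero
    rwa [Polynomial.coeff_map, Polynomial.coeff_C_zero] at this
  have halg : IsAlgebraic k (P.coeff 0) := by
    have hca : IsAlgebraic k c := Algebra.IsAlgebraic.isAlgebraic c
    obtain ⟨q, hq0, hq⟩ := hca
    refine ⟨q, hq0, (ratMap k).injective ?_⟩
    rw [map_zero, Polynomial.aeval_def, Polynomial.hom_eval₂, hc0,
      show (ratMap k).comp (algebraMap k (RatFunc k)) = (algebraMap kb (RatFunc kb)).comp (algebraMap k kb) from
        RingHom.ext ratMap_algebraMap_base, ← Polynomial.hom_eval₂, ← Polynomial.aeval_def, hq, map_zero]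
  obtain ⟨d, hd⟩ : ∃ d : k, P.coeff 0 = RatFunc.C d := by
    by_contra hne
    exact RatFunc.transcendental_of_ne_C _ hne halg
  refine ⟨d, ?_⟩
  rw [← hP, hP0, hd, AdjoinRoot.mk_C, IsScalarTower.algebraMap_apply k (RatFunc k) (FF F)]
  rfl

theorem val_root_le {N : ℕ} (hN : ∀ i, (F.coeff i).natDegree ≤ N) (P : Place k (FF F)) :
    P.1 (AdjoinRoot.root (F.map (algebraMap k[X] (RatFunc k)))) ≤
      (max 1 (P.1 (algebraMap (RatFunc k) (FF F) RatFunc.X))) ^ N := by
  set x := algebraMap (RatFunc k) (FF F) RatFunc.X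
  set y := AdjoinRoot.root (F.map (algebraMap k[X] (RatFunc k)))
  set M := max 1 (P.1 x)
  have hM : (1 : WithZero (Multiplicative ℤ)) ≤ M := le_max_left _ _
  set f : k[X] →+* FF F := (AdjoinRoot.of _).comp (algebraMap k[X] (RatFunc k)) with hf
  have hfx : ∀ p : k[X], f p = aeval x p := fun p => by
    refine (DFunLike.congr_fun (?_ : f = (aeval x : k[X] →ₐ[k] FF F).toRingHom) p)
    refine Polynomial.ringHom_ext (fun c => ?_) ?_
    · show f (C c) = aeval x (C c)
      rw [aeval_C, hf, RingHom.comp_apply, ← Polynomial.algebraMap_eq, ← IsScalarTower.algebraMap_apply]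
      exact (IsScalarTower.algebraMap_apply k (RatFunc k) (FF F) c).symm
    · show f X = aeval x X
      rw [aeval_X, hf, RingHom.comp_apply, RatFunc.algebraMap_X]
      rfl
  have hval : ∀ p : k[X], p.natDegree ≤ N → P.1 (f p) ≤ M ^ N := fun p hp => by
    rw [hfx, aeval_eq_sum_range' (Nat.lt_succ_of_le hp)]
    refine Valuation.map_sum_le _ fun i hi => ?_
    rw [Algebra.smul_def, map_mul, map_pow]
    calc P.1 (algebraMap k (FF F) (p.coeff i)) * P.1 x ^ i ≤ 1 * M ^ i :=
          mul_le_mul' (P.2.1 _) (pow_le_pow_left' (le_max_right _ _) i)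
      _ ≤ M ^ N := by rw [one_mul]; exact pow_le_pow_right' hM (Nat.lt_succ_iff.1 (Finset.mem_range.1 hi))
  have hy : F.eval₂ f y = 0 := by
    rw [hf, ← Polynomial.eval₂_map]; exact AdjoinRoot.eval₂_root _
  by_contra hlt
  rw [not_le] at hlt
  have hy1 : 1 < P.1 y := lt_of_le_of_lt (one_le_pow_of_one_le' hM N) hlt
  have hy0 : y ≠ 0 := fun e => by rw [e, map_zero] at hy1; exact not_lt_zero hy1
  rw [Polynomial.eval₂_eq_sum_range, Finset.sum_range_succ, hF.coeff_natDegree, map_one, one_mul] at hy
  have hsum : P.1 (∑ i ∈ Finset.range F.natDegree, f (F.coeff i) * y ^ i) < P.1 (y ^ F.natDegree) := by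
    refine Valuation.map_sum_lt _ (by simpa using pow_ne_zero _ hy0) fun i hi => ?_
    rw [map_mul, map_pow, map_pow]
    have hpos : 0 < P.1 y ^ i := lt_of_lt_of_le zero_lt_one (one_le_pow_of_one_le' hy1.le i)
    calc P.1 (f (F.coeff i)) * P.1 y ^ i ≤ M ^ N * P.1 y ^ i := mul_le_mul_left (hval _ (hN i)) _
      _ < P.1 y * P.1 y ^ i := mul_lt_mul_of_pos_right hlt hpos
      _ = P.1 y ^ (i + 1) := (pow_succ' _ _).symm
      _ ≤ P.1 y ^ F.natDegree := pow_le_pow_right' hy1.le (Finset.mem_range.1 hi)
  have := Valuation.map_add_eq_of_lt_right _ hsum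
  rw [hy, map_zero] at this
  exact pow_ne_zero F.natDegree hy0 ((Valuation.zero_iff P.1).mp this.symm)

/-- The genus is bounded by the degrees. -/
theorem genus_le {N : ℕ} (hN : ∀ i, (F.coeff i).natDegree ≤ N) :
    genus k (FF F) ≤ N * F.natDegree ^ 2 := by
  classical
  obtain ⟨hx, hfin, hrank⟩ := finrank_adjoin hF hD h
  have hK := isFunctionField hF hD h
  set x := algebraMap (RatFunc k) (FF F) RatFunc.X with hxdef
  set y := AdjoinRoot.root (F.map (algebraMap k[X] (RatFunc k))) with hydef
  set D := F.natDegree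
  set n := N * D + 2 * genus k (FF F) + 1 with hn
  let E : Divisor k (FF F) := (n : ℕ) • poles x
  have hE : E.deg = (n : ℤ) * D := by
    show ((n : ℕ) • poles x : Divisor k (FF F)).deg = _
    rw [← natCast_zsmul, deg_zsmul, deg_poles hK.1 hx, hrank]
  let σ := Σ j : Fin D, Fin (n + 1 - N * j)
  have hli : LinearIndependent k (fun q : σ => x ^ (q.2 : ℕ) * y ^ (q.1 : ℕ)) := by
    have hm : (F.map (algebraMap k[X] (RatFunc k))).Monic := hF.map _
    have h1 : LinearIndependent k (fun i : ℕ => (RatFunc.X : RatFunc k) ^ i) :=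
      linearIndependent_powers ((transcendental_algebraMap_iff (algebraMap (RatFunc k) (FF F)).injective).1 hx)
    have h2 := linearIndependent_smul h1 (AdjoinRoot.powerBasis hm.ne_zero).basis.linearIndependent
    have hdim : (AdjoinRoot.powerBasis hm.ne_zero).dim = D := by
      rw [AdjoinRoot.powerBasis_dim, hF.natDegree_map]
    have h3 := h2.comp (fun q : σ => ((q.2 : ℕ), Fin.cast hdim.symm q.1)) (by
      rintro ⟨j, i⟩ ⟨j', i'⟩ heq
      obtain ⟨h4, h5⟩ := Prod.mk.injEq .. ▸ heq
      obtain rfl : j = j' := Fin.ext (by simpa using congrArg Fin.val h5)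
      exact congrArg (Sigma.mk j) (Fin.ext h4))
    convert h3 using 1
    funext q
    rw [Function.comp_apply, Algebra.smul_def, map_pow, PowerBasis.basis_eq_pow, AdjoinRoot.powerBasis_gen]
    rfl
  have hmem : ∀ q : σ, x ^ (q.2 : ℕ) * y ^ (q.1 : ℕ) ∈ L E := fun q P => by
    have hEP : E P = (n : ℤ) * poles x P := by
      show ((n : ℕ) • poles x : Divisor k (FF F)) P = _
      rw [Finsupp.smul_apply, nsmul_eq_mul]
    rw [hEP]
    set M := max 1 (P.1 x)
    have hxM : P.1 x ≤ M := le_max_right _ _
    have hME : M ≤ exp (poles x P) := max_le (by rw [← exp_zero, exp_le_exp]; exact poles_nonneg x P)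
      (val_le_exp_poles hK.1 x P)
    have hy := val_root_le hF hD h hN P
    have hq : (q.2 : ℕ) + N * q.1 ≤ n := by have := q.2.isLt; omega
    rw [map_mul, map_pow, map_pow]
    calc P.1 x ^ (q.2 : ℕ) * P.1 y ^ (q.1 : ℕ) ≤ M ^ (q.2 : ℕ) * (M ^ N) ^ (q.1 : ℕ) :=
          mul_le_mul' (pow_le_pow_left' hxM _) (pow_le_pow_left' hy _)
      _ = M ^ ((q.2 : ℕ) + N * q.1) := by rw [← pow_mul, ← pow_add]
      _ ≤ M ^ n := pow_le_pow_right' (le_max_left _ _) hq
      _ ≤ exp (poles x P) ^ n := pow_le_pow_left' hME n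
      _ = exp ((n : ℤ) * poles x P) := by rw [← exp_nsmul, nsmul_eq_mul]
  have hcard : Fintype.card σ ≤ ell E := by
    haveI := L_finite hK.1 E
    have h1 : LinearIndependent k (fun q : σ => (⟨_, hmem q⟩ : L E)) :=
      LinearIndependent.of_comp (L E).subtype hli
    exact h1.fintype_card_le_finrank
  have hlow : D * (n + 1 - N * D) ≤ Fintype.card σ := by
    rw [Fintype.card_sigma]
    simp only [Fintype.card_fin]
    calc D * (n + 1 - N * D) = ∑ _j : Fin D, (n + 1 - N * D) := by simp
      _ ≤ _ := Finset.sum_le_sum fun j _ => Nat.sub_le_sub_left (Nat.mul_le_mul_left N j.isLt.le) _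
  have hell := ell_of_deg_gt hK (D := E) (by
    rw [hE]
    have : (n : ℤ) * 1 ≤ (n : ℤ) * D := mul_le_mul_of_nonneg_left (by exact_mod_cast hD) (by positivity)
    omega)
  rw [hE] at hell
  have h1 : ((D * (n + 1 - N * D) : ℕ) : ℤ) ≤ ell E := by exact_mod_cast hlow.trans hcard
  rw [hell, Nat.cast_mul, Nat.cast_sub (by omega)] at h1
  push_cast at h1
  have hgoal : (genus k (FF F) : ℤ) ≤ N * D ^ 2 := by
    have : (1 : ℤ) ≤ D := by exact_mod_cast hD
    nlinarith
  exact_mod_cast hgoal

end Field

/-- The values of `x` at rational points of an absolutely irreducible curve off a finite set. -/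
theorem card_x_lower [Finite k] (hF : F.Monic) (hD : 0 < F.natDegree)
    (h : NoSplit (F.map (mapRingHom (algebraMap k (AlgebraicClosure k))))) {N : ℕ}
    (hN : ∀ i, (F.coeff i).natDegree ≤ N) (g : k[X]) (hg : g ≠ 0) :
    (Nat.card k : ℝ) + 1 - 2 * (N * F.natDegree ^ 2) * Real.sqrt (Nat.card k) ≤
      F.natDegree * ((Nat.card {c : k // g.eval c ≠ 0 ∧ ∃ d, (F.map (evalRingHom c)).eval d = 0} : ℕ) +
        g.natDegree + 1) := by
  classical
  haveI := fact_irreducible hF hD h
  obtain ⟨hx, hfin, hrank⟩ := finrank_adjoin hF hD h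
  have hK := isFunctionField hF hD h
  haveI := Fintype.ofFinite k
  set x := algebraMap (RatFunc k) (FF F) RatFunc.X with hxdef
  set y := AdjoinRoot.root (F.map (algebraMap k[X] (RatFunc k))) with hydef
  set D := F.natDegree with hDdef
  obtain ⟨α, hα, hnorm⟩ := norm_sq_root hK
  have hcount : placeCount k (FF F) 1 = Nat.card {P : Place k (FF F) // P.deg = 1} := by simp [placeCount]
  have hfinP : {P : Place k (FF F) | P.deg = 1}.Finite := (finite_deg_le hK.1 1).subset fun P hP => le_of_eq hP
  set S := hfinP.toFinset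
  have hScard : placeCount k (FF F) 1 = S.card := by
    rw [hcount, ← Nat.card_eq_finsetCard]
    exact Nat.card_congr (Equiv.subtypeEquivRight fun P => hfinP.mem_toFinset.symm)
  have hlow : (Nat.card k : ℝ) + 1 - 2 * (N * D ^ 2) * Real.sqrt (Nat.card k) ≤ S.card := by
    have he := placeCount_eq hK.1 α hα le_rfl
    simp only [pow_one] at he
    have hsum : ‖∑ i, α i‖ ≤ 2 * genus k (FF F) * Real.sqrt (Nat.card k) := by
      refine (norm_sum_le _ _).trans ?_
      have h1 : ∀ i, ‖α i‖ = Real.sqrt (Nat.card k) := fun i => by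
        rw [← hnorm i, Real.sqrt_sq (norm_nonneg _)]
      rw [Finset.sum_congr rfl fun i _ => h1 i, Finset.sum_const, Finset.card_univ, Fintype.card_fin, nsmul_eq_mul]
      exact le_of_eq (by push_cast; ring)
    have hre : (placeCount k (FF F) 1 : ℝ) = 1 + Nat.card k - (∑ i, α i).re := by
      have := congrArg Complex.re he
      simpa using this
    have h2 := (Complex.re_le_norm (∑ i, α i)).trans hsum
    have h3 : (genus k (FF F) : ℝ) ≤ N * D ^ 2 := by exact_mod_cast genus_le hF hD h hN
    have h4 : (2 : ℝ) * genus k (FF F) * Real.sqrt (Nat.card k) ≤ 2 * (N * D ^ 2) * Real.sqrt (Nat.card k) := by gcongr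
    rw [← hScard]
    linarith
  have hzero : ∀ (T : Finset (Place k (FF F))) (z : (FF F)), Transcendental k z →
      Module.finrank k⟮z⟯ (FF F) ≤ D → (∀ P ∈ T, P.1 z < 1) → T.card ≤ D := fun T z hz hr hT => by
    have h1 := sum_ord_deg_le hK.1 T hz hT
    have h2 : (T.card : ℤ) ≤ ∑ P ∈ T, P.ord z * (P.deg : ℤ) := by
      rw [Finset.card_eq_sum_ones, Nat.cast_sum]
      refine Finset.sum_le_sum fun P hP => ?_
      have h5 := (val_lt_one_iff P (fun e => hz (by rw [e]; exact isAlgebraic_zero))).mp (hT P hP)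
      have h6 := deg_pos hK.1 P
      push_cast
      nlinarith
    omega
  have hsub : ∀ c : k, Transcendental k (x - algebraMap k (FF F) c) ∧ k⟮x - algebraMap k (FF F) c⟯ = k⟮x⟯ := fun c =>
    ⟨fun hh => hx (by simpa using hh.add (isAlgebraic_algebraMap c)),
      le_antisymm (adjoin_simple_le_iff.2 (sub_mem (mem_adjoin_simple_self k x) (IntermediateField.algebraMap_mem _ c)))
        (adjoin_simple_le_iff.2 (by
          simpa using add_mem (mem_adjoin_simple_self k (x - algebraMap k (FF F) c)) (IntermediateField.algebraMap_mem _ c)))⟩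
  have hpoint : ∀ P ∈ S, P.1 x ≤ 1 →
      ∃ c : k, P.1 (x - algebraMap k (FF F) c) < 1 ∧ ∃ d, (F.map (evalRingHom c)).eval d = 0 := by
    intro P hP hxP
    have hdeg : Module.finrank k (IsLocalRing.ResidueField P.O) = 1 := (hfinP.mem_toFinset.1 hP)
    have hsurj : Function.Surjective (algebraMap k (IsLocalRing.ResidueField P.O)) := fun z => by
      obtain ⟨c, hc⟩ := exists_smul_eq_of_finrank_eq_one hdeg one_ne_zero z
      exact ⟨c, by rw [Algebra.algebraMap_eq_smul_one]; exact hc⟩
    have hyP : P.1 y ≤ 1 := (val_root_le hF hD h hN P).trans (pow_le_one' (max_le le_rfl hxP) N)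
    let xO : P.O := ⟨x, hxP⟩
    let yO : P.O := ⟨y, hyP⟩
    obtain ⟨c, hc⟩ := hsurj (IsLocalRing.residue P.O xO)
    obtain ⟨d, hd⟩ := hsurj (IsLocalRing.residue P.O yO)
    refine ⟨c, ?_, d, (algebraMap k (IsLocalRing.ResidueField P.O)).injective ?_⟩
    · have h0 : IsLocalRing.residue P.O (xO - algebraMap k P.O c) = 0 := by
        rw [map_sub, ← hc]; exact sub_self _
      exact (residue_eq_zero P _).1 h0
    · rw [map_zero, Polynomial.eval_map, Polynomial.hom_eval₂, hd]
      let f : k[X] →+* P.O := eval₂RingHom (algebraMap k P.O) xO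
      have h1 : (algebraMap k (IsLocalRing.ResidueField P.O)).comp (evalRingHom c) = (IsLocalRing.residue P.O).comp f :=
        Polynomial.ringHom_ext (fun a => by simp [f]; rfl) (by simp [f, hc])
      have h2 : (P.O.subtype).comp f = (AdjoinRoot.of _).comp (algebraMap k[X] (RatFunc k)) :=
        Polynomial.ringHom_ext (fun a => by
          simp only [f, RingHom.comp_apply, coe_eval₂RingHom, eval₂_C]
          rw [← Polynomial.algebraMap_eq, ← IsScalarTower.algebraMap_apply]
          exact (coe_algebraMap_O P a).trans (IsScalarTower.algebraMap_apply k (RatFunc k) (FF F) a)) (by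
          simp only [f, RingHom.comp_apply, coe_eval₂RingHom, eval₂_X]
          rw [RatFunc.algebraMap_X]; rfl)
      rw [h1, ← Polynomial.hom_eval₂]
      have h3 : F.eval₂ f yO = 0 := P.O.subtype_injective (by
        rw [map_zero, Polynomial.hom_eval₂, h2, ← Polynomial.eval₂_map]
        exact AdjoinRoot.eval₂_root _)
      rw [h3, map_zero]
  let good := Finset.univ.filter fun c : k => g.eval c ≠ 0 ∧ ∃ d, (F.map (evalRingHom c)).eval d = 0
  let U : Finset k := good ∪ g.roots.toFinset
  have hcover : S ⊆ (S.filter fun P => 1 < P.1 x) ∪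
      U.biUnion fun c => S.filter fun P => P.1 (x - algebraMap k (FF F) c) < 1 := by
    intro P hP
    by_cases hxP : 1 < P.1 x
    · exact Finset.mem_union_left _ (Finset.mem_filter.2 ⟨hP, hxP⟩)
    · obtain ⟨c, hc, hd⟩ := hpoint P hP (not_lt.1 hxP)
      refine Finset.mem_union_right _ (Finset.mem_biUnion.2 ⟨c, ?_, Finset.mem_filter.2 ⟨hP, hc⟩⟩)
      by_cases hgc : g.eval c = 0
      · exact Finset.mem_union_right _ (Multiset.mem_toFinset.2 ((mem_roots hg).2 hgc))
      · exact Finset.mem_union_left _ (Finset.mem_filter.2 ⟨Finset.mem_univ _, hgc, hd⟩)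
  have hb1 : (S.filter fun P => 1 < P.1 x).card ≤ D := by
    refine hzero _ x⁻¹ (transcendental_inv hx) (by rw [adjoin_inv, hrank]) fun P hP => ?_
    rw [map_inv₀]
    exact inv_lt_one_of_one_lt₀ (Finset.mem_filter.1 hP).2
  have hb2 : ∀ c : k, (S.filter fun P => P.1 (x - algebraMap k (FF F) c) < 1).card ≤ D := fun c =>
    hzero _ _ (hsub c).1 (by rw [(hsub c).2, hrank]) fun P hP => (Finset.mem_filter.1 hP).2
  have hU : U.card ≤ good.card + g.natDegree :=
    (Finset.card_union_le _ _).trans (Nat.add_le_add_left ((Multiset.toFinset_card_le _).trans (card_roots' g)) _)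
  have hS : S.card ≤ D * (good.card + g.natDegree + 1) := by
    calc S.card ≤ _ := Finset.card_le_card hcover
      _ ≤ D + U.card * D := (Finset.card_union_le _ _).trans
          (add_le_add hb1 (Finset.card_biUnion_le_card_mul _ _ _ fun c _ => hb2 c))
      _ ≤ D + (good.card + g.natDegree) * D := by gcongr
      _ = D * (good.card + g.natDegree + 1) := by ring
  have hgood : good.card = Nat.card {c : k // g.eval c ≠ 0 ∧ ∃ d, (F.map (evalRingHom c)).eval d = 0} := by
    rw [Nat.card_eq_fintype_card]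
    exact (Fintype.card_subtype _).symm
  rw [← hgood]
  exact hlow.trans (by exact_mod_cast hS)

end Groth.Agent.H9PB.LangWeil
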