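import Groth.Agent.H9PB.LangWeil.Regular
import Groth.Agent.H9PB.LangWeil.PlaneCurve
import Groth.Agent.GeomIrrSection.FinAlg
import Mathlib.FieldTheory.PrimitiveElement
import Mathlib.FieldTheory.SeparableClosure

/-!
# A lower bound for the points of a regular extension over a finite field
-/

set_option autoImplicit false
set_option linter.style.haveILetI false
set_option linter.unusedSectionVars false
set_option maxHeartbeats 2000000

open Polynomial IntermediateField
open scoped IntermediateField.algebraAdjoinAdjoin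

namespace Groth.Agent.H9PB.LangWeil

universe u

variable {R : Type u} [CommRing R] {k : Type u} [Field k]

/-- Separability transfers along maps of subfields. -/
theorem isSeparable_of_range_le {E E' M K : Type u} [Field E] [Field E'] [Field M] [Field K]
    [Algebra E M] [Algebra E' K] (f : E →+* E') (g : M →+* K)
    (hcomm : (algebraMap E' K).comp f = g.comp (algebraMap E M)) (a : M) (h : IsSeparable E a) :
    IsSeparable E' (g a) := by
  refine Polynomial.Separable.of_dvd (Polynomial.Separable.map (f := f) h) (minpoly.dvd E' _ ?_)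
  rw [aeval_def, eval₂_map, hcomm, ← hom_eval₂]
  exact (congrArg g (minpoly.aeval E a)).trans (map_zero g)

/-- Every element of an algebra generated by `S` has a denominator bounded by powers. -/
theorem exists_extend {A K k' : Type u} [CommRing A] [Algebra R A] [Field K] [Algebra R K] [Field k'] [Algebra R k']
    (e : A →ₐ[R] K) (χ : A →ₐ[R] k') (hker : ∀ p, e p = 0 → χ p = 0) (γ : A) (hγ : χ γ ≠ 0) (S : Set K)
    (hS : ∀ a ∈ S, ∃ (m : ℕ) (p : A), a * e γ ^ m = e p) :
    ∃ ψ : Algebra.adjoin R S →ₐ[R] k', ∀ (a : Algebra.adjoin R S) (m : ℕ) (p : A),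
      (a : K) * e γ ^ m = e p → ψ a = χ p / χ γ ^ m := by
  have hall : ∀ a : Algebra.adjoin R S, ∃ (m : ℕ) (p : A), (a : K) * e γ ^ m = e p := by
    rintro ⟨a, ha⟩
    induction ha using Algebra.adjoin_induction with
    | mem a ha => exact hS a ha
    | algebraMap c => exact ⟨0, algebraMap R A c, by simp⟩
    | add a b _ _ iha ihb =>
      obtain ⟨m, p, hp⟩ := iha
      obtain ⟨n, q, hq⟩ := ihb
      refine ⟨m + n, p * γ ^ n + q * γ ^ m, ?_⟩
      simp only [map_add, map_mul, map_pow, ← hp, ← hq]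
      ring
    | mul a b _ _ iha ihb =>
      obtain ⟨m, p, hp⟩ := iha
      obtain ⟨n, q, hq⟩ := ihb
      refine ⟨m + n, p * q, ?_⟩
      simp only [map_mul, ← hp, ← hq]
      ring
  choose m p hp using hall
  have key : ∀ (a : Algebra.adjoin R S) (n : ℕ) (q : A), (a : K) * e γ ^ n = e q →
      χ (p a) / χ γ ^ m a = χ q / χ γ ^ n := fun a n q hq => by
    rw [div_eq_div_iff (pow_ne_zero _ hγ) (pow_ne_zero _ hγ), ← sub_eq_zero, ← map_pow, ← map_pow, ← map_mul,
      ← map_mul, ← map_sub]
    refine hker _ ?_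
    simp only [map_sub, map_mul, map_pow, ← hp a, ← hq]
    ring
  refine ⟨AlgHom.mk ⟨⟨⟨fun a => χ (p a) / χ γ ^ m a, ?_⟩, ?_⟩, ?_, ?_⟩ ?_, key⟩
  · exact (key 1 0 1 (by simp)).trans (by simp)
  · intro a b
    show χ (p (a * b)) / _ = χ (p a) / χ γ ^ m a * (χ (p b) / χ γ ^ m b)
    rw [key (a * b) (m a + m b) (p a * p b) (by
      simp only [MulMemClass.coe_mul, map_mul, ← hp a, ← hp b]; ring), map_mul, pow_add, div_mul_div_comm]
  · exact (key 0 0 0 (by simp)).trans (by simp)
  · intro a b
    show χ (p (a + b)) / _ = χ (p a) / χ γ ^ m a + χ (p b) / χ γ ^ m b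
    rw [key (a + b) (m a + m b) (p a * γ ^ m b + p b * γ ^ m a) (by
      simp only [AddMemClass.coe_add, map_add, map_mul, map_pow, ← hp a, ← hp b]; ring)]
    rw [map_add, map_mul, map_mul, map_pow, map_pow, div_add_div _ _ (pow_ne_zero _ hγ) (pow_ne_zero _ hγ), pow_add]
    ring
  · intro c
    exact (key (algebraMap R _ c) 0 (algebraMap R A c) (by simp)).trans (by simp)

/-- Homomorphisms from a finitely generated algebra to a finite ring are finitely many. -/
theorem finite_hom {K k' : Type u} [Field K] [Algebra R K] [Field k'] [Algebra R k'] [Finite k'] (S : Finset K) :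
    Finite (Algebra.adjoin R (S : Set K) →ₐ[R] k') :=
  Finite.of_injective (fun ψ (a : S) => ψ ⟨a, Algebra.subset_adjoin a.2⟩) fun ψ ψ' h => by
    refine AlgHom.adjoin_ext fun a ha => ?_
    exact congrFun h ⟨a, ha⟩

/-- Membership of both variables' coefficients gives a lift. -/
theorem exists_lift₂ {B L : Type u} [CommRing B] [CommRing L] (f : B →+* L) (P : L[X][X])
    (h : ∀ i j, (P.coeff i).coeff j ∈ f.range) : ∃ Q : B[X][X], Q.map (mapRingHom f) = P := by
  rw [← mem_lifts, lifts_iff_coeff_lifts]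
  exact fun i => (mem_lifts _).1 ((lifts_iff_coeff_lifts _).2 fun j => h i j)

/-- The coefficients of a polynomial in two variables, as a finite set. -/
noncomputable def coeffs₂ {L : Type u} [CommRing L] (P : L[X][X]) : Finset L :=
  open scoped Classical in
  P.support.biUnion fun i => (P.coeff i).support.image fun j => (P.coeff i).coeff j

theorem coeff_mem_adjoin {L : Type u} [CommRing L] [Algebra R L] (P : L[X][X]) (T : Set L)
    (h : (coeffs₂ P : Set L) ⊆ T) (i j : ℕ) :
    (P.coeff i).coeff j ∈ (Algebra.adjoin R T).val.toRingHom.range := by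
  classical
  by_cases h0 : (P.coeff i).coeff j = 0
  · rw [h0]; exact zero_mem _
  have hi : P.coeff i ≠ 0 := fun hh => h0 (by rw [hh, coeff_zero])
  exact ⟨⟨_, Algebra.subset_adjoin (h (Finset.mem_biUnion.2 ⟨i, mem_support_iff.2 hi,
    Finset.mem_image.2 ⟨j, mem_support_iff.2 h0, rfl⟩⟩))⟩, rfl⟩

section Fractions

variable [IsDomain R] [Algebra R k] [IsFractionRing R k] {K : Type u} [Field K] [Algebra k K] [Algebra R K] [IsScalarTower R k K]
  {S : Set K}

/-- Fractions of the algebra generated over the base domain fill the generated field. -/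
theorem exists_den (hS : IntermediateField.adjoin k S = ⊤) (z : K) :
    ∃ d : K, d ≠ 0 ∧ d ∈ Algebra.adjoin R S ∧ z * d ∈ Algebra.adjoin R S := by
  have hz : z ∈ IntermediateField.adjoin k S := hS ▸ IntermediateField.mem_top
  induction hz using IntermediateField.adjoin_induction with
  | mem a ha => exact ⟨1, one_ne_zero, one_mem _, by rw [mul_one]; exact Algebra.subset_adjoin ha⟩
  | algebraMap c =>
    obtain ⟨⟨a, s, hs⟩, h⟩ := IsLocalization.surj (nonZeroDivisors R) c
    refine ⟨algebraMap R K s, ?_, Subalgebra.algebraMap_mem _ _, ?_⟩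
    · rw [IsScalarTower.algebraMap_apply R k K]
      exact (_root_.map_ne_zero _).2 (IsFractionRing.to_map_ne_zero_of_mem_nonZeroDivisors hs)
    · rw [IsScalarTower.algebraMap_apply R k K s, ← map_mul, h, ← IsScalarTower.algebraMap_apply]
      exact Subalgebra.algebraMap_mem _ _
  | add a b _ _ iha ihb =>
    obtain ⟨d, hd0, hd, had⟩ := iha
    obtain ⟨e, he0, he, hbe⟩ := ihb
    refine ⟨d * e, mul_ne_zero hd0 he0, mul_mem hd he, ?_⟩
    rw [show (a + b) * (d * e) = a * d * e + b * e * d by ring]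
    exact add_mem (mul_mem had he) (mul_mem hbe hd)
  | inv a _ iha =>
    obtain ⟨d, hd0, hd, had⟩ := iha
    rcases eq_or_ne a 0 with rfl | ha
    · exact ⟨1, one_ne_zero, one_mem _, by simp⟩
    · exact ⟨a * d, mul_ne_zero ha hd0, had, by rwa [← mul_assoc, inv_mul_cancel₀ ha, one_mul]⟩
  | mul a b _ _ iha ihb =>
    obtain ⟨d, hd0, hd, had⟩ := iha
    obtain ⟨e, he0, he, hbe⟩ := ihb
    refine ⟨d * e, mul_ne_zero hd0 he0, mul_mem hd he, ?_⟩
    rw [show a * b * (d * e) = a * d * (b * e) by ring]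
    exact mul_mem had hbe

end Fractions

/-- The statement proved by induction: for a regular extension of the fraction field of `R` and a generating
set `S`, homomorphisms `R[S] → k'` to large finite fields over `R` off a divisor number at least `c q ^ r`. -/
def LowerBound (R k : Type u) [CommRing R] [Field k] [Algebra R k] (r : ℕ) : Prop :=
  ∀ (K : Type u) [Field K] [Algebra k K] [Algebra R K] [IsScalarTower R k K] (t : Fin r → K),
    AlgebraicIndependent k t →
    Algebra.IsSeparable (IntermediateField.adjoin k (Set.range t)) K →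
    (∀ a : K, IsAlgebraic k a → a ∈ Set.range (algebraMap k K)) →
    ∀ S : Finset K, IntermediateField.adjoin k (S : Set K) = ⊤ →
      ∃ (c : ℝ) (Q₀ : ℕ) (b₀ : R), 0 < c ∧ b₀ ≠ 0 ∧
        ∀ (k' : Type u) [Field k'] [Algebra R k'] [Finite k'], algebraMap R k' b₀ ≠ 0 → Q₀ ≤ Nat.card k' →
          c * (Nat.card k' : ℝ) ^ r ≤ Nat.card (Algebra.adjoin R (S : Set K) →ₐ[R] k')

variable [IsDomain R] [Algebra R k] [IsFractionRing R k]

theorem lowerBound_zero : LowerBound R k 0 := by
  intro K _ _ _ _ t _ hsep hcl S _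
  have hbot : IntermediateField.adjoin k (Set.range t) = ⊥ := by
    rw [Set.range_eq_empty, IntermediateField.adjoin_empty]
  have hsurj : Function.Surjective (algebraMap k K) := fun a => by
    refine hcl a ?_
    let f : IntermediateField.adjoin k (Set.range t) →+* k :=
      (((IntermediateField.equivOfEq hbot).trans (IntermediateField.botEquiv k K)).toAlgHom).toRingHom
    have hf : (algebraMap k K).comp f =
        (RingHom.id K).comp (algebraMap (IntermediateField.adjoin k (Set.range t)) K) := RingHom.ext fun z => by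
      obtain ⟨w, hw⟩ := IntermediateField.mem_bot.1 (hbot ▸ z.2 : (z : K) ∈ (⊥ : IntermediateField k K))
      obtain rfl : z = algebraMap k _ w := Subtype.ext hw.symm
      simp [f]
    exact (isSeparable_of_range_le f (RingHom.id K) hf a (Algebra.IsSeparable.isSeparable _ a)).isIntegral.isAlgebraic
  classical
  choose u hu using hsurj
  choose w hw using fun c : k => IsLocalization.surj (nonZeroDivisors R) c
  let den : K → R := fun a => (w (u a)).2
  let num : K → R := fun a => (w (u a)).1
  have hden : ∀ a : K, a * algebraMap R K (den a) = algebraMap R K (num a) := fun a => by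
    rw [IsScalarTower.algebraMap_apply R k K, IsScalarTower.algebraMap_apply R k K, ← hw (u a), map_mul, hu]
  refine ⟨1, 0, ∏ a ∈ S, den a, one_pos,
    Finset.prod_ne_zero_iff.2 fun a _ => nonZeroDivisors.ne_zero (w (u a)).2.2, fun k' _ _ _ hb _ => ?_⟩
  have hinj : Function.Injective (algebraMap R K) := by
    rw [IsScalarTower.algebraMap_eq R k K]
    exact (algebraMap k K).injective.comp (IsFractionRing.injective R k)
  obtain ⟨ψ, -⟩ := exists_extend (Algebra.ofId R K) (Algebra.ofId R k')
    (fun p hp => by rw [show p = 0 from (map_eq_zero_iff _ hinj).1 hp, map_zero]) (∏ a ∈ S, den a) hb (S : Set K)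
    (fun a ha => ⟨1, num a * ∏ z ∈ S.erase a, den z, by
      rw [pow_one, ← Finset.mul_prod_erase S den ha, map_mul, map_mul, ← mul_assoc]
      exact congrArg (· * _) (hden a)⟩)
  haveI := finite_hom (k' := k') (R := R) S
  haveI : Nonempty (Algebra.adjoin R (S : Set K) →ₐ[R] k') := ⟨ψ⟩
  rw [pow_zero, mul_one]
  exact_mod_cast Nat.one_le_iff_ne_zero.2 Nat.card_pos.ne'

theorem lowerBound_succ {r : ℕ} (ih : LowerBound R k r) : LowerBound R k (r + 1) := by
  classical
  intro K _ _ _ _ t ht hsep hcl S hS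
  -- the field `L`
  set L₀ := IntermediateField.adjoin k (Set.range (t ∘ Fin.castSucc)) with hL₀
  set x := t (Fin.last r) with hx
  have hxtr₀ : Transcendental L₀ x := by
    intro halg
    have hset : Set.range (t ∘ Fin.castSucc) = t '' {Fin.last r}ᶜ := by
      rw [Set.range_comp]
      congr 1
      ext i
      refine ⟨?_, fun hi => ?_⟩
      · rintro ⟨j, rfl⟩; exact Fin.castSucc_ne_last j
      · exact ⟨i.castPred hi, Fin.castSucc_castPred i hi⟩
    have h1 := ht.transcendental_adjoin (i := Fin.last r) (s := {Fin.last r}ᶜ) (fun h => h rfl)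
    rw [← hset] at h1
    exact h1 ((IsFractionRing.isAlgebraic_iff (Algebra.adjoin k (Set.range (t ∘ Fin.castSucc)))
      L₀ K).2 halg)
  let L := algebraicClosure L₀ K
  have hfg : (⊤ : IntermediateField L₀ K).FG := ⟨S, top_le_iff.1 fun a _ => by
    have : IntermediateField.adjoin k (S : Set K) ≤ (IntermediateField.adjoin L₀ (S : Set K)).restrictScalars k :=
      IntermediateField.adjoin_le_iff.2 (IntermediateField.subset_adjoin L₀ _)
    exact this (hS ▸ IntermediateField.mem_top)⟩
  haveI : FiniteDimensional L₀ L := GeomIrrSection.finiteDimensional_algebraicClosure L₀ K hfg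
  haveI : Algebra.IsAlgebraic L₀ L := Algebra.IsAlgebraic.of_finite _ _
  haveI : IsScalarTower k L K := IsScalarTower.of_algebraMap_eq fun _ => rfl
  haveI : IsScalarTower R L₀ K := IsScalarTower.of_algebraMap_eq fun _ => rfl
  haveI : IsScalarTower R L K := IsScalarTower.of_algebraMap_eq fun _ => rfl
  haveI : IsScalarTower R k L := IsScalarTower.of_algebraMap_eq fun c =>
    Subtype.ext (IsScalarTower.algebraMap_apply R k K c)
  have hxtr : Transcendental L x := fun halg => hxtr₀ (IsAlgebraic.restrictScalars L₀ halg)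
  -- `K` over `L(x)`
  have hEle : ∀ a : K, a ∈ IntermediateField.adjoin k (Set.range t) → a ∈ L⟮x⟯ := fun a ha => by
    have hle : IntermediateField.adjoin k (Set.range t) ≤ L⟮x⟯.restrictScalars k :=
      IntermediateField.adjoin_le_iff.2 (by
        rintro _ ⟨i, rfl⟩
        rcases Fin.eq_castSucc_or_eq_last i with ⟨j, rfl⟩ | rfl
        · exact L⟮x⟯.algebraMap_mem (algebraMap L₀ L ⟨t j.castSucc, IntermediateField.subset_adjoin k _ ⟨j, rfl⟩⟩)
        · exact mem_adjoin_simple_self L x)
    exact hle ha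
  let fE : IntermediateField.adjoin k (Set.range t) →+* L⟮x⟯ :=
    { toFun := fun a => ⟨a.1, hEle a.1 a.2⟩
      map_one' := rfl
      map_mul' := fun _ _ => rfl
      map_zero' := rfl
      map_add' := fun _ _ => rfl }
  haveI hsep2 : Algebra.IsSeparable L⟮x⟯ K := ⟨fun a =>
    isSeparable_of_range_le fE (RingHom.id K) (RingHom.ext fun _ => rfl) a (Algebra.IsSeparable.isSeparable _ a)⟩
  haveI hfin : FiniteDimensional L⟮x⟯ K := by
    haveI : IsScalarTower k L⟮x⟯ K := IsScalarTower.of_algebraMap_eq fun _ => rfl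
    have htop : IntermediateField.adjoin L⟮x⟯ (S : Set K) = ⊤ := top_le_iff.1 fun a _ => by
      have hle : IntermediateField.adjoin k (S : Set K) ≤
          (IntermediateField.adjoin L⟮x⟯ (S : Set K)).restrictScalars k :=
        IntermediateField.adjoin_le_iff.2 (IntermediateField.subset_adjoin _ _)
      exact hle (hS ▸ IntermediateField.mem_top)
    haveI : FiniteDimensional L⟮x⟯ (IntermediateField.adjoin L⟮x⟯ (S : Set K)) :=
      IntermediateField.finiteDimensional_adjoin fun a _ => Algebra.IsSeparable.isIntegral _ a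
    exact Module.Finite.equiv
      ((IntermediateField.equivOfEq htop).trans IntermediateField.topEquiv).toLinearEquiv
  have hK : FunFld.IsFunctionField L K := ⟨⟨x, hxtr, hfin⟩, fun a ha =>
    ⟨⟨a, mem_algebraicClosure_iff.2 (IsAlgebraic.restrictScalars L₀ ha)⟩, rfl⟩⟩
  -- coordinates
  let emb : RatFunc L →ₐ[L] K := L⟮x⟯.val.comp (RatFunc.algEquivOfTranscendental x hxtr).toAlgHom
  letI : Algebra (RatFunc L) K := emb.toRingHom.toAlgebra
  letI : Algebra L[X] K := (aeval x : L[X] →ₐ[L] K).toRingHom.toAlgebra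
  haveI : IsScalarTower L[X] (RatFunc L) K := IsScalarTower.of_algebraMap_eq fun p => by
    show aeval x p = ((RatFunc.algEquivOfTranscendental x hxtr (algebraMap L[X] (RatFunc L) p) : L⟮x⟯) : K)
    rw [RatFunc.algEquivOfTranscendental_algebraMap]
    simp
  let eq₁ : L⟮x⟯ ≃+* RatFunc L := (RatFunc.algEquivOfTranscendental x hxtr).symm.toRingEquiv
  have heq₁ : (algebraMap (RatFunc L) K).comp eq₁.toRingHom =
      (RingEquiv.refl K).toRingHom.comp (algebraMap L⟮x⟯ K) :=
    RingHom.ext fun a => congrArg Subtype.val ((RatFunc.algEquivOfTranscendental x hxtr).apply_symm_apply a)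
  haveI : FiniteDimensional (RatFunc L) K := Module.Finite.of_equiv_equiv eq₁ (RingEquiv.refl K) heq₁
  haveI : Algebra.IsSeparable (RatFunc L) K := Algebra.IsSeparable.of_equiv_equiv eq₁ (RingEquiv.refl K) heq₁
  obtain ⟨y₀, hy₀⟩ := Field.exists_primitive_element (RatFunc L) K
  obtain ⟨⟨m, hm⟩, hy⟩ := IsIntegral.exists_multiple_integral_of_isLocalization (nonZeroDivisors L[X]) y₀
    (Algebra.IsIntegral.isIntegral (R := RatFunc L) y₀)
  set y := m • y₀ with hydef
  have hm0 : algebraMap L[X] (RatFunc L) m ≠ 0 :=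
    IsFractionRing.to_map_ne_zero_of_mem_nonZeroDivisors hm
  have hgen : (RatFunc L)⟮y⟯ = ⊤ := by
    refine top_le_iff.1 (hy₀.ge.trans (adjoin_simple_le_iff.2 ?_))
    have : y₀ = (algebraMap L[X] (RatFunc L) m)⁻¹ • y := by
      rw [hydef, ← IsScalarTower.algebraMap_smul (RatFunc L) m y₀, smul_smul, inv_mul_cancel₀ hm0, one_smul]
    rw [this]
    exact IntermediateField.smul_mem _ (mem_adjoin_simple_self _ y)
  set F : L[X][X] := minpoly L[X] y with hFdef
  have hyint : IsIntegral (RatFunc L) y := Algebra.IsIntegral.isIntegral y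
  have hF : F.Monic := minpoly.monic hy
  have hmin : F.map (algebraMap L[X] (RatFunc L)) = minpoly (RatFunc L) y :=
    (minpoly.isIntegrallyClosed_eq_field_fractions' (RatFunc L) hy).symm
  have hD : 0 < F.natDegree := by
    rw [← hF.natDegree_map (algebraMap L[X] (RatFunc L)), hmin]; exact minpoly.natDegree_pos hyint
  have hroot : F.eval₂ (aeval x).toRingHom y = 0 := minpoly.aeval L[X] y
  have hsepF : (F.map (algebraMap L[X] (RatFunc L))).Separable := by
    rw [hmin]; exact Algebra.IsSeparable.isSeparable (RatFunc L) y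
  have hindep : ∀ p : L[X][X], p.degree < F.degree → p.eval₂ (aeval x).toRingHom y = 0 → p = 0 := by
    intro p hp h0
    by_contra hp0
    have hinj := IsFractionRing.injective L[X] (RatFunc L)
    have h1 : aeval y (p.map (algebraMap L[X] (RatFunc L))) = 0 := by
      rw [aeval_map_algebraMap]; exact h0
    have h2 := minpoly.degree_le_of_ne_zero (RatFunc L) y
      ((Polynomial.map_ne_zero_iff hinj).2 hp0) h1
    rw [← hmin, degree_map_eq_of_injective hinj, degree_map_eq_of_injective hinj] at h2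
    exact (lt_irrefl _) (hp.trans_le h2)
  have hfrac : ∀ a : K, ∃ (g : L[X]) (P : L[X][X]), g ≠ 0 ∧ a * aeval x g = P.eval₂ (aeval x).toRingHom y := by
    intro a
    obtain ⟨P₀, rfl⟩ : ∃ P₀ : (RatFunc L)[X], aeval y P₀ = a := by
      have h1 : Algebra.adjoin (RatFunc L) {y} = ⊤ := by
        rw [← IntermediateField.adjoin_simple_toSubalgebra_of_isAlgebraic hyint.isAlgebraic, hgen]; rfl
      have h2 : a ∈ Algebra.adjoin (RatFunc L) {y} := h1 ▸ Algebra.mem_top
      rwa [Algebra.adjoin_singleton_eq_range_aeval] at h2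
    induction P₀ using Polynomial.induction_on' with
    | add p q hp hq =>
      obtain ⟨g₁, P₁, hg₁, h₁⟩ := hp
      obtain ⟨g₂, P₂, hg₂, h₂⟩ := hq
      refine ⟨g₁ * g₂, C g₂ * P₁ + C g₁ * P₂, mul_ne_zero hg₁ hg₂, ?_⟩
      simp only [map_add, map_mul, eval₂_add, eval₂_mul, eval₂_C, ← h₁, ← h₂]
      show _ = aeval x g₂ * _ + aeval x g₁ * _
      ring
    | monomial n c =>
      obtain ⟨⟨num, g, hg⟩, hgn⟩ := IsLocalization.surj (nonZeroDivisors L[X]) c
      refine ⟨g, monomial n num, nonZeroDivisors.ne_zero hg, ?_⟩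
      rw [aeval_monomial, eval₂_monomial]
      show _ * algebraMap L[X] K g = algebraMap L[X] K num * _
      rw [IsScalarTower.algebraMap_apply L[X] (RatFunc L) K num, ← hgn, map_mul,
        ← IsScalarTower.algebraMap_apply]
      ring
  -- generators of `L`
  let gen : Fin r → L := fun j => algebraMap L₀ L ⟨t j.castSucc, IntermediateField.subset_adjoin k _ ⟨j, rfl⟩⟩
  let TL : Finset L := Finset.univ.image gen ∪ Finset.univ.image (Module.finBasis L₀ L)
  have hL₀mem : ∀ c : L₀, algebraMap L₀ L c ∈ IntermediateField.adjoin k (Finset.univ.image gen : Set L) := by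
    intro c
    have h1 : IntermediateField.adjoin k (Set.range (t ∘ Fin.castSucc)) ≤
        (IntermediateField.adjoin k (Finset.univ.image gen : Set L)).map (IsScalarTower.toAlgHom k L K) := by
      rw [IntermediateField.adjoin_map]
      refine IntermediateField.adjoin.mono k _ _ ?_
      rintro _ ⟨j, rfl⟩
      exact ⟨gen j, by simp, rfl⟩
    obtain ⟨z, hz, hzc⟩ := h1 c.2
    exact (show z = algebraMap L₀ L c from Subtype.ext hzc) ▸ hz
  have hTL : IntermediateField.adjoin k (TL : Set L) = ⊤ := top_le_iff.1 fun z _ => by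
    rw [← (Module.finBasis L₀ L).sum_repr z]
    refine sum_mem fun i _ => ?_
    rw [Algebra.smul_def]
    refine mul_mem ?_ (IntermediateField.subset_adjoin k _ (Finset.mem_coe.2
      (Finset.mem_union_right _ (Finset.mem_image_of_mem _ (Finset.mem_univ i)))))
    exact IntermediateField.adjoin.mono k _ _ (Finset.coe_subset.2 Finset.subset_union_left) (hL₀mem _)
  have hgenind : AlgebraicIndependent k gen := by
    refine AlgebraicIndependent.of_comp (IsScalarTower.toAlgHom k L K) ?_
    exact ht.comp Fin.castSucc (Fin.castSucc_injective r)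
  have hLsep : Algebra.IsSeparable (IntermediateField.adjoin k (Set.range gen)) L := ⟨fun a => by
    have hmap : (IntermediateField.adjoin k (Set.range gen)).map (IsScalarTower.toAlgHom k L K) = L₀ := by
      rw [IntermediateField.adjoin_map, ← Set.range_comp]; rfl
    have halg : IsAlgebraic L₀ (a : K) := mem_algebraicClosure_iff.1 a.2
    set Et := IntermediateField.adjoin k (Set.range t)
    -- algebraic elements of `L₀(x)` are constants
    have hconst : ∀ z : Et, IsAlgebraic L₀ (z : K) → (z : K) ∈ L₀ := by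
      intro z hz
      have hle : Et ≤ L₀⟮x⟯.restrictScalars k := IntermediateField.adjoin_le_iff.2 (by
        rintro _ ⟨i, rfl⟩
        rcases Fin.eq_castSucc_or_eq_last i with ⟨j, rfl⟩ | rfl
        · exact L₀⟮x⟯.algebraMap_mem (⟨t j.castSucc, IntermediateField.subset_adjoin k _ ⟨j, rfl⟩⟩ : L₀)
        · exact mem_adjoin_simple_self L₀ x)
      let e₀ := RatFunc.algEquivOfTranscendental x hxtr₀
      set u := e₀.symm ⟨z.1, hle z.2⟩ with hu
      have hu' : (e₀ u : K) = z := by rw [hu, e₀.apply_symm_apply]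
      have hualg : IsAlgebraic L₀ u :=
        (isAlgebraic_algHom_iff (L₀⟮x⟯.val.comp e₀.toAlgHom) ((L₀⟮x⟯.val.comp e₀.toAlgHom).injective)).1
          (show IsAlgebraic L₀ (e₀ u : K) from hu' ▸ hz)
      obtain ⟨d, hd⟩ : ∃ d, u = RatFunc.C d := by
        by_contra hne
        exact RatFunc.transcendental_of_ne_C _ hne hualg
      rw [← hu', hd, ← RatFunc.algebraMap_eq_C, AlgEquiv.commutes]
      exact d.2
    have hsepE : IsSeparable Et (a : K) := Algebra.IsSeparable.isSeparable _ _
    have hcoeff : ∀ i, ((minpoly Et (a : K)).coeff i : K) ∈ L₀ := fun i => hconst _ <| by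
      have hdvd : (minpoly Et (a : K)).map (algebraMap Et K) ∣ (minpoly L₀ (a : K)).map (algebraMap L₀ K) := by
        let inc : L₀ →+* Et := (IntermediateField.inclusion (IntermediateField.adjoin.mono k _ _
          (Set.range_comp_subset_range Fin.castSucc t))).toRingHom
        have : minpoly Et (a : K) ∣ (minpoly L₀ (a : K)).map inc := minpoly.dvd _ _ (by
          rw [aeval_def, eval₂_map]
          exact minpoly.aeval L₀ (a : K))
        have h2 := Polynomial.map_dvd (algebraMap Et K) this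
        rwa [Polynomial.map_map] at h2
      have hint := Polynomial.isIntegral_coeff_of_dvd (minpoly L₀ (a : K)) _ (minpoly.monic halg.isIntegral)
        ((minpoly.monic hsepE.isIntegral).map _) hdvd i
      rw [Polynomial.coeff_map] at hint
      exact hint.isAlgebraic
    obtain ⟨P, hP⟩ : ∃ P : L₀[X], P.map (algebraMap L₀ K) = (minpoly Et (a : K)).map (algebraMap Et K) := by
      rw [← mem_lifts, lifts_iff_coeff_lifts]
      exact fun i => ⟨⟨_, hcoeff i⟩, by rw [Polynomial.coeff_map]; rfl⟩
    have hPsep : P.Separable := by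
      rw [← Polynomial.separable_map (algebraMap L₀ K), hP, Polynomial.separable_map]
      exact hsepE
    have hle₀ : L₀ ≤ (IntermediateField.adjoin k (Set.range gen)).map (IsScalarTower.toAlgHom k L K) := hmap.ge
    let f : L₀ →+* IntermediateField.adjoin k (Set.range gen) :=
      { toFun := fun z => ⟨algebraMap L₀ L z, by
          obtain ⟨w, hw, hwz⟩ := hle₀ z.2
          exact (show w = algebraMap L₀ L z from Subtype.ext hwz) ▸ hw⟩
        map_one' := Subtype.ext (map_one (algebraMap L₀ L))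
        map_mul' := fun z w => Subtype.ext (map_mul (algebraMap L₀ L) z w)
        map_zero' := Subtype.ext (map_zero (algebraMap L₀ L))
        map_add' := fun z w => Subtype.ext (map_add (algebraMap L₀ L) z w) }
    refine Polynomial.Separable.of_dvd (Polynomial.Separable.map (f := f) hPsep) (minpoly.dvd _ _ ?_)
    apply (algebraMap L K).injective
    rw [map_zero, aeval_def, Polynomial.eval₂_map, Polynomial.hom_eval₂]
    show P.eval₂ (algebraMap L₀ K) (a : K) = 0
    rw [← Polynomial.eval_map, hP, Polynomial.eval_map]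
    exact minpoly.aeval Et (a : K)⟩
  have hLcl : ∀ z : L, IsAlgebraic k z → z ∈ Set.range (algebraMap k L) := fun z hz => by
    obtain ⟨c, hc⟩ := hcl (z : K) (hz.algHom (IsScalarTower.toAlgHom k L K))
    exact ⟨c, Subtype.ext hc⟩
  -- the base ring
  let T₁ : Finset L := TL ∪ coeffs₂ F
  have hT₁ : IntermediateField.adjoin k (T₁ : Set L) = ⊤ := top_le_iff.1
    (hTL.ge.trans (IntermediateField.adjoin.mono k _ _ (Finset.coe_subset.2 Finset.subset_union_left)))
  let B₁ := Algebra.adjoin R (T₁ : Set L)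
  haveI : FaithfulSMul B₁ L := (faithfulSMul_iff_algebraMap_injective B₁ L).2 Subtype.val_injective
  haveI : IsFractionRing B₁ L := IsFractionRing.of_field B₁ L fun z => by
    obtain ⟨d, hd0, hd, hzd⟩ := exists_den (R := R) hT₁ z
    refine ⟨⟨_, hzd⟩, ⟨_, hd⟩, ?_⟩
    show z = z * d / d
    rw [mul_div_cancel_right₀ _ hd0]
  obtain ⟨F₁, hF₁⟩ := exists_lift₂ B₁.val.toRingHom F
    (coeff_mem_adjoin F _ (Finset.coe_subset.2 Finset.subset_union_right))
  have hF₁m : F₁.Monic := monic_of_injective
    (Polynomial.map_injective _ (Subtype.val_injective : Function.Injective B₁.val.toRingHom)) (hF₁ ▸ hF)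
  obtain ⟨b, hb0, hb⟩ := exists_spec L F₁ hF₁m fun L' _ _ _ => by
    have he : F₁.map (mapRingHom ((algebraMap L L').comp (algebraMap B₁ L))) =
        F.map (mapRingHom (algebraMap L L')) := by
      rw [← hF₁, Polynomial.map_map, mapRingHom_comp]; rfl
    rw [he]
    exact noSplit_of_regular hK hF hindep hroot hsepF L'
  let T₂ : Finset L := insert (b : L)⁻¹ T₁
  -- denominators in the given algebra
  let Z : Finset K := insert x (T₂.image (algebraMap L K))
  choose dS hdS0 hdS hzdS using fun z : K => exists_den (R := R) hS z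
  set h := ∏ z ∈ Z, dS z with hh
  have hh0 : h ≠ 0 := Finset.prod_ne_zero_iff.2 fun z _ => hdS0 z
  have hhA : h ∈ Algebra.adjoin R (S : Set K) := prod_mem fun z _ => hdS z
  have hzh : ∀ z ∈ Z, z * h ∈ Algebra.adjoin R (S : Set K) := fun z hz => by
    rw [hh, ← Finset.mul_prod_erase Z dS hz, ← mul_assoc]
    exact mul_mem (hzdS z) (prod_mem fun w _ => hdS w)
  let S' : Finset K := S ∪ Z ∪ {h⁻¹}
  choose g P hg0 hgP using hfrac
  set G := ∏ a ∈ S', g a with hG
  have hG0 : G ≠ 0 := Finset.prod_ne_zero_iff.2 fun a _ => hg0 a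
  let P' : K → L[X][X] := fun a => P a * C (∏ w ∈ S'.erase a, g w)
  have hP' : ∀ a ∈ S', a * aeval x G = (P' a).eval₂ (aeval x).toRingHom y := fun a ha => by
    rw [eval₂_mul, eval₂_C, ← hgP, hG, ← Finset.mul_prod_erase S' g ha, map_mul]
    show _ = a * aeval x (g a) * aeval x _
    ring
  -- the coefficient ring
  let Cs : Finset L := coeffs₂ (C G : L[X][X]) ∪ S'.biUnion (fun a => coeffs₂ (P' a)) ∪ {G.leadingCoeff⁻¹}
  choose dL hdL0 hdL hzdL using fun z : L => exists_den (R := R) hTL z
  let T₃ : Finset L := T₂ ∪ Cs ∪ Cs.image fun z => (dL z)⁻¹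
  have hT₂₃ : T₂ ⊆ T₃ := Finset.subset_union_left.trans Finset.subset_union_left
  have hT₁₃ : T₁ ⊆ T₃ := (Finset.subset_insert _ _).trans hT₂₃
  have hT₃ : IntermediateField.adjoin k (T₃ : Set L) = ⊤ := top_le_iff.1
    (hT₁.ge.trans (IntermediateField.adjoin.mono k _ _ (Finset.coe_subset.2 hT₁₃)))
  obtain ⟨c₁, e₁, b₁, hc₁, hb₁, hbound⟩ := ih L gen hgenind hLsep hLcl T₃ hT₃
  let B := Algebra.adjoin R (T₃ : Set L)
  have hinc : B₁ ≤ B := Algebra.adjoin_mono (Finset.coe_subset.2 hT₁₃)
  set FB : (↥B)[X][X] := F₁.map (mapRingHom (Subalgebra.inclusion hinc).toRingHom) with hFB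
  let ι : (↥B)[X][X] →+* L[X][X] := mapRingHom (mapRingHom B.val.toRingHom)
  have hιinj : Function.Injective (mapRingHom B.val.toRingHom) :=
    Polynomial.map_injective _ (Subtype.val_injective : Function.Injective B.val.toRingHom)
  have hιF : ι FB = F := by
    show (F₁.map _).map _ = F
    rw [Polynomial.map_map, mapRingHom_comp, ← hF₁]; rfl
  have hFBm : FB.Monic := hF₁m.map _
  have hFBdeg : FB.natDegree = F.natDegree := by
    rw [← hιF]; exact (natDegree_map_eq_of_injective hιinj _).symm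
  obtain ⟨GB, hGB⟩ : ∃ GB : (↥B)[X], GB.map B.val.toRingHom = G := by
    rw [← mem_lifts, lifts_iff_coeff_lifts]
    intro i
    have := coeff_mem_adjoin (R := R) (C G : L[X][X]) (T₃ : Set L) (Finset.coe_subset.2 fun z hz =>
      Finset.mem_union_left _ (Finset.mem_union_right _ (Finset.mem_union_left _ (Finset.mem_union_left _ hz)))) 0 i
    rwa [coeff_C_zero] at this
  have hPB : ∀ a ∈ S', ∃ Q : (↥B)[X][X], ι Q = P' a := fun a ha =>
    exists_lift₂ B.val.toRingHom (P' a) (coeff_mem_adjoin (R := R) (P' a) (T₃ : Set L)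
      (Finset.coe_subset.2 fun z hz => Finset.mem_union_left _ (Finset.mem_union_right _
        (Finset.mem_union_left _ (Finset.mem_union_right _ (Finset.mem_biUnion.2 ⟨a, ha, hz⟩))))))
  set D := F.natDegree with hDdef
  set N := (Finset.range (D + 1)).sup fun i => (FB.coeff i).natDegree with hNdef
  set gd := G.natDegree with hgd
  refine ⟨c₁ / (2 * D), e₁ + 64 * (N * D ^ 2) ^ 2 + 4 * D * (gd + 1), b₁, by positivity, hb₁, fun k' _ _ _ hb' he => ?_⟩
  haveI := finite_hom (R := R) (k' := k') S
  haveI := finite_hom (R := R) (k' := k') T₃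
  let Xφ : (↥B →ₐ[R] k') → Type u := fun φ =>
    {c : k' // (GB.map φ.toRingHom).eval c ≠ 0 ∧
      ∃ d, ((FB.map (mapRingHom φ.toRingHom)).map (evalRingHom c)).eval d = 0}
  -- the lower bound on the fibres
  have hq : ((e₁ + 64 * (N * D ^ 2) ^ 2 + 4 * D * (gd + 1) : ℕ) : ℝ) ≤ Nat.card k' := by
    exact_mod_cast he
  have hfib : ∀ φ : ↥B →ₐ[R] k', (Nat.card k' : ℝ) / (2 * D) ≤ Nat.card (Xφ φ) := by
    intro φ
    have hφb : φ (Subalgebra.inclusion hinc b) ≠ 0 := fun h0 => by
      have hbinv : (b : L)⁻¹ ∈ B := Algebra.subset_adjoin (hT₂₃ (Finset.mem_insert_self _ _))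
      have h1 : φ (Subalgebra.inclusion hinc b) * φ ⟨_, hbinv⟩ = 1 := by
        rw [← map_mul, show Subalgebra.inclusion hinc b * ⟨_, hbinv⟩ = 1 from
          Subtype.ext (mul_inv_cancel₀ fun hb' => hb0 (Subtype.ext hb')), map_one]
      rw [h0, zero_mul] at h1
      exact zero_ne_one h1
    have hns : NoSplit ((FB.map (mapRingHom φ.toRingHom)).map
        (mapRingHom (algebraMap k' (AlgebraicClosure k')))) := by
      rw [hFB, Polynomial.map_map, Polynomial.map_map, mapRingHom_comp, mapRingHom_comp]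
      refine hb (AlgebraicClosure k') _ ?_
      show algebraMap k' (AlgebraicClosure k') (φ (Subalgebra.inclusion hinc b)) ≠ 0
      simpa using hφb
    have hdeg : (FB.map (mapRingHom φ.toRingHom)).natDegree = D := by rw [hFBm.natDegree_map, hFBdeg]
    have hN : ∀ i, ((FB.map (mapRingHom φ.toRingHom)).coeff i).natDegree ≤ N := fun i => by
      rw [coeff_map, coe_mapRingHom]
      refine natDegree_map_le.trans ?_
      by_cases hi : i ≤ D
      · exact Finset.le_sup (f := fun i => (FB.coeff i).natDegree) (Finset.mem_range.2 (Nat.lt_succ_of_le hi))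
      · rw [coeff_eq_zero_of_natDegree_lt (hFBdeg.trans_lt (not_le.1 hi)), natDegree_zero]; exact Nat.zero_le _
    have hGφ : GB.map φ.toRingHom ≠ 0 := fun h0 => by
      have hlead : GB.natDegree = G.natDegree := by
        rw [← hGB]
        exact (natDegree_map_eq_of_injective (Subtype.val_injective : Function.Injective B.val.toRingHom) _).symm
      have hval : (GB.coeff G.natDegree : L) = G.leadingCoeff := by
        have h3 := congrArg (fun p => p.coeff G.natDegree) hGB
        rw [coeff_map] at h3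
        exact h3
      have hinv : G.leadingCoeff⁻¹ ∈ B := Algebra.subset_adjoin
        (Finset.mem_union_left _ (Finset.mem_union_right _ (Finset.mem_union_right _ (Finset.mem_singleton_self _))))
      have h1 : φ (GB.coeff G.natDegree) * φ ⟨_, hinv⟩ = 1 := by
        rw [← map_mul, show GB.coeff G.natDegree * ⟨_, hinv⟩ = 1 from Subtype.ext (by
          show (GB.coeff G.natDegree : L) * _ = 1
          rw [hval, mul_inv_cancel₀ (leadingCoeff_ne_zero.2 hG0)]), map_one]
      have h2 := congrArg (fun p => p.coeff G.natDegree) h0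
      simp only [coeff_map, coeff_zero] at h2
      rw [show φ (GB.coeff G.natDegree) = 0 from h2, zero_mul] at h1
      exact zero_ne_one h1
    have h1 := card_x_lower (hFBm.map _) (by omega) hns hN (GB.map φ.toRingHom) hGφ
    rw [hdeg] at h1
    have hgle : (((GB.map φ.toRingHom).natDegree : ℕ) : ℝ) ≤ gd := by
      have : (GB.map φ.toRingHom).natDegree ≤ gd := natDegree_map_le.trans (le_of_eq (by
        rw [hgd, ← hGB]
        exact (natDegree_map_eq_of_injective (Subtype.val_injective : Function.Injective B.val.toRingHom) _).symm))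
      exact_mod_cast this
    set q : ℝ := (Nat.card k' : ℝ) with hqdef
    set M : ℝ := (N : ℝ) * (D : ℝ) ^ 2 with hMdef
    push_cast at hq h1
    try rw [← hMdef] at hq
    try rw [← hMdef] at h1
    have hDR : (1 : ℝ) ≤ D := by exact_mod_cast hD
    have hM0 : 0 ≤ M := by positivity
    have he₁ : (0 : ℝ) ≤ e₁ := Nat.cast_nonneg _
    have hgd0 : (0 : ℝ) ≤ gd := Nat.cast_nonneg _
    have hs : 8 * M ≤ Real.sqrt q := by
      refine Real.le_sqrt_of_sq_le ?_
      nlinarith
    have hss : Real.sqrt q * Real.sqrt q = q := Real.mul_self_sqrt (Nat.cast_nonneg _)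
    have hs0 := Real.sqrt_nonneg q
    rw [div_le_iff₀ (by positivity)]
    show q ≤ (Nat.card {c : k' // _} : ℝ) * (2 * D)
    nlinarith
  -- from fibre points to homomorphisms
  let ev : (↥B)[X][X] →ₐ[R] K :=
    { toRingHom := (eval₂RingHom (aeval x).toRingHom y).comp ι
      commutes' := fun c => by
        show ((algebraMap R (↥B)[X][X] c).map _).eval₂ _ _ = _
        rw [Polynomial.algebraMap_apply, Polynomial.algebraMap_apply, map_C, coe_mapRingHom, map_C, eval₂_C]
        exact (aeval_C x _).trans (IsScalarTower.algebraMap_apply R L K c).symm }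
  have hevC : ∀ z : ↥B, ev (C (C z)) = algebraMap L K z := fun z => by
    show ((C (C z) : (↥B)[X][X]).map _).eval₂ _ _ = _
    rw [map_C, coe_mapRingHom, map_C, eval₂_C]
    exact aeval_C x _
  have hevG : ev (C GB) = aeval x G := by
    show ((C GB : (↥B)[X][X]).map _).eval₂ _ _ = _
    rw [map_C, coe_mapRingHom, hGB, eval₂_C]
    rfl
  have hevker : ∀ p, ev p = 0 → FB ∣ p := by
    intro p hp
    rw [← Polynomial.modByMonic_eq_zero_iff_dvd hFBm]
    refine Polynomial.map_injective _ hιinj ((hindep _ ?_ ?_).trans (Polynomial.map_zero _).symm)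
    · refine degree_map_le.trans_lt ((Polynomial.degree_modByMonic_lt _ hFBm).trans_le ?_)
      rw [← hιF]
      exact (degree_map_eq_of_injective hιinj _).ge
    · have h1 := congrArg ev (Polynomial.modByMonic_add_div p FB)
      rw [map_add, map_mul, show ev FB = 0 by show (ι FB).eval₂ _ _ = 0; rw [hιF]; exact hroot, zero_mul,
        add_zero, hp] at h1
      exact h1
  have hS'mem : ∀ a ∈ (S' : Set K), ∃ (m : ℕ) (p : (↥B)[X][X]), a * ev (C GB) ^ m = ev p := fun a ha => by
    obtain ⟨Q, hQ⟩ := hPB a ha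
    refine ⟨1, Q, ?_⟩
    rw [pow_one, hevG, hP' a ha, ← hQ]
    rfl
  let χ : (φ : ↥B →ₐ[R] k') → k' → k' → ((↥B)[X][X] →ₐ[R] k') := fun φ c d =>
    { toRingHom := ((evalRingHom d).comp (mapRingHom (evalRingHom c))).comp (mapRingHom (mapRingHom φ.toRingHom))
      commutes' := fun z => by simp [Polynomial.algebraMap_apply] }
  have hpt : ∀ (φ : ↥B →ₐ[R] k') (c : Xφ φ), ∃ ψ : Algebra.adjoin R (S' : Set K) →ₐ[R] k',
      (∀ (z : L) (hz : z ∈ T₂) (hz' : algebraMap L K z ∈ Algebra.adjoin R (S' : Set K)),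
        ψ ⟨_, hz'⟩ = φ ⟨z, Algebra.subset_adjoin (hT₂₃ hz)⟩) ∧
      ∀ hx' : x ∈ Algebra.adjoin R (S' : Set K), ψ ⟨x, hx'⟩ = c.1 := by
    intro φ c
    obtain ⟨d, hd⟩ := c.2.2
    obtain ⟨ψ, hψ⟩ := exists_extend ev (χ φ c.1 d) (fun p hp => by
      obtain ⟨w, rfl⟩ := hevker p hp
      rw [map_mul, show (χ φ c.1 d) FB = 0 from hd, zero_mul]) (C GB) (by
        show (((C GB : (↥B)[X][X]).map _).map _).eval d ≠ 0
        rw [map_C, coe_mapRingHom, map_C, eval_C]
        exact c.2.1) (S' : Set K) hS'mem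
    refine ⟨ψ, fun z hz hz' => ?_, fun hx' => ?_⟩
    · rw [hψ ⟨_, hz'⟩ 0 (C (C ⟨z, Algebra.subset_adjoin (hT₂₃ hz)⟩)) (by rw [pow_zero, mul_one, hevC]),
        pow_zero, div_one]
      simp [χ]
    · rw [hψ ⟨_, hx'⟩ 0 (C X) (by
        rw [pow_zero, mul_one]
        show x = ((C X : (↥B)[X][X]).map (mapRingHom B.val.toRingHom)).eval₂ (aeval x).toRingHom y
        rw [map_C, coe_mapRingHom, map_X, eval₂_C]
        exact (aeval_X x).symm), pow_zero, div_one]
      simp [χ]
  choose ψ hψT hψx using hpt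
  have hSS' : (S : Set K) ⊆ (S' : Set K) := fun a ha =>
    Finset.mem_union_left _ (Finset.mem_union_left _ ha)
  let res : (Σ φ : ↥B →ₐ[R] k', Xφ φ) → (Algebra.adjoin R (S : Set K) →ₐ[R] k') := fun p =>
    (ψ p.1 p.2).comp (Subalgebra.inclusion (Algebra.adjoin_mono hSS'))
  have hinj : Function.Injective res := by
    rintro ⟨φ, c⟩ ⟨φ', c'⟩ heq
    have hA : ∀ a : Algebra.adjoin R (S : Set K), ∀ ha : (a : K) ∈ Algebra.adjoin R (S' : Set K),
        ψ φ c ⟨a, ha⟩ = ψ φ' c' ⟨a, ha⟩ := fun a _ => DFunLike.congr_fun heq a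
    have hhinv : h⁻¹ ∈ Algebra.adjoin R (S' : Set K) :=
      Algebra.subset_adjoin (Finset.mem_union_right _ (Finset.mem_singleton_self _))
    have hh' : h ∈ Algebra.adjoin R (S' : Set K) := Algebra.adjoin_mono hSS' hhA
    have hne : ψ φ c ⟨h, hh'⟩ ≠ 0 := fun h0 => by
      have h1 : ψ φ c ⟨h, hh'⟩ * ψ φ c ⟨h⁻¹, hhinv⟩ = 1 := by
        rw [← map_mul, show (⟨h, hh'⟩ * ⟨h⁻¹, hhinv⟩ : Algebra.adjoin R (S' : Set K)) = 1 from
          Subtype.ext (mul_inv_cancel₀ hh0), map_one]
      rw [h0, zero_mul] at h1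
      exact zero_ne_one h1
    have hagree : ∀ z ∈ Z, ∀ hz : z ∈ Algebra.adjoin R (S' : Set K), ψ φ c ⟨z, hz⟩ = ψ φ' c' ⟨z, hz⟩ := by
      intro z hz hz'
      have hzh' : z * h ∈ Algebra.adjoin R (S' : Set K) := Algebra.adjoin_mono hSS' (hzh z hz)
      have e1 : (⟨z * h, hzh'⟩ : Algebra.adjoin R (S' : Set K)) = ⟨z, hz'⟩ * ⟨h, hh'⟩ := rfl
      have h2 := hA ⟨_, hzh z hz⟩ hzh'
      rw [e1, map_mul, map_mul, ← hA ⟨h, hhA⟩ hh'] at h2
      exact mul_right_cancel₀ hne h2
    have hZmem : ∀ z ∈ Z, z ∈ Algebra.adjoin R (S' : Set K) := fun z hz =>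
      Algebra.subset_adjoin (Finset.mem_union_left _ (Finset.mem_union_right _ hz))
    have hφT₂ : ∀ (z : L) (hz : z ∈ T₂), φ ⟨z, Algebra.subset_adjoin (hT₂₃ hz)⟩ = φ' ⟨z, Algebra.subset_adjoin (hT₂₃ hz)⟩ := by
      intro z hz
      have hzZ : algebraMap L K z ∈ Z := Finset.mem_insert_of_mem (Finset.mem_image_of_mem _ hz)
      rw [← hψT φ c z hz (hZmem _ hzZ), ← hψT φ' c' z hz (hZmem _ hzZ)]
      exact hagree _ hzZ _
    have hTL3 : Algebra.adjoin R (TL : Set L) ≤ B :=
      Algebra.adjoin_mono (Finset.coe_subset.2 (Finset.subset_union_left.trans hT₁₃))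
    have hφTL : ∀ (z : L) (hz : z ∈ Algebra.adjoin R (TL : Set L)), φ ⟨z, hTL3 hz⟩ = φ' ⟨z, hTL3 hz⟩ := by
      intro z hz
      have : φ.comp (Subalgebra.inclusion hTL3) = φ'.comp (Subalgebra.inclusion hTL3) :=
        AlgHom.adjoin_ext fun w hw => hφT₂ w (Finset.mem_insert_of_mem (Finset.mem_union_left _ hw))
      exact DFunLike.congr_fun this ⟨z, hz⟩
    have hdmul : ∀ (ξ : ↥B →ₐ[R] k') (d : L) (hd : d ∈ B) (hdi : d⁻¹ ∈ B), d ≠ 0 →
        ξ ⟨d, hd⟩ * ξ ⟨d⁻¹, hdi⟩ = 1 := fun ξ d hd hdi h0 => by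
      rw [← map_mul, show (⟨d, hd⟩ * ⟨d⁻¹, hdi⟩ : ↥B) = 1 from Subtype.ext (mul_inv_cancel₀ h0), map_one]
    have hφ : φ = φ' := by
      refine AlgHom.adjoin_ext fun z hz => ?_
      rcases Finset.mem_union.1 hz with hz | hz
      · rcases Finset.mem_union.1 hz with hz | hz
        · exact hφT₂ z hz
        · have hdi : (dL z)⁻¹ ∈ B := Algebra.subset_adjoin (Finset.mem_union_right _ (Finset.mem_image_of_mem _ hz))
          have hzB : z ∈ B := Algebra.subset_adjoin (Finset.mem_union_left _ (Finset.mem_union_right _ hz))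
          have h1 := hdmul φ (dL z) (hTL3 (hdL z)) hdi (hdL0 z)
          have h2 := hφTL _ (hzdL z)
          have e1 : (⟨z * dL z, hTL3 (hzdL z)⟩ : ↥B) = ⟨z, hzB⟩ * ⟨dL z, hTL3 (hdL z)⟩ := rfl
          rw [e1, map_mul, map_mul, ← hφTL _ (hdL z)] at h2
          exact mul_right_cancel₀ (left_ne_zero_of_mul_eq_one h1) h2
      · obtain ⟨w, hw, rfl⟩ := Finset.mem_image.1 hz
        have hdi : (dL w)⁻¹ ∈ B := Algebra.subset_adjoin (Finset.mem_union_right _ (Finset.mem_image_of_mem _ hw))
        have h1 := hdmul φ (dL w) (hTL3 (hdL w)) hdi (hdL0 w)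
        have h2 := hdmul φ' (dL w) (hTL3 (hdL w)) hdi (hdL0 w)
        rw [← hφTL _ (hdL w), ← h1] at h2
        exact (mul_left_cancel₀ (left_ne_zero_of_mul_eq_one h1) h2).symm
    subst hφ
    have hxZ : x ∈ Z := Finset.mem_insert_self _ _
    have hc : c = c' := Subtype.ext (by
      rw [← hψx φ c (hZmem _ hxZ), ← hψx φ c' (hZmem _ hxZ)]
      exact hagree _ hxZ _)
    rw [hc]
  have hB := hbound k' hb' (by omega)
  haveI : Fintype (↥B →ₐ[R] k') := Fintype.ofFinite _
  calc c₁ / (2 * D) * (Nat.card k' : ℝ) ^ (r + 1)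
      = (c₁ * (Nat.card k' : ℝ) ^ r) * ((Nat.card k' : ℝ) / (2 * D)) := by ring
    _ ≤ (Nat.card (↥B →ₐ[R] k') : ℝ) * ((Nat.card k' : ℝ) / (2 * D)) :=
        mul_le_mul_of_nonneg_right hB (by positivity)
    _ ≤ ∑ φ : ↥B →ₐ[R] k', (Nat.card (Xφ φ) : ℝ) := by
        rw [Nat.card_eq_fintype_card, ← nsmul_eq_mul, ← Finset.card_univ, ← Finset.sum_const]
        exact Finset.sum_le_sum fun φ _ => hfib φ
    _ = (Nat.card (Σ φ : ↥B →ₐ[R] k', Xφ φ) : ℝ) := by rw [Nat.card_sigma, Nat.cast_sum]
    _ ≤ _ := by exact_mod_cast Nat.card_le_card_of_injective res hinj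

/-- The lower bound. -/
theorem lowerBound : ∀ r, LowerBound R k r
  | 0 => lowerBound_zero
  | r + 1 => lowerBound_succ (lowerBound r)

end Groth.Agent.H9PB.LangWeil
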