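import Groth.Agent.H9PB.LangWeil.Factor
import Groth.Agent.FFLib.Geometric
import Mathlib.FieldTheory.PurelyInseparable.Basic
import Mathlib.FieldTheory.RatFunc.AsPolynomial

/-!
# Plane models of regular extensions are absolutely irreducible
-/

set_option autoImplicit false
set_option linter.style.haveILetI false
set_option linter.unusedSectionVars false
set_option maxHeartbeats 1000000

open Polynomial TensorProduct IntermediateField
open FunFld

namespace Groth.Agent.H9PB.LangWeil

universe u

variable {L K : Type u} [Field L] [Field K] [Algebra L K] {x y : K} {F : L[X][X]}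

/-- Separable extensions of constants keep the equation prime. -/
theorem dvd_or_dvd_of_separable (hK : IsFunctionField L K) (hF : F.Monic)
    (hindep : ∀ r : L[X][X], r.degree < F.degree → r.eval₂ (aeval x).toRingHom y = 0 → r = 0)
    (hroot : F.eval₂ (aeval x).toRingHom y = 0)
    (E : Type u) [Field E] [Algebra L E] [FiniteDimensional L E] [Algebra.IsSeparable L E]
    {A B : E[X][X]} (hAB : F.map (mapRingHom (algebraMap L E)) ∣ A * B) :
    F.map (mapRingHom (algebraMap L E)) ∣ A ∨ F.map (mapRingHom (algebraMap L E)) ∣ B := by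
  classical
  letI := (Groth.Agent.FFLib.isField_tensor_of_isSeparable hK E).toField
  set FE := F.map (mapRingHom (algebraMap L E)) with hFE
  let ev : E[X][X] →+* E ⊗[L] K :=
    eval₂RingHom (aeval ((1 : E) ⊗ₜ[L] x)).toRingHom ((1 : E) ⊗ₜ[L] y)
  have hmap : ∀ r : L[X][X], ev (r.map (mapRingHom (algebraMap L E))) =
      (1 : E) ⊗ₜ[L] r.eval₂ (aeval x).toRingHom y := fun r => by
    let ir : K →+* E ⊗[L] K := (Algebra.TensorProduct.includeRight : K →ₐ[L] E ⊗[L] K).toRingHom
    show (r.map _).eval₂ _ _ = ir (r.eval₂ _ _)
    rw [Polynomial.eval₂_map, Polynomial.hom_eval₂]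
    refine Polynomial.eval₂_congr ?_ rfl rfl
    refine Polynomial.ringHom_ext (fun c => ?_) ?_
    · simp [ir, Algebra.TensorProduct.algebraMap_apply, Algebra.algebraMap_eq_smul_one, TensorProduct.smul_tmul, Algebra.TensorProduct.one_def]
    · simp [ir]
  have hker : ∀ p, ev p = 0 → FE ∣ p := by
    intro p hp
    have hm : FE.Monic := hF.map _
    rw [← Polynomial.modByMonic_eq_zero_iff_dvd hm]
    set r := p %ₘ FE with hr
    have hdeg : r.degree < F.degree :=
      (Polynomial.degree_modByMonic_lt _ hm).trans_le (by rw [hFE, hF.degree_map])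
    have h0 : ev r = 0 := by
      have := congrArg ev (Polynomial.modByMonic_add_div p FE)
      rw [map_add, map_mul, hFE, hmap, hroot, TensorProduct.tmul_zero, zero_mul, add_zero] at this
      rw [hr, hFE, this, hp]
    let b := Module.finBasis L E
    let M := r.support.sup fun m => (r.coeff m).natDegree
    have hM : ∀ m, (r.coeff m).natDegree ≤ M := fun m => by
      by_cases hm' : m ∈ r.support
      · exact Finset.le_sup (f := fun m => (r.coeff m).natDegree) hm'
      · rw [Polynomial.notMem_support_iff.1 hm', natDegree_zero]; exact Nat.zero_le _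
    have hev : ev r = ∑ m ∈ r.support, ∑ l ∈ Finset.range (M + 1), (r.coeff m).coeff l ⊗ₜ[L] (x ^ l * y ^ m) := by
      show r.eval₂ _ _ = _
      rw [Polynomial.eval₂_eq_sum, Polynomial.sum_def]
      refine Finset.sum_congr rfl fun m _ => ?_
      rw [AlgHom.toRingHom_eq_coe, RingHom.coe_coe, aeval_eq_sum_range' (Nat.lt_succ_of_le (hM m)),
        Finset.sum_mul]
      refine Finset.sum_congr rfl fun l _ => ?_
      rw [Algebra.TensorProduct.tmul_pow, Algebra.TensorProduct.tmul_pow, one_pow, one_pow, TensorProduct.smul_tmul',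
        smul_eq_mul, mul_one, Algebra.TensorProduct.tmul_mul_tmul, mul_one]
    refine Polynomial.ext fun m => Polynomial.ext fun l => b.forall_coord_eq_zero_iff.1 fun i => ?_
    let ri : L[X][X] := ∑ m ∈ r.support, monomial m
      (∑ l ∈ Finset.range (M + 1), monomial l (b.coord i ((r.coeff m).coeff l)))
    have hri : ri = 0 := hindep ri (lt_of_le_of_lt ((Polynomial.degree_sum_le _ _).trans (Finset.sup_le
      fun m hm => (Polynomial.degree_monomial_le _ _).trans (Polynomial.le_degree_of_mem_supp m hm))) hdeg) (by
        have h1 := congrArg ((TensorProduct.lid L K).toLinearMap ∘ₗ TensorProduct.map (b.coord i) LinearMap.id)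
          (hev.symm.trans h0)
        rw [map_zero, map_sum] at h1
        simp only [map_sum, LinearMap.coe_comp, LinearEquiv.coe_coe, Function.comp_apply, TensorProduct.map_tmul,
          LinearMap.id_coe, id_eq, TensorProduct.lid_tmul] at h1
        rw [Polynomial.eval₂_finset_sum]
        refine Eq.trans (Finset.sum_congr rfl fun m _ => ?_) h1
        rw [Polynomial.eval₂_monomial, map_sum, Finset.sum_mul]
        refine Finset.sum_congr rfl fun l _ => ?_
        simp [aeval_monomial, Algebra.smul_def, mul_assoc])
    have h2 := congrArg (fun q => (q.coeff m).coeff l) hri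
    simp only [ri, Polynomial.finsetSum_coeff, Polynomial.coeff_monomial, Finset.sum_ite_eq',
      Polynomial.coeff_zero] at h2
    by_cases hms : m ∈ r.support
    · rw [if_pos hms] at h2
      simp only [Polynomial.finsetSum_coeff, Polynomial.coeff_monomial, Finset.sum_ite_eq', Finset.mem_range] at h2
      by_cases hl : l < M + 1
      · rwa [if_pos hl] at h2
      · rw [coeff_eq_zero_of_natDegree_lt ((hM m).trans_lt (by omega)), map_zero]
    · rw [Polynomial.notMem_support_iff.1 hms, coeff_zero, map_zero]
  have h0 : ev (A * B) = 0 := by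
    obtain ⟨C, hC⟩ := hAB
    rw [hC, map_mul, hFE, hmap, hroot, TensorProduct.tmul_zero, zero_mul]
  rw [map_mul, mul_eq_zero] at h0
  exact h0.imp (hker A) (hker B)

/-- A monic plane equation of a regular extension of transcendence degree one has no splitting over
any finite extension of the constants. -/
theorem noSplit_of_regular (hK : IsFunctionField L K) (hF : F.Monic)
    (hindep : ∀ r : L[X][X], r.degree < F.degree → r.eval₂ (aeval x).toRingHom y = 0 → r = 0)
    (hroot : F.eval₂ (aeval x).toRingHom y = 0)
    (hsep : (F.map (algebraMap L[X] (RatFunc L))).Separable)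
    (L' : Type u) [Field L'] [Algebra L L'] [FiniteDimensional L L'] :
    NoSplit (F.map (mapRingHom (algebraMap L L'))) := by
  classical
  intro G H hG hH hGH
  let E := separableClosure L L'
  set p := ringExpChar L' with hp
  haveI : ExpChar L' p := inferInstance
  haveI : ExpChar E p := RingHom.expChar (algebraMap E L') (algebraMap E L').injective p
  have hpow : ∀ c : L', ∃ n : ℕ, c ^ p ^ n ∈ (algebraMap E L').range := fun c =>
    IsPurelyInseparable.pow_mem E p c
  choose ν hν using hpow
  let T : L'[X][X] → ℕ := fun P => P.support.sup fun m => (P.coeff m).support.sup fun l => ν ((P.coeff m).coeff l)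
  set n := max (T G) (T H)
  haveI : ExpChar L'[X] p := expChar_of_injective_ringHom C_injective p
  haveI : ExpChar L'[X][X] p := expChar_of_injective_ringHom C_injective p
  have hlift : ∀ P : L'[X][X], T P ≤ n →
      ∃ P' : E[X][X], P'.map (mapRingHom (algebraMap E L')) = P ^ p ^ n := by
    intro P hP
    change P ^ p ^ n ∈ (mapRingHom (mapRingHom (algebraMap E L'))).range
    rw [P.as_sum_support, sum_pow_char_pow]
    refine Subring.sum_mem _ fun m hm => ?_
    rw [monomial_pow, ← C_mul_X_pow_eq_monomial]
    refine Subring.mul_mem _ ?_ (Subring.pow_mem _ (RingHom.mem_range.2 ⟨X, Polynomial.map_X _⟩) _)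
    rw [(P.coeff m).as_sum_support, sum_pow_char_pow, map_sum]
    refine Subring.sum_mem _ fun l hl => ?_
    rw [monomial_pow, ← C_mul_X_pow_eq_monomial, map_mul]
    refine Subring.mul_mem _ ?_ ?_
    swap
    · refine RingHom.mem_range.2 ⟨(C (X ^ (l * p ^ n)) : E[X][X]), ?_⟩
      simp
    have hle : ν ((P.coeff m).coeff l) ≤ n := le_trans (le_trans
      (Finset.le_sup (f := fun l => ν ((P.coeff m).coeff l)) hl)
      (Finset.le_sup (f := fun m => (P.coeff m).support.sup fun l => ν ((P.coeff m).coeff l)) hm)) hP
    obtain ⟨d, hd⟩ := hν ((P.coeff m).coeff l)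
    refine ⟨C (C (d ^ p ^ (n - ν ((P.coeff m).coeff l)))), ?_⟩
    rw [coe_mapRingHom, map_C, coe_mapRingHom, map_C, map_pow, hd, ← pow_mul, ← pow_add, Nat.add_sub_cancel' hle]
  obtain ⟨G', hG'⟩ := hlift G (le_max_left _ _)
  obtain ⟨H', hH'⟩ := hlift H (le_max_right _ _)
  set FE := F.map (mapRingHom (algebraMap L E)) with hFE
  have hFL : FE.map (mapRingHom (algebraMap E L')) = F.map (mapRingHom (algebraMap L L')) := by
    rw [hFE, Polynomial.map_map, mapRingHom_comp, ← IsScalarTower.algebraMap_eq]
  have hinj : Function.Injective (Polynomial.map (mapRingHom (algebraMap E L'))) :=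
    Polynomial.map_injective _ (Polynomial.map_injective _ (algebraMap E L').injective)
  have hprod : G' * H' = FE ^ p ^ n := hinj (by
    rw [Polynomial.map_mul, Polynomial.map_pow, hG', hH', hFL, ← mul_pow, hGH])
  have hq : p ^ n ≠ 0 := pow_ne_zero _ (expChar_pos L' p).ne'
  have hsep' : ((G * H).map (algebraMap L'[X] (RatFunc L'))).Separable := by
    rw [hGH, Polynomial.map_map]
    let φ : RatFunc L →+* RatFunc L' := IsFractionRing.map (A := L[X]) (B := L'[X]) (K := RatFunc L) (L := RatFunc L')
      (j := mapRingHom (algebraMap L L')) (Polynomial.map_injective _ (algebraMap L L').injective)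
    have hφ : (algebraMap L'[X] (RatFunc L')).comp (mapRingHom (algebraMap L L')) =
        φ.comp (algebraMap L[X] (RatFunc L)) := RingHom.ext fun q =>
      (IsLocalization.map_eq (S := RatFunc L) (Q := RatFunc L') (g := mapRingHom (algebraMap L L'))
        (nonZeroDivisors_le_comap_nonZeroDivisors_of_injective _
          (Polynomial.map_injective _ (algebraMap L L').injective)) q).symm
    rw [hφ, ← Polynomial.map_map]
    exact hsep.map
  rw [Polynomial.map_mul] at hsep'
  have hco := hsep'.isCoprime
  have key : ∀ {P Q : L'[X][X]}, Q.Monic → IsCoprime (P.map (algebraMap L'[X] (RatFunc L'))) (Q.map (algebraMap L'[X] (RatFunc L'))) →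
      Q ∣ P ^ p ^ n → Q.natDegree = 0 := by
    intro P Q hQ hc hd
    have h1 : IsUnit (Q.map (algebraMap L'[X] (RatFunc L'))) :=
      (hc.pow_left (m := p ^ n)).symm.isUnit_of_dvd
        (by rw [← Polynomial.map_pow]; exact Polynomial.map_dvd _ hd)
    rw [← hQ.natDegree_map (algebraMap L'[X] (RatFunc L'))]
    exact Polynomial.natDegree_eq_zero_of_isUnit h1
  rcases dvd_or_dvd_of_separable hK hF hindep hroot E (hprod ▸ dvd_pow_self FE hq) with h | h
  · right
    refine key hH hco (dvd_trans ?_ (hG' ▸ Polynomial.map_dvd (mapRingHom (algebraMap E L')) h))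
    rw [hFL, ← hGH]
    exact dvd_mul_left H G
  · left
    refine key hG hco.symm (dvd_trans ?_ (hH' ▸ Polynomial.map_dvd (mapRingHom (algebraMap E L')) h))
    rw [hFL, ← hGH]
    exact dvd_mul_right G H

end Groth.Agent.H9PB.LangWeil
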