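import Groth.Agent.H9PB.LangWeil.Induction
import Groth.Agent.S1540
import Groth.Agent.S1654
import Groth.Agent.VarDim.Top
import Groth.Agent.WeilLib.PointCount
import Groth.Agent.ZetaLib.BaseChange
import Groth.Agent.ZetaLib.ZetaProduct
import Groth.Agent.H23.RedSub
import Groth.Agent.FibDim.BaseField

/-!
# A lower bound for the points of a scheme of finite type over a finite field
-/

set_option autoImplicit false
set_option linter.style.haveILetI false
set_option linter.unusedSectionVars false
set_option backward.isDefEq.respectTransparency false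
set_option backward.isDefEq.respectTransparency.types false
set_option maxHeartbeats 1000000

universe u

open CategoryTheory CategoryTheory.Limits AlgebraicGeometry TopologicalSpace

namespace Groth.Agent.H9PB.LangWeil

open Groth.Agent

variable {k : Type u} [Field k] [Finite k]

theorem finite_pts {X : Scheme.{u}} (f : X ⟶ Spec (CommRingCat.of k)) [LocallyOfFiniteType f] [QuasiCompact f]
    {r : ℕ} (hr : topologicalKrullDim X ≤ r) (k' : Type u) [Field k'] [Algebra k k'] [Finite k'] :
    Finite {g : Spec (CommRingCat.of k') ⟶ X // g ≫ f = Spec.map (CommRingCat.ofHom (algebraMap k k'))} := by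
  obtain ⟨c, p₀, -, h⟩ := ZetaLib.exists_bound (f ≫ ZetaLib.toSpecZ k) r hr
  obtain ⟨p, hp⟩ := CharP.exists k'
  obtain ⟨hfin, -, -⟩ := h p (CharP.char_is_prime k' p) k'
  have := hfin
  infer_instance

theorem nonempty_of_dim {X : Type u} [TopologicalSpace X] {r : ℕ} (hr : topologicalKrullDim X = r) : Nonempty X := by
  by_contra hX
  haveI := not_nonempty_iff.1 hX
  haveI : IsEmpty (TopologicalSpace.IrreducibleCloseds X) := ⟨fun Z => isEmptyElim (α := X) Z.isIrreducible.nonempty.some⟩
  rw [topologicalKrullDim, Order.krullDim_eq_bot] at hr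
  exact WithBot.bot_ne_coe hr

theorem exists_lower_geomIrreducible {X : Scheme.{u}} (f : X ⟶ Spec (CommRingCat.of k)) [LocallyOfFiniteType f]
    [QuasiCompact f] [IsIntegral X] [GeometricallyIrreducible f] {r : ℕ} (hr : topologicalKrullDim X = r) :
    ∃ (c : ℝ) (e₀ : ℕ), 0 < c ∧ ∀ (k' : Type u) [Field k'] [Algebra k k'] [Finite k'],
      e₀ ≤ Module.finrank k k' → c * (Nat.card k' : ℝ) ^ r ≤ SgaExt.pointCount f k' := by
  classical
  haveI : CompactSpace X := QuasiCompact.compactSpace_of_compactSpace f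
  set ξ := genericPoint X
  obtain ⟨U, hU, hξ, -⟩ := exists_isAffineOpen_mem_and_subset (x := ξ) (U := (⊤ : X.Opens)) trivial
  let K := X.residueField ξ
  let φA : CommRingCat.of k ⟶ Γ(X, U) := Spec.preimage (hU.fromSpec ≫ f)
  have hφA : Spec.map φA = hU.fromSpec ≫ f := Spec.map_preimage _
  have hlft : LocallyOfFiniteType (Spec.map φA) := by rw [hφA]; infer_instance
  have hft : φA.hom.FiniteType := (HasRingHomProperty.Spec_iff (P := @LocallyOfFiniteType)).1 hlft
  letI : Algebra k Γ(X, U) := φA.hom.toAlgebra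
  haveI : Algebra.FiniteType k Γ(X, U) := hft
  letI : Algebra k K := (VarDim.resHom f ξ).toAlgebra
  let ρ₀ : Γ(X, U) ⟶ K := X.presheaf.germ U ξ hξ ≫ X.residue ξ
  have hρ₀ : Spec.map ρ₀ ≫ hU.fromSpec = X.fromSpecResidueField ξ := by
    show Spec.map (_ ≫ _) ≫ _ = Spec.map _ ≫ _
    rw [Spec.map_comp, Category.assoc]
    congr 1
    exact hU.fromSpecStalk_eq_fromSpecStalk hξ
  have hcompat : φA ≫ ρ₀ = CommRingCat.ofHom (VarDim.resHom f ξ) := by
    apply Spec.map_injective
    rw [Spec.map_comp, hφA, ← Category.assoc, hρ₀]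
    exact WeilLib.fromSpecResidueField_comp f ξ
  let ρ : Γ(X, U) →ₐ[k] K :=
    { toRingHom := ρ₀.hom, commutes' := fun c => DFunLike.congr_fun (congrArg CommRingCat.Hom.hom hcompat) c }
  obtain ⟨G, hG⟩ := Algebra.FiniteType.out (R := k) (A := Γ(X, U))
  let S : Finset K := G.image ρ
  have hSρ : Algebra.adjoin k (S : Set K) = ρ.range := by
    rw [Finset.coe_image, Algebra.adjoin_image, hG, Algebra.map_top]
  have hfrac : ∀ z : K, ∃ a b : Γ(X, U), ρ b ≠ 0 ∧ z * ρ b = ρ a := by
    intro z
    obtain ⟨w, rfl⟩ := Ideal.Quotient.mk_surjective z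
    letI : Algebra Γ(X, U) (X.presheaf.stalk ξ) := (X.presheaf.germ U ξ hξ).hom.toAlgebra
    haveI := hU.isLocalization_stalk ⟨ξ, hξ⟩
    obtain ⟨⟨a, b⟩, hab⟩ := IsLocalization.surj (hU.primeIdealOf ⟨ξ, hξ⟩).asIdeal.primeCompl w
    refine ⟨a, b, fun h0 => ?_, ?_⟩
    · exact ((IsLocalization.map_units (X.presheaf.stalk ξ) b).map (X.residue ξ).hom).ne_zero h0
    · exact ((map_mul (X.residue ξ).hom _ _).symm.trans (congrArg (X.residue ξ).hom hab))
  have hS : IntermediateField.adjoin k (S : Set K) = ⊤ := top_le_iff.1 fun z _ => by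
    obtain ⟨a, b, hb, hab⟩ := hfrac z
    rw [show z = ρ a / ρ b by rw [← hab, mul_div_cancel_right₀ _ hb]]
    have hmem : ∀ c, ρ c ∈ IntermediateField.adjoin k (S : Set K) := fun c =>
      IntermediateField.algebra_adjoin_le_adjoin k _ (hSρ.ge ⟨c, rfl⟩)
    exact div_mem (hmem a) (hmem b)
  haveI : Algebra.EssFiniteType k K := IntermediateField.fg_top_iff.1 ⟨S, hS⟩
  obtain ⟨s, hs, hsep⟩ := exists_isTranscendenceBasis_and_isSeparable_of_perfectField k K
  have hsr : s.card = r := by
    have h1 := hs.cardinalMk_eq_trdeg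
    rw [Cardinal.mk_fintype, Fintype.card_coe] at h1
    have h2 : VarDim.deg f ξ = s.card := by
      show Cardinal.toNat (Algebra.trdeg k K) = _
      rw [← h1, Cardinal.toNat_natCast]
    have h3 := VarDim.topologicalKrullDim_eq_deg_genericPoint f
    rw [hr, h2] at h3
    exact_mod_cast h3.symm
  let e : Fin r ≃ s := (Fin.castOrderIso hsr.symm).toEquiv.trans s.equivFin.symm
  let t : Fin r → K := fun i => (e i : K)
  have ht : AlgebraicIndependent k t := hs.1.comp e e.injective
  have hrange : Set.range t = (s : Set K) := by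
    ext z
    exact ⟨by rintro ⟨i, rfl⟩; exact (e i).2, fun hz => ⟨e.symm ⟨z, hz⟩, by simp [t]⟩⟩
  have hsep' : Algebra.IsSeparable (IntermediateField.adjoin k (Set.range t)) K := by rw [hrange]; exact hsep
  letI : X.Over (Spec (CommRingCat.of k)) := ⟨f⟩
  have halgEq : ∀ c : k, algebraMap k K c = VarDim.resHom f ξ c := fun _ => rfl
  have hcl : ∀ a : K, IsAlgebraic k a → a ∈ Set.range (algebraMap k K) := fun a ha =>
    (Groth.Agent.S1540.result k X).1 (show GeometricallyIrreducible f from inferInstance) a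
      (PerfectField.separable_of_irreducible (minpoly.irreducible ha.isIntegral))
  obtain ⟨c, e₀, b, hc, hb0, hb⟩ := lowerBound (R := k) (k := k) r K t ht hsep' hcl S hS
  refine ⟨c, e₀, hc, fun k' _ _ _ he => (hb k' ((map_ne_zero_iff _ (algebraMap k k').injective).2 hb0) ?_).trans ?_⟩
  · rw [Module.natCard_eq_pow_finrank (K := k) (V := k')]
    exact he.trans (Nat.lt_pow_self Finite.one_lt_card).le
  haveI : Finite {g : Spec (CommRingCat.of k') ⟶ X // g ≫ f = Spec.map (CommRingCat.ofHom (algebraMap k k'))} :=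
    finite_pts f hr.le k'
  let res : (Algebra.adjoin k (S : Set K) →ₐ[k] k') → (Γ(X, U) →ₐ[k] k') := fun ψ =>
    ψ.comp (ρ.codRestrict _ fun a => hSρ.ge ⟨a, rfl⟩)
  have hres : Function.Injective res := fun ψ ψ' h => by
    refine AlgHom.adjoin_ext fun z hz => ?_
    obtain ⟨a, -, rfl⟩ := Finset.mem_image.1 hz
    exact DFunLike.congr_fun h a
  let toPt : (Γ(X, U) →ₐ[k] k') →
      {g : Spec (CommRingCat.of k') ⟶ X // g ≫ f = Spec.map (CommRingCat.ofHom (algebraMap k k'))} := fun ψ =>
    ⟨Spec.map (CommRingCat.ofHom ψ.toRingHom) ≫ hU.fromSpec, by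
      rw [Category.assoc, ← hφA, ← Spec.map_comp]
      congr 1
      ext c
      exact ψ.commutes c⟩
  have htoPt : Function.Injective toPt := fun ψ ψ' h => by
    have h1 := congrArg Subtype.val h
    simp only [toPt, cancel_mono] at h1
    exact AlgHom.coe_ringHom_injective (congrArg CommRingCat.Hom.hom (Spec.map_injective h1))
  exact_mod_cast Nat.card_le_card_of_injective _ (htoPt.comp hres)

theorem exists_lower {X : Scheme.{u}} (f : X ⟶ Spec (CommRingCat.of k)) [LocallyOfFiniteType f]
    [QuasiCompact f] {r : ℕ} (hr : topologicalKrullDim X = r) :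
    ∃ (c : ℝ) (m : ℕ), 0 < c ∧ 0 < m ∧ ∀ e, 1 ≤ e →
      c * (Nat.card k : ℝ) ^ (m * e * r) ≤ Zeta.nPts f (m * e) := by
  classical
  haveI : CompactSpace X := QuasiCompact.compactSpace_of_compactSpace f
  haveI : IsLocallyNoetherian X := LocallyOfFiniteType.isLocallyNoetherian f
  haveI : IsNoetherian X := ⟨⟩
  haveI hne : Nonempty X := nonempty_of_dim hr
  letI : X.Over (Spec (CommRingCat.of k)) := ⟨f⟩
  haveI : LocallyOfFiniteType (X ↘ Spec (CommRingCat.of k)) := ‹LocallyOfFiniteType f›
  have hirr : (irreducibleComponents (X : Type u)).Finite := NoetherianSpace.finite_irreducibleComponents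
  obtain ⟨k₁, hk₁f, hk₁a, hk₁, hsep, hgi⟩ := Groth.Agent.S1654.result k X hirr
  letI := hk₁f; letI := hk₁a; haveI := hk₁
  haveI : Finite k₁ := Module.finite_of_finite k
  let Y := Curv2.bc k X k₁
  let g : Y ⟶ Spec (CommRingCat.of k₁) := Curv2.bcSnd k X k₁
  haveI : LocallyOfFiniteType g := MorphismProperty.pullback_snd (P := @LocallyOfFiniteType) _ _ ‹_›
  haveI : QuasiCompact g := MorphismProperty.pullback_snd (P := @QuasiCompact) _ _ ‹_›
  haveI : CompactSpace Y := QuasiCompact.compactSpace_of_compactSpace g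
  haveI : Subsingleton ↥(Spec (CommRingCat.of k)) := inferInstanceAs (Subsingleton (PrimeSpectrum k))
  haveI : Subsingleton ↥(Spec (CommRingCat.of k₁)) := inferInstanceAs (Subsingleton (PrimeSpectrum k₁))
  haveI : Nonempty ↥(Spec (CommRingCat.of k₁)) := inferInstanceAs (Nonempty (PrimeSpectrum k₁))
  have hdimY : topologicalKrullDim ↥Y = r := (FibDim.topologicalKrullDim_baseChange
    (IsPullback.of_hasPullback f (Spec.map (CommRingCat.ofHom (algebraMap k k₁))))).trans hr
  haveI : Nonempty Y := nonempty_of_dim hdimY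
  obtain ⟨η', hη'⟩ := VarDim.exists_deg_eq_topologicalKrullDim g
  obtain ⟨T, hT, hTη⟩ := exists_mem_irreducibleComponents_subset_of_isIrreducible ({η'} : Set Y)
    isIrreducible_singleton
  have hTc := isClosed_of_mem_irreducibleComponents T hT
  let ι := (Scheme.IdealSheafData.vanishingIdeal ⟨T, hTc⟩).subschemeι
  have hTdim : topologicalKrullDim ↥T = r := by
    refine le_antisymm ?_ ?_
    · rw [← hdimY]; exact Topology.IsInducing.topologicalKrullDim_le Topology.IsInducing.subtypeVal
    · rw [← hdimY, hη'.2.2, ← VarDim.topologicalKrullDim_closure_singleton g η']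
      have hsub : closure ({η'} : Set Y) ⊆ T := closure_minimal (Set.singleton_subset_iff.2 (hTη rfl)) hTc
      exact Topology.IsInducing.topologicalKrullDim_le (Topology.IsEmbedding.inclusion hsub).isInducing
  let Z := (Scheme.IdealSheafData.vanishingIdeal (⟨T, hTc⟩ : Closeds Y)).subscheme
  have hrange : Set.range ι = T := by
    rw [Scheme.IdealSheafData.range_subschemeι, Scheme.IdealSheafData.coe_support_vanishingIdeal]; rfl
  have hZdim : topologicalKrullDim Z = r := by
    rw [(ι.isEmbedding.toHomeomorph.trans (Homeomorph.setCongr hrange)).isHomeomorph.topologicalKrullDim_eq,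
      hTdim]
  haveI : GeometricallyIrreducible (ι ≫ g) := hgi T hT
  haveI : IrreducibleSpace Z := by
    haveI : IrreducibleSpace ↥T := isIrreducible_iff_irreducibleSpace.1 hT.1
    exact (ι.isEmbedding.toHomeomorph.trans (Homeomorph.setCongr hrange)).symm.surjective.irreducibleSpace
      (ι.isEmbedding.toHomeomorph.trans (Homeomorph.setCongr hrange)).symm.continuous
  haveI : AlgebraicGeometry.IsReduced Z := H23.RedSub.isReduced_vanishingIdeal _
  haveI : IsIntegral Z := isIntegral_of_irreducibleSpace_of_isReduced Z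
  obtain ⟨c, e₀, hc, hb⟩ := exists_lower_geomIrreducible (ι ≫ g) hZdim
  set d := Module.finrank k k₁
  have hd : 0 < d := Module.finrank_pos
  refine ⟨c, d * (e₀ + 1), hc, by positivity, fun e he => ?_⟩
  set j := (e₀ + 1) * e with hj
  haveI : NeZero j := ⟨by positivity⟩
  obtain ⟨p, hp⟩ := CharP.exists k₁
  haveI : Fact p.Prime := ⟨CharP.char_is_prime k₁ p⟩
  let k₂ := ULift.{u} (FiniteField.Extension k₁ p j)
  haveI : Finite k₂ := Finite.of_equiv _ Equiv.ulift.symm
  letI : Algebra k k₂ := ((algebraMap k₁ k₂).comp (algebraMap k k₁)).toAlgebra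
  haveI : IsScalarTower k k₁ k₂ := IsScalarTower.of_algebraMap_eq fun _ => rfl
  have hj₂ : Module.finrank k₁ k₂ = j :=
    (ULift.moduleEquiv : k₂ ≃ₗ[k₁] _).finrank_eq.trans (FiniteField.finrank_extension k₁ p j)
  have hme : Module.finrank k k₂ = d * (e₀ + 1) * e := by
    rw [← Module.finrank_mul_finrank k k₁ k₂, hj₂, hj]; ring
  have h1 := hb k₂ (by rw [hj₂, hj]; nlinarith)
  have h2 : SgaExt.pointCount (ι ≫ g) k₂ ≤ SgaExt.pointCount g k₂ := by
    haveI := finite_pts g hdimY.le k₂
    refine Nat.card_le_card_of_injective (fun a => ⟨a.1 ≫ ι, by rw [Category.assoc]; exact a.2⟩) fun a b h => ?_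
    exact Subtype.ext ((cancel_mono ι).1 (congrArg Subtype.val h))
  have h3 : SgaExt.pointCount g k₂ = SgaExt.pointCount f k₂ := ZetaLib.pointCount_baseChange f k₁ k₂
  rw [← hme, ← ZetaLib.pointCount_eq_nPts f k₂, pow_mul, ← Nat.cast_pow, ← Module.natCard_eq_pow_finrank (K := k) (V := k₂), ← h3]
  exact h1.trans (by exact_mod_cast h2)

end Groth.Agent.H9PB.LangWeil
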