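import Groth.Agent.H9PB.LangWeil.Fibration
import Groth.Agent.H9PB.LangWeil.Count2
import Groth.Agent.H9PB.LangWeil.Scheme
import Groth.Agent.VarDim.Top
import Mathlib.RingTheory.KrullDimension.NonZeroDivisors

/-!
# The Lang–Weil estimate for a regular extension over a finite field
-/

set_option autoImplicit false
set_option linter.style.haveILetI false
set_option linter.unusedSectionVars false
set_option maxHeartbeats 2000000

open Polynomial IntermediateField CategoryTheory AlgebraicGeometry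

namespace Groth.Agent.H9PB.LangWeil

universe u

variable {k : Type u} [Field k] [Finite k]

theorem le_sub_one_of_lt (a : WithBot ℕ∞) (r : ℕ) (h : a < r) : a ≤ ((r - 1 : ℕ) : WithBot ℕ∞) := by
  cases a with
  | bot => exact bot_le
  | coe a =>
    cases a with
    | top => exact absurd (WithBot.coe_lt_coe.1 h) not_top_lt
    | coe m =>
      have h1 : m < r := by exact_mod_cast h
      exact WithBot.coe_le_coe.2 (Nat.cast_le.2 (by omega : m ≤ r - 1))

theorem lt_of_add_one_le (a : WithBot ℕ∞) (r : ℕ) (h : a + 1 ≤ r) : a < r := by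
  cases a with
  | bot => exact WithBot.bot_lt_coe _
  | coe a =>
    cases a with
    | top =>
      rw [← WithBot.coe_one, ← WithBot.coe_add, top_add] at h
      exact absurd (WithBot.coe_le_coe.1 h) (not_le.2 (WithTop.coe_lt_top r))
    | coe m =>
      have h1 : m + 1 ≤ r := by exact_mod_cast h
      exact WithBot.coe_lt_coe.2 (Nat.cast_lt.2 (by omega : m < r))

/-- Few points in small dimension. -/
theorem card_hom_le_of_dim_lt (A : Type u) [CommRing A] [Algebra k A] [Algebra.FiniteType k A] (r : ℕ)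
    (hA : ringKrullDim A < r) :
    ∃ C : ℝ, 0 ≤ C ∧ ∀ (k' : Type u) [Field k'] [Algebra k k'] [Finite k'],
      (Nat.card (A →ₐ[k] k') : ℝ) ≤ C * (Nat.card k' : ℝ) ^ ((r : ℝ) - 1) := by
  rcases subsingleton_or_nontrivial A with hs | hn
  · refine ⟨0, le_rfl, fun k' _ _ _ => ?_⟩
    haveI : IsEmpty (A →ₐ[k] k') := ⟨fun ψ => zero_ne_one ((map_zero ψ).symm.trans
      ((congrArg ψ (Subsingleton.elim (0 : A) 1)).trans (map_one ψ)))⟩
    rw [Nat.card_of_isEmpty, Nat.cast_zero, zero_mul]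
  have hr : 1 ≤ r := by
    rcases Nat.eq_zero_or_pos r with rfl | h
    · exact absurd hA (not_lt.2 (by simpa using ringKrullDim_nonneg_of_nontrivial))
    · exact h
  let g := Spec.map (CommRingCat.ofHom (algebraMap k A)) ≫ ZetaLib.toSpecZ k
  haveI : LocallyOfFiniteType (Spec.map (CommRingCat.ofHom (algebraMap k A))) :=
    (HasRingHomProperty.Spec_iff (P := @LocallyOfFiniteType)).2 (RingHom.finiteType_algebraMap.2 ‹_›)
  have hdim : topologicalKrullDim (Spec (CommRingCat.of A)) ≤ ((r - 1 : ℕ) : WithBot ℕ∞) := by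
    show topologicalKrullDim (PrimeSpectrum A) ≤ _
    rw [PrimeSpectrum.topologicalKrullDim_eq_ringKrullDim]
    exact le_sub_one_of_lt _ r hA
  obtain ⟨c, p₀, -, hc⟩ := ZetaLib.exists_bound g (r - 1) hdim
  refine ⟨c, Nat.cast_nonneg c, fun k' _ _ _ => ?_⟩
  obtain ⟨p, hp⟩ := CharP.exists k'
  obtain ⟨hfin, hle, -⟩ := hc p (CharP.char_is_prime k' p) k'
  have h1 : Nat.card (A →ₐ[k] k') ≤ c * Nat.card k' ^ (r - 1) := by
    refine le_trans ?_ hle
    refine Nat.card_le_card_of_injective (fun ψ => Spec.map (CommRingCat.ofHom ψ.toRingHom)) fun ψ ψ' h => ?_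
    exact AlgHom.coe_ringHom_injective (congrArg CommRingCat.Hom.hom (Spec.map_injective h))
  have h2 : (r : ℝ) - 1 = ((r - 1 : ℕ) : ℝ) := by push_cast [Nat.cast_sub hr]; ring
  rw [h2, Real.rpow_natCast]
  exact_mod_cast h1

/-- Adjoining finitely many fractions changes the number of points little. -/
theorem close_union {K : Type u} [Field K] [Algebra k K] (r : ℕ) (htr : Algebra.trdeg k K ≤ r)
    (S T : Finset K) (hS : IntermediateField.adjoin k (S : Set K) = ⊤) :
    ∃ C : ℝ, 0 ≤ C ∧ ∀ (k' : Type u) [Field k'] [Algebra k k'] [Finite k'],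
      |(Nat.card (Algebra.adjoin k (S : Set K) →ₐ[k] k') : ℝ) -
          Nat.card (Algebra.adjoin k ((S : Set K) ∪ T) →ₐ[k] k')| ≤ C * (Nat.card k' : ℝ) ^ ((r : ℝ) - 1) := by
  classical
  choose dT hdT0 hdT hzdT using fun z : K => exists_den (R := k) hS z
  set d := ∏ z ∈ T, dT z with hd
  have hd0 : d ≠ 0 := Finset.prod_ne_zero_iff.2 fun z _ => hdT0 z
  set A := Algebra.adjoin k (S : Set K) with hA
  set A' := Algebra.adjoin k ((S : Set K) ∪ T) with hA'
  have hdA : d ∈ A := prod_mem fun z _ => hdT z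
  have hle : A ≤ A' := Algebra.adjoin_mono Set.subset_union_left
  have hfrac : ∀ z ∈ T, z * d ∈ A := fun z hz => by
    rw [hd, ← Finset.mul_prod_erase T dT hz, ← mul_assoc]
    exact mul_mem (hzdT z) (prod_mem fun w _ => hdT w)
  have hsmall : ∀ (U : Finset K) (a : Algebra.adjoin k (U : Set K)), a ≠ 0 →
      ∃ C : ℝ, 0 ≤ C ∧ ∀ (k' : Type u) [Field k'] [Algebra k k'] [Finite k'],
        (Nat.card {ψ : Algebra.adjoin k (U : Set K) →ₐ[k] k' // ψ a = 0} : ℝ) ≤
          C * (Nat.card k' : ℝ) ^ ((r : ℝ) - 1) := by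
    intro U a ha
    let AU := Algebra.adjoin k (U : Set K)
    haveI : Algebra.FiniteType k AU := (Subalgebra.fg_iff_finiteType _).1 ⟨U, rfl⟩
    obtain ⟨n, hn, ht⟩ := VarDim.exists_dim_eq_trdeg k AU
    have hnr : n ≤ r := by
      have h1 : Algebra.trdeg k AU ≤ (r : Cardinal) :=
        (trdeg_le_of_injective AU.val Subtype.val_injective).trans htr
      rw [ht] at h1
      exact_mod_cast h1
    have hlt : ringKrullDim (AU ⧸ Ideal.span {a}) < (r : WithBot ℕ∞) := by
      have h1 := ringKrullDim_quotient_succ_le_of_nonZeroDivisor (mem_nonZeroDivisors_of_ne_zero ha)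
      rw [hn] at h1
      have h2 := h1.trans (show (n : WithBot ℕ∞) ≤ r by exact_mod_cast hnr)
      exact lt_of_add_one_le _ r h2
    obtain ⟨C, hC0, hC⟩ := card_hom_le_of_dim_lt (k := k) (AU ⧸ Ideal.span {a}) r hlt
    refine ⟨C, hC0, fun k' _ _ _ => le_trans (Nat.cast_le.2 ?_) (hC k')⟩
    haveI : Finite ((AU ⧸ Ideal.span {a}) →ₐ[k] k') := by
      haveI := finite_hom (R := k) (k' := k') U
      exact Finite.of_injective (fun ψ => ψ.comp (Ideal.Quotient.mkₐ k _)) fun ψ ψ' h =>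
        Ideal.Quotient.algHom_ext k h
    refine Nat.card_le_card_of_injective (fun ψ => Ideal.Quotient.liftₐ (Ideal.span {a}) ψ.1 fun b hb => by
      obtain ⟨w, rfl⟩ := Ideal.mem_span_singleton'.1 hb
      rw [map_mul, ψ.2, mul_zero]) fun ψ ψ' h => Subtype.ext (AlgHom.ext fun b => ?_)
    exact DFunLike.congr_fun h (Ideal.Quotient.mk _ b)
  obtain ⟨C₁, hC₁, h₁⟩ := hsmall S ⟨d, hdA⟩ fun h => hd0 (congrArg Subtype.val h)
  have hU : ((S ∪ T : Finset K) : Set K) = (S : Set K) ∪ T := Finset.coe_union S T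
  obtain ⟨C₂, hC₂, h₂⟩ := hsmall (S ∪ T) ⟨d, Algebra.adjoin_mono (hU ▸ Set.subset_union_left) hdA⟩
    fun h => hd0 (congrArg Subtype.val h)
  refine ⟨C₁ + C₂, add_nonneg hC₁ hC₂, fun k' _ _ _ => ?_⟩
  haveI := finite_hom (R := k) (k' := k') S
  haveI : Finite (A' →ₐ[k] k') := by rw [hA', ← hU]; exact finite_hom (R := k) (k' := k') (S ∪ T)
  have hA'U : Algebra.adjoin k ((S ∪ T : Finset K) : Set K) = A' := by rw [hU]
  -- homomorphisms not killing the denominator correspond
  let res : {ψ : A' →ₐ[k] k' // ψ ⟨d, hle hdA⟩ ≠ 0} → {ψ : A →ₐ[k] k' // ψ ⟨d, hdA⟩ ≠ 0} := fun ψ =>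
    ⟨ψ.1.comp (Subalgebra.inclusion hle), ψ.2⟩
  have hres : Function.Bijective res := by
    refine ⟨fun ψ ψ' h => Subtype.ext (AlgHom.adjoin_ext fun z hz => ?_), fun ψ => ?_⟩
    · have hAeq : ∀ a : A, ψ.1 ⟨a, hle a.2⟩ = ψ'.1 ⟨a, hle a.2⟩ := fun a =>
        DFunLike.congr_fun (congrArg Subtype.val h) a
      rcases hz with hz | hz
      · exact hAeq ⟨z, Algebra.subset_adjoin hz⟩
      · have hzA' : z ∈ A' := Algebra.subset_adjoin (Or.inr hz)
        have e1 : (⟨z * d, hle (hfrac z hz)⟩ : A') = ⟨z, hzA'⟩ * ⟨d, hle hdA⟩ := rfl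
        have h2 := hAeq ⟨_, hfrac z hz⟩
        rw [e1, map_mul, map_mul, ← hAeq ⟨d, hdA⟩] at h2
        exact mul_right_cancel₀ ψ.2 h2
    · obtain ⟨φ, hφ⟩ := exists_extend A.val ψ.1 (fun p hp => by
        rw [show p = 0 from Subtype.ext hp, map_zero]) ⟨d, hdA⟩ ψ.2 ((S : Set K) ∪ T) (fun a ha => by
        rcases ha with ha | ha
        · exact ⟨0, ⟨a, Algebra.subset_adjoin ha⟩, by simp⟩
        · exact ⟨1, ⟨_, hfrac a ha⟩, by simp⟩)
      have hval : ∀ a : A, φ ⟨a, hle a.2⟩ = ψ.1 a := fun a => by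
        rw [hφ ⟨a, hle a.2⟩ 0 a (by simp), pow_zero, div_one]
      exact ⟨⟨φ, fun h => ψ.2 ((hval ⟨d, hdA⟩).symm.trans h)⟩, Subtype.ext (AlgHom.ext hval)⟩
  have e₁ := Nat.card_congr (Equiv.sumCompl fun ψ : A →ₐ[k] k' => ψ ⟨d, hdA⟩ = 0).symm
  have e₂ := Nat.card_congr (Equiv.sumCompl fun ψ : A' →ₐ[k] k' => ψ ⟨d, hle hdA⟩ = 0).symm
  rw [Nat.card_sum] at e₁ e₂
  have e₃ : Nat.card {ψ : A' →ₐ[k] k' // ¬ ψ ⟨d, hle hdA⟩ = 0} = Nat.card {ψ : A →ₐ[k] k' // ¬ ψ ⟨d, hdA⟩ = 0} :=
    Nat.card_congr (Equiv.ofBijective res hres)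
  have h₂' : (Nat.card {ψ : A' →ₐ[k] k' // ψ ⟨d, hle hdA⟩ = 0} : ℝ) ≤ C₂ * (Nat.card k' : ℝ) ^ ((r : ℝ) - 1) := by
    refine le_trans (Nat.cast_le.2 (le_of_eq ?_)) (h₂ k')
    exact Nat.card_congr
      { toFun := fun ψ => ⟨ψ.1.comp (Subalgebra.inclusion hA'U.le), ψ.2⟩
        invFun := fun ψ => ⟨ψ.1.comp (Subalgebra.inclusion hA'U.ge), ψ.2⟩
        left_inv := fun ψ => rfl
        right_inv := fun ψ => rfl }
  have h₁' := h₁ k'
  rw [e₁, e₂, e₃]
  push_cast
  set n₁ : ℝ := (Nat.card {ψ : A →ₐ[k] k' // ψ ⟨d, hdA⟩ = 0} : ℝ)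
  set n₂ : ℝ := (Nat.card {ψ : A' →ₐ[k] k' // ψ ⟨d, hle hdA⟩ = 0} : ℝ)
  have hn₁ : 0 ≤ n₁ := Nat.cast_nonneg _
  have hn₂ : 0 ≤ n₂ := Nat.cast_nonneg _
  rw [abs_le, add_mul]
  constructor <;> linarith

/-- Clearing denominators in a polynomial over the rational functions. -/
theorem exists_clear {L : Type u} [Field L] (p : (RatFunc L)[X]) :
    ∃ (g : L[X]) (q : L[X][X]), g ≠ 0 ∧
      q.map (algebraMap L[X] (RatFunc L)) = C (algebraMap L[X] (RatFunc L) g) * p := by
  obtain ⟨⟨g, hg⟩, hgp⟩ := IsLocalization.integerNormalization_map_to_map (nonZeroDivisors L[X]) p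
  refine ⟨g, IsLocalization.integerNormalization (nonZeroDivisors L[X]) p, nonZeroDivisors.ne_zero hg, ?_⟩
  rw [hgp]
  ext i
  rw [coeff_smul, coeff_C_mul, Algebra.smul_def]

/-- The two-sided statement. -/
def Estimate (k : Type u) [Field k] (r : ℕ) : Prop :=
  ∀ (K : Type u) [Field K] [Algebra k K] (t : Fin r → K), AlgebraicIndependent k t →
    Algebra.IsSeparable (IntermediateField.adjoin k (Set.range t)) K →
    (∀ a : K, IsAlgebraic k a → a ∈ Set.range (algebraMap k K)) →
    ∀ S : Finset K, IntermediateField.adjoin k (S : Set K) = ⊤ →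
      ∃ C : ℝ, 0 ≤ C ∧ ∀ (k' : Type u) [Field k'] [Algebra k k'] [Finite k'],
        |(Nat.card (Algebra.adjoin k (S : Set K) →ₐ[k] k') : ℝ) - (Nat.card k' : ℝ) ^ (r : ℝ)| ≤
          C * (Nat.card k' : ℝ) ^ ((r : ℝ) - 1 / 2)

theorem estimate_zero : Estimate k 0 := by
  intro K _ _ t _ hsep hcl S _
  have hsurj : Function.Surjective (algebraMap k K) := fun a => by
    refine hcl a ?_
    have hbot : IntermediateField.adjoin k (Set.range t) = ⊥ := by
      rw [Set.range_eq_empty, IntermediateField.adjoin_empty]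
    let f : IntermediateField.adjoin k (Set.range t) →+* k :=
      (((IntermediateField.equivOfEq hbot).trans (IntermediateField.botEquiv k K)).toAlgHom).toRingHom
    have hf : (algebraMap k K).comp f =
        (RingHom.id K).comp (algebraMap (IntermediateField.adjoin k (Set.range t)) K) := RingHom.ext fun z => by
      obtain ⟨w, hw⟩ := IntermediateField.mem_bot.1 (hbot ▸ z.2 : (z : K) ∈ (⊥ : IntermediateField k K))
      obtain rfl : z = algebraMap k _ w := Subtype.ext hw.symm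
      simp [f]
    exact (isSeparable_of_range_le f (RingHom.id K) hf a (Algebra.IsSeparable.isSeparable _ a)).isIntegral.isAlgebraic
  refine ⟨0, le_rfl, fun k' _ _ _ => ?_⟩
  set A := Algebra.adjoin k (S : Set K)
  have hA : Function.Bijective (Algebra.ofId k A) := ⟨(algebraMap k A).injective, fun a => by
    obtain ⟨c, hc⟩ := hsurj (a : K)
    exact ⟨c, Subtype.ext hc⟩⟩
  let e := AlgEquiv.ofBijective (Algebra.ofId k A) hA
  haveI : Unique (A →ₐ[k] k') :=
    { default := (Algebra.ofId k k').comp e.symm.toAlgHom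
      uniq := fun ψ => AlgHom.ext fun a => by
        obtain ⟨c, rfl⟩ := e.surjective a
        show ψ (algebraMap k A c) = algebraMap k k' (e.symm (e c))
        rw [ψ.commutes, e.symm_apply_apply] }
  rw [Nat.card_unique, Nat.cast_zero, Real.rpow_zero, Nat.cast_one, sub_self, abs_zero, zero_mul]

theorem trdeg_eq_of_separable {K : Type u} [Field K] [Algebra k K] {r : ℕ} (t : Fin r → K)
    (ht : AlgebraicIndependent k t) (hsep : Algebra.IsSeparable (IntermediateField.adjoin k (Set.range t)) K) :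
    Algebra.trdeg k K = r := by
  haveI : Algebra.IsAlgebraic (IntermediateField.adjoin k (Set.range t)) K :=
    ⟨fun a => (Algebra.IsSeparable.isSeparable _ a).isIntegral.isAlgebraic⟩
  haveI : Algebra.IsAlgebraic (Algebra.adjoin k (Set.range t)) K := by
    rw [← IntermediateField.isAlgebraic_adjoin_iff_top] at *
    infer_instance
  have hb : IsTranscendenceBasis k t := ht.isTranscendenceBasis_iff_isAlgebraic.2 inferInstance
  simpa using hb.lift_cardinalMk_eq_trdeg.symm

theorem estimate_succ {r : ℕ} (ih : Estimate k r) : Estimate k (r + 1) := by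
  classical
  intro K _ _ t ht hsep hcl S hS
  obtain ⟨Fb⟩ := exists_fibration t ht hsep hcl S hS
  obtain ⟨L, gen, hgenind, hLsep, hLcl, TL, hTL, x, y, F, hK, hF, hD, hroot, hindep, hsepF, hfrac, hxtr⟩ := Fb
  haveI : IsScalarTower k L K := IsScalarTower.of_algebraMap_eq fun _ => rfl
  -- the relation giving smoothness
  obtain ⟨a, b, g, hg0, hab⟩ : ∃ (a b : L[X][X]) (g : L[X]), g ≠ 0 ∧ a * F + b * F.derivative = C g := by
    obtain ⟨u, v, huv⟩ := hsepF
    obtain ⟨g₁, a, hg₁, ha⟩ := exists_clear u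
    obtain ⟨g₂, b, hg₂, hb⟩ := exists_clear v
    refine ⟨C g₂ * a, C g₁ * b, g₁ * g₂, mul_ne_zero hg₁ hg₂,
      Polynomial.map_injective _ (IsFractionRing.injective L[X] (RatFunc L)) ?_⟩
    simp only [Polynomial.map_add, Polynomial.map_mul, map_C, ha, hb, map_mul, ← derivative_map]
    linear_combination (C (algebraMap L[X] (RatFunc L) g₁) * C (algebraMap L[X] (RatFunc L) g₂)) * huv
  -- the base ring
  let T₁ : Finset L := TL ∪ coeffs₂ F
  let B₁ := Algebra.adjoin k (T₁ : Set L)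
  have hT₁ : IntermediateField.adjoin k (T₁ : Set L) = ⊤ := top_le_iff.1
    (hTL.ge.trans (IntermediateField.adjoin.mono k _ _ (Finset.coe_subset.2 Finset.subset_union_left)))
  haveI : FaithfulSMul B₁ L := (faithfulSMul_iff_algebraMap_injective B₁ L).2 Subtype.val_injective
  haveI : IsFractionRing B₁ L := IsFractionRing.of_field B₁ L fun z => by
    obtain ⟨d, hd0, hd, hzd⟩ := exists_den (R := k) hT₁ z
    exact ⟨⟨_, hzd⟩, ⟨d, hd⟩, (mul_div_cancel_right₀ z hd0).symm⟩
  obtain ⟨F₁, hF₁⟩ := exists_lift₂ (Algebra.adjoin k (T₁ : Set L)).val.toRingHom F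
    (coeff_mem_adjoin (R := k) F _ (Finset.coe_subset.2 Finset.subset_union_right))
  have hF₁m : F₁.Monic := monic_of_injective
    (Polynomial.map_injective _ (Subtype.val_injective : Function.Injective B₁.val.toRingHom)) (hF₁ ▸ hF)
  obtain ⟨b₀, hb0, hb⟩ := exists_spec L F₁ hF₁m fun L' _ _ _ => by
    have he : F₁.map (mapRingHom ((algebraMap L L').comp (algebraMap B₁ L))) =
        F.map (mapRingHom (algebraMap L L')) := by
      rw [← hF₁, Polynomial.map_map, mapRingHom_comp]; rfl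
    rw [he]
    exact noSplit_of_regular hK hF hindep hroot hsepF L'
  let T₃ : Finset L := insert (b₀ : L)⁻¹ (insert g.leadingCoeff⁻¹
    (T₁ ∪ coeffs₂ a ∪ coeffs₂ b ∪ coeffs₂ (C g : L[X][X])))
  have hT₁₃ : T₁ ⊆ T₃ := fun z hz => Finset.mem_insert_of_mem (Finset.mem_insert_of_mem
    (Finset.mem_union_left _ (Finset.mem_union_left _ (Finset.mem_union_left _ hz))))
  have hT₃ : IntermediateField.adjoin k (T₃ : Set L) = ⊤ := top_le_iff.1
    (hT₁.ge.trans (IntermediateField.adjoin.mono k _ _ (Finset.coe_subset.2 hT₁₃)))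
  obtain ⟨C₂, hC₂, hbound⟩ := ih L gen hgenind hLsep hLcl T₃ hT₃
  let B := Algebra.adjoin k (T₃ : Set L)
  have hinc : B₁ ≤ B := Algebra.adjoin_mono (Finset.coe_subset.2 hT₁₃)
  set FB : (↥B)[X][X] := F₁.map (mapRingHom (Subalgebra.inclusion hinc).toRingHom) with hFB
  let ι : (↥B)[X][X] →+* L[X][X] := mapRingHom (mapRingHom B.val.toRingHom)
  have hBval : Function.Injective B.val.toRingHom := Subtype.val_injective
  have hιinj : Function.Injective (mapRingHom B.val.toRingHom) := Polynomial.map_injective _ hBval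
  have hιF : ι FB = F := by
    show (F₁.map _).map _ = F
    rw [Polynomial.map_map, mapRingHom_comp, ← hF₁]; rfl
  have hFBm : FB.Monic := hF₁m.map _
  have hFBdeg : FB.natDegree = F.natDegree := by
    rw [← hιF]; exact (natDegree_map_eq_of_injective hιinj _).symm
  have hcoeffs : ∀ P : L[X][X], coeffs₂ P ⊆ T₃ → ∃ Q : (↥B)[X][X], ι Q = P := fun P hP =>
    exists_lift₂ B.val.toRingHom P (coeff_mem_adjoin (R := k) P (T₃ : Set L) (Finset.coe_subset.2 hP))
  obtain ⟨aB, haB⟩ := hcoeffs a fun z hz => Finset.mem_insert_of_mem (Finset.mem_insert_of_mem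
    (Finset.mem_union_left _ (Finset.mem_union_left _ (Finset.mem_union_right _ hz))))
  obtain ⟨bB, hbB⟩ := hcoeffs b fun z hz => Finset.mem_insert_of_mem (Finset.mem_insert_of_mem
    (Finset.mem_union_left _ (Finset.mem_union_right _ hz)))
  obtain ⟨GB, hGB⟩ : ∃ GB : (↥B)[X], GB.map B.val.toRingHom = g := by
    rw [← mem_lifts, lifts_iff_coeff_lifts]
    intro i
    have := coeff_mem_adjoin (R := k) (C g : L[X][X]) (T₃ : Set L) (Finset.coe_subset.2 fun z hz =>
      Finset.mem_insert_of_mem (Finset.mem_insert_of_mem (Finset.mem_union_right _ hz))) 0 i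
    rwa [coeff_C_zero] at this
  have habB : aB * FB + bB * FB.derivative = C GB := Polynomial.map_injective _ hιinj (by
    show ι _ = ι _
    rw [map_add, map_mul, map_mul, haB, hbB, hιF, show ι FB.derivative = F.derivative by
      show FB.derivative.map _ = _
      rw [← derivative_map]; exact congrArg derivative hιF, hab]
    show _ = (C GB).map _
    rw [map_C, coe_mapRingHom, hGB])
  set D := F.natDegree with hDdef
  set N := (Finset.range (D + 1)).sup fun i => (FB.coeff i).natDegree with hNdef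
  set gd := GB.natDegree with hgd
  -- the generators of the fibred algebra
  set G := aeval x g with hG
  have hG0 : G ≠ 0 := fun h => hg0 (by
    by_contra hne
    exact hxtr ⟨g, hne, h⟩)
  let S'' : Finset K := T₃.image (algebraMap L K) ∪ {x, y, G⁻¹}
  have hS'' : IntermediateField.adjoin k (S'' : Set K) = ⊤ := top_le_iff.1 fun z _ => by
    set E' := IntermediateField.adjoin k (S'' : Set K)
    have hLE : ∀ l : L, algebraMap L K l ∈ E' := fun l => by
      have h1 : IntermediateField.adjoin k (T₃ : Set L) ≤ E'.comap (IsScalarTower.toAlgHom k L K) :=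
        IntermediateField.adjoin_le_iff.2 fun w hw => IntermediateField.subset_adjoin k _
          (Finset.mem_union_left _ (Finset.mem_image_of_mem _ hw))
      exact h1 (hT₃ ▸ IntermediateField.mem_top)
    have hx : x ∈ E' := IntermediateField.subset_adjoin k _
      (Finset.mem_union_right _ (Finset.mem_insert_self _ _))
    have hy : y ∈ E' := IntermediateField.subset_adjoin k _
      (Finset.mem_union_right _ (Finset.mem_insert_of_mem (Finset.mem_insert_self _ _)))
    have hev : ∀ p : L[X], aeval x p ∈ E' := fun p => by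
      rw [aeval_eq_sum_range]
      exact sum_mem fun i _ => by rw [Algebra.smul_def]; exact mul_mem (hLE _) (pow_mem hx i)
    have hev₂ : ∀ P : L[X][X], P.eval₂ (aeval x).toRingHom y ∈ E' := fun P => by
      rw [eval₂_eq_sum_range]
      exact sum_mem fun i _ => mul_mem (hev _) (pow_mem hy i)
    obtain ⟨g', P, hg', hP⟩ := hfrac z
    have hne : aeval x g' ≠ 0 := fun h => hxtr ⟨g', hg', h⟩
    rw [show z = P.eval₂ (aeval x).toRingHom y / aeval x g' by rw [← hP, mul_div_cancel_right₀ _ hne]]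
    exact div_mem (hev₂ P) (hev g')
  have htr : Algebra.trdeg k K ≤ ((r + 1 : ℕ) : Cardinal) := (trdeg_eq_of_separable t ht hsep).le
  obtain ⟨C₃, hC₃, hc₃⟩ := close_union (r + 1) htr S S'' hS
  obtain ⟨C₄, hC₄, hc₄⟩ := close_union (r + 1) htr S'' S hS''
  set C₁ : ℝ := 2 * (N * (D : ℝ) ^ 2) + 1 + D * (gd + 1) with hC₁def
  refine ⟨C₁ * (1 + C₂) + C₂ + C₃ + C₄, by positivity, fun k' _ _ _ => ?_⟩
  haveI := finite_hom (R := k) (k' := k') T₃
  haveI := finite_hom (R := k) (k' := k') S''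
  set q : ℝ := (Nat.card k' : ℝ) with hqdef
  have hq1 : (1 : ℝ) ≤ q := by
    rw [hqdef]; exact_mod_cast Nat.one_le_iff_ne_zero.2 (Nat.card_pos (α := k')).ne'
  have hq0 : 0 < q := by linarith
  let Xφ : (↥B →ₐ[k] k') → Type u := fun φ =>
    {p : k' × k' // (GB.map φ.toRingHom).eval p.1 ≠ 0 ∧
      ((FB.map (mapRingHom φ.toRingHom)).map (evalRingHom p.1)).eval p.2 = 0}
  -- the fibres
  have hfib : ∀ φ : ↥B →ₐ[k] k', |(Nat.card (Xφ φ) : ℝ) - q| ≤ C₁ * Real.sqrt q := by
    intro φ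
    have hinv : ∀ (z : L) (hz : z ∈ B) (hzi : z⁻¹ ∈ T₃), z ≠ 0 → φ ⟨z, hz⟩ ≠ 0 := fun z hz hzi hz0 h0 => by
      have h1 : φ ⟨z, hz⟩ * φ ⟨z⁻¹, Algebra.subset_adjoin hzi⟩ = 1 := by
        rw [← map_mul, show (⟨z, hz⟩ * ⟨z⁻¹, Algebra.subset_adjoin hzi⟩ : ↥B) = 1 from
          Subtype.ext (mul_inv_cancel₀ hz0), map_one]
      rw [h0, zero_mul] at h1
      exact zero_ne_one h1
    have hφb : φ (Subalgebra.inclusion hinc b₀) ≠ 0 :=
      hinv _ (hinc b₀.2) (Finset.mem_insert_self _ _) fun h => hb0 (Subtype.ext h)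
    have hns : NoSplit ((FB.map (mapRingHom φ.toRingHom)).map
        (mapRingHom (algebraMap k' (AlgebraicClosure k')))) := by
      rw [hFB, Polynomial.map_map, Polynomial.map_map, mapRingHom_comp, mapRingHom_comp]
      refine hb (AlgebraicClosure k') _ ?_
      show algebraMap k' (AlgebraicClosure k') (φ (Subalgebra.inclusion hinc b₀)) ≠ 0
      simpa using hφb
    have hdeg : (FB.map (mapRingHom φ.toRingHom)).natDegree = D := by rw [hFBm.natDegree_map, hFBdeg]
    haveI := fact_irreducible (hFBm.map (mapRingHom φ.toRingHom)) (by omega) hns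
    have hN : ∀ i, ((FB.map (mapRingHom φ.toRingHom)).coeff i).natDegree ≤ N := fun i => by
      rw [coeff_map, coe_mapRingHom]
      refine natDegree_map_le.trans ?_
      by_cases hi : i ≤ D
      · exact Finset.le_sup (f := fun i => (FB.coeff i).natDegree) (Finset.mem_range.2 (Nat.lt_succ_of_le hi))
      · rw [coeff_eq_zero_of_natDegree_lt (hFBdeg.trans_lt (not_le.1 hi)), natDegree_zero]; exact Nat.zero_le _
    have hGφ : GB.map φ.toRingHom ≠ 0 := fun h0 => by
      have hval : (GB.coeff g.natDegree : L) = g.leadingCoeff := by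
        have h3 := congrArg (fun p => p.coeff g.natDegree) hGB
        rw [coeff_map] at h3
        exact h3
      have h2 := congrArg (fun p => p.coeff g.natDegree) h0
      simp only [coeff_map, coeff_zero] at h2
      exact hinv _ (GB.coeff g.natDegree).2 (by rw [hval]; exact Finset.mem_insert_of_mem (Finset.mem_insert_self _ _))
        (by rw [hval]; exact leadingCoeff_ne_zero.2 hg0) h2
    have h1 := card_pairs (hFBm.map _) (by omega) hns hN (GB.map φ.toRingHom) hGφ
      (aB.map (mapRingHom φ.toRingHom)) (bB.map (mapRingHom φ.toRingHom)) (by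
        rw [derivative_map, ← Polynomial.map_mul, ← Polynomial.map_mul, ← Polynomial.map_add, habB, map_C,
          coe_mapRingHom])
    rw [hdeg] at h1
    refine h1.trans ?_
    have h2 : ((GB.map φ.toRingHom).natDegree : ℝ) ≤ gd := by exact_mod_cast natDegree_map_le
    have h3 : (1 : ℝ) ≤ Real.sqrt q := Real.one_le_sqrt.2 hq1
    have h4 : (0 : ℝ) ≤ (D : ℝ) * ((GB.map φ.toRingHom).natDegree + 1) := by positivity
    have h5 : (D : ℝ) * ((GB.map φ.toRingHom).natDegree + 1) ≤ D * (gd + 1) := by gcongr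
    rw [hC₁def]
    nlinarith
  -- homomorphisms of the fibred algebra are pairs
  let ev : (↥B)[X][X] →ₐ[k] K :=
    { toRingHom := (eval₂RingHom (aeval x).toRingHom y).comp ι
      commutes' := fun c => by
        show ((algebraMap k (↥B)[X][X] c).map _).eval₂ _ _ = _
        rw [Polynomial.algebraMap_apply, Polynomial.algebraMap_apply, map_C, coe_mapRingHom, map_C, eval₂_C]
        exact (aeval_C x _).trans (IsScalarTower.algebraMap_apply k L K c).symm }
  have hevC : ∀ z : ↥B, ev (C (C z)) = algebraMap L K z := fun z => by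
    show ((C (C z) : (↥B)[X][X]).map _).eval₂ _ _ = _
    rw [map_C, coe_mapRingHom, map_C, eval₂_C]
    exact aeval_C x _
  have hevX : ev (C X) = x := by
    show ((C X : (↥B)[X][X]).map _).eval₂ _ _ = _
    rw [map_C, coe_mapRingHom, map_X, eval₂_C]
    exact aeval_X x
  have hevY : ev X = y := by
    show ((X : (↥B)[X][X]).map _).eval₂ _ _ = _
    rw [map_X, eval₂_X]
  have hevG : ev (C GB) = G := by
    show ((C GB : (↥B)[X][X]).map _).eval₂ _ _ = _
    rw [map_C, coe_mapRingHom, hGB, eval₂_C]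
    rfl
  have hevker : ∀ p, ev p = 0 → FB ∣ p := by
    intro p hp
    rw [← Polynomial.modByMonic_eq_zero_iff_dvd hFBm]
    refine Polynomial.map_injective _ hιinj ((hindep _ ?_ ?_).trans (Polynomial.map_zero _).symm)
    · refine degree_map_le.trans_lt ((Polynomial.degree_modByMonic_lt _ hFBm).trans_le ?_)
      rw [← hιF]
      exact (degree_map_eq_of_injective hιinj _).ge
    · have h1 := congrArg ev (Polynomial.modByMonic_add_div p FB)
      rw [map_add, map_mul, show ev FB = 0 by show (ι FB).eval₂ _ _ = 0; rw [hιF]; exact hroot, zero_mul,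
        add_zero, hp] at h1
      exact h1
  set A'' := Algebra.adjoin k (S'' : Set K) with hA''
  have hTmem : ∀ z ∈ T₃, algebraMap L K z ∈ A'' := fun z hz =>
    Algebra.subset_adjoin (Finset.mem_union_left _ (Finset.mem_image_of_mem _ hz))
  have hxA : x ∈ A'' := Algebra.subset_adjoin (Finset.mem_union_right _ (Finset.mem_insert_self _ _))
  have hyA : y ∈ A'' :=
    Algebra.subset_adjoin (Finset.mem_union_right _ (Finset.mem_insert_of_mem (Finset.mem_insert_self _ _)))
  have hGA : G⁻¹ ∈ A'' := Algebra.subset_adjoin (Finset.mem_union_right _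
    (Finset.mem_insert_of_mem (Finset.mem_insert_of_mem (Finset.mem_singleton_self _))))
  have hBA : B ≤ A''.comap (IsScalarTower.toAlgHom k L K) := Algebra.adjoin_le hTmem
  have hevmem : ∀ p, ev p ∈ A'' := fun p => by
    induction p using Polynomial.induction_on with
    | C e =>
      induction e using Polynomial.induction_on with
      | C e => rw [hevC]; exact hBA e.2
      | add e e' he he' => rw [map_add C, map_add]; exact add_mem he he'
      | monomial n e he => rw [pow_succ, ← mul_assoc, map_mul C, map_mul, hevX]; exact mul_mem he hxA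
    | add p p' hp hp' => rw [map_add]; exact add_mem hp hp'
    | monomial n e he => rw [pow_succ, ← mul_assoc, map_mul, hevY]; exact mul_mem he hyA
  let ev' : (↥B)[X][X] →ₐ[k] A'' := ev.codRestrict A'' hevmem
  let χ : (φ : ↥B →ₐ[k] k') → k' → k' → ((↥B)[X][X] →ₐ[k] k') := fun φ c d =>
    { toRingHom := ((evalRingHom d).comp (mapRingHom (evalRingHom c))).comp (mapRingHom (mapRingHom φ.toRingHom))
      commutes' := fun z => by simp [Polynomial.algebraMap_apply] }
  let φof : (A'' →ₐ[k] k') → (↥B →ₐ[k] k') := fun ψ =>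
    ψ.comp (((IsScalarTower.toAlgHom k L K).comp B.val).codRestrict A'' fun z => hBA z.2)
  have hψev : ∀ ψ : A'' →ₐ[k] k', ψ.comp ev' = χ (φof ψ) (ψ ⟨x, hxA⟩) (ψ ⟨y, hyA⟩) := fun ψ => by
    refine AlgHom.coe_ringHom_injective (Polynomial.ringHom_ext (fun e => ?_) ?_)
    · induction e using Polynomial.induction_on with
      | C e =>
        show ψ (ev' (C (C e))) = χ _ _ _ (C (C e))
        rw [show ev' (C (C e)) = ⟨algebraMap L K e, hBA e.2⟩ from Subtype.ext (hevC e)]
        simp [χ, φof]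
        rfl
      | add e e' he he' => rw [map_add C, map_add, map_add, he, he']
      | monomial n e he =>
        rw [pow_succ, ← mul_assoc, map_mul C]
        simp only [RingHom.coe_coe] at he ⊢
        rw [map_mul (ψ.comp ev'), map_mul (χ _ _ _), he]
        congr 1
        show ψ (ev' (C X)) = χ _ _ _ (C X)
        rw [show ev' (C X) = ⟨x, hxA⟩ from Subtype.ext hevX]
        simp [χ]
    · show ψ (ev' X) = χ _ _ _ X
      rw [show ev' X = ⟨y, hyA⟩ from Subtype.ext hevY]
      simp [χ]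
  have hGψ : ∀ ψ : A'' →ₐ[k] k', (ψ.comp ev') (C GB) * ψ ⟨G⁻¹, hGA⟩ = 1 := fun ψ => by
    show ψ (ev' (C GB)) * _ = 1
    rw [← map_mul, show ev' (C GB) * ⟨G⁻¹, hGA⟩ = 1 from Subtype.ext (by
      show ev (C GB) * G⁻¹ = 1
      rw [hevG, mul_inv_cancel₀ hG0]), map_one]
  let Φ : (A'' →ₐ[k] k') → Σ φ : ↥B →ₐ[k] k', Xφ φ := fun ψ => ⟨φof ψ, (ψ ⟨x, hxA⟩, ψ ⟨y, hyA⟩), by
    refine ⟨?_, ?_⟩
    · intro h0
      have h1 := hGψ ψ
      rw [hψev] at h1
      rw [show χ (φof ψ) (ψ ⟨x, hxA⟩) (ψ ⟨y, hyA⟩) (C GB) = (GB.map (φof ψ).toRingHom).eval (ψ ⟨x, hxA⟩) by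
        show (((C GB : (↥B)[X][X]).map _).map _).eval _ = _
        rw [map_C, coe_mapRingHom, map_C, eval_C, coe_evalRingHom], h0, zero_mul] at h1
      exact zero_ne_one h1
    · have h1 : ψ (ev' FB) = 0 := by
        rw [show ev' FB = 0 from Subtype.ext (by show (ι FB).eval₂ _ _ = 0; rw [hιF]; exact hroot), map_zero]
      rw [show ψ (ev' FB) = (ψ.comp ev') FB from rfl, hψev] at h1
      exact h1⟩
  have hΦ : Function.Bijective Φ := by
    refine ⟨fun ψ ψ' h => ?_, ?_⟩
    · have h1 : φof ψ = φof ψ' := congrArg Sigma.fst h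
      have h2 : ψ ⟨x, hxA⟩ = ψ' ⟨x, hxA⟩ :=
        congrArg (fun p : Σ φ : ↥B →ₐ[k] k', Xφ φ => p.2.1.1) h
      have h3 : ψ ⟨y, hyA⟩ = ψ' ⟨y, hyA⟩ :=
        congrArg (fun p : Σ φ : ↥B →ₐ[k] k', Xφ φ => p.2.1.2) h
      have hev : ψ.comp ev' = ψ'.comp ev' := by rw [hψev, hψev, h1, h2, h3]
      refine AlgHom.adjoin_ext fun z hz => ?_
      rcases Finset.mem_union.1 hz with hz | hz
      · obtain ⟨w, hw, rfl⟩ := Finset.mem_image.1 hz
        exact DFunLike.congr_fun h1 ⟨w, Algebra.subset_adjoin hw⟩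
      · simp only [Finset.mem_insert, Finset.mem_singleton] at hz
        rcases hz with rfl | rfl | rfl
        · exact h2
        · exact h3
        · have e1 := hGψ ψ
          have e2 := hGψ ψ'
          rw [← hev] at e2
          exact mul_left_cancel₀ (left_ne_zero_of_mul_eq_one e1) (e1.trans e2.symm)
    · rintro ⟨φ, ⟨c, d⟩, hGc, hFd⟩
      obtain ⟨ψ, hψ⟩ := exists_extend ev (χ φ c d) (fun p hp => by
        obtain ⟨w, rfl⟩ := hevker p hp
        rw [map_mul, show (χ φ c d) FB = 0 from hFd, zero_mul]) (C GB) (by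
          show (((C GB : (↥B)[X][X]).map _).map _).eval d ≠ 0
          rw [map_C, coe_mapRingHom, map_C, eval_C]
          exact hGc) (S'' : Set K) (fun z hz => by
        rcases Finset.mem_union.1 hz with hz | hz
        · obtain ⟨w, hw, rfl⟩ := Finset.mem_image.1 hz
          exact ⟨0, C (C ⟨w, Algebra.subset_adjoin hw⟩), by rw [pow_zero, mul_one, hevC]⟩
        · simp only [Finset.mem_insert, Finset.mem_singleton] at hz
          rcases hz with rfl | rfl | rfl
          · exact ⟨0, C X, by rw [pow_zero, mul_one, hevX]⟩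
          · exact ⟨0, X, by rw [pow_zero, mul_one, hevY]⟩
          · exact ⟨1, 1, by rw [pow_one, hevG, map_one, inv_mul_cancel₀ hG0]⟩)
      have hev : ∀ p, ψ (ev' p) = χ φ c d p := fun p => by
        rw [hψ (ev' p) 0 p (by rw [pow_zero, mul_one]; rfl), pow_zero, div_one]
      refine ⟨ψ, ?_⟩
      have hc : ψ ⟨x, hxA⟩ = c := by
        rw [show (⟨x, hxA⟩ : A'') = ev' (C X) from Subtype.ext hevX.symm, hev]; simp [χ]
      have hd : ψ ⟨y, hyA⟩ = d := by
        rw [show (⟨y, hyA⟩ : A'') = ev' X from Subtype.ext hevY.symm, hev]; simp [χ]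
      have hφ : φof ψ = φ := AlgHom.ext fun z => by
        show ψ ⟨algebraMap L K z, _⟩ = φ z
        rw [show (⟨algebraMap L K z, hBA z.2⟩ : A'') = ev' (C (C z)) from Subtype.ext (hevC z).symm, hev]
        simp [χ]
      subst hφ
      exact Sigma.ext rfl (heq_of_eq (Subtype.ext (Prod.ext hc hd)))
  haveI : Fintype (↥B →ₐ[k] k') := Fintype.ofFinite _
  have hcount : (Nat.card (A'' →ₐ[k] k') : ℝ) = ∑ φ : ↥B →ₐ[k] k', (Nat.card (Xφ φ) : ℝ) := by
    rw [Nat.card_congr (Equiv.ofBijective Φ hΦ), Nat.card_sigma, Nat.cast_sum]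
  have hB := hbound k'
  set nB : ℝ := (Nat.card (↥B →ₐ[k] k') : ℝ) with hnB
  have hnB' : (Finset.univ : Finset (↥B →ₐ[k] k')).card = Nat.card (↥B →ₐ[k] k') := by
    rw [Finset.card_univ, Nat.card_eq_fintype_card]
  have hmain : |(Nat.card (A'' →ₐ[k] k') : ℝ) - nB * q| ≤ nB * (C₁ * Real.sqrt q) := by
    rw [hcount]
    have : nB * q = ∑ φ : ↥B →ₐ[k] k', q := by rw [Finset.sum_const, hnB', nsmul_eq_mul]
    rw [this, ← Finset.sum_sub_distrib]
    refine (Finset.abs_sum_le_sum_abs _ _).trans ((Finset.sum_le_sum fun φ _ => hfib φ).trans (le_of_eq ?_))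
    rw [Finset.sum_const, hnB', nsmul_eq_mul]
  have hU : ((S'' : Set K) ∪ S) = ((S : Set K) ∪ S'') := Set.union_comm _ _
  have h3 := hc₃ k'
  have h4 := hc₄ k'
  rw [hU] at h4
  -- powers of `q`
  set P := q ^ ((r : ℝ) + 1 / 2) with hPdef
  have hP0 : 0 ≤ P := Real.rpow_nonneg hq0.le _
  have hsq : Real.sqrt q = q ^ (1 / 2 : ℝ) := Real.sqrt_eq_rpow q
  have hqr : q ^ (r : ℝ) * Real.sqrt q = P := by rw [hsq, ← Real.rpow_add hq0]
  have hqr1 : q ^ (r : ℝ) * q = q ^ (((r + 1 : ℕ)) : ℝ) := by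
    push_cast
    rw [Real.rpow_add hq0, Real.rpow_one]
  have hqr2 : q ^ ((r : ℝ) - 1 / 2) * q = P := by
    rw [hPdef, show (r : ℝ) + 1 / 2 = ((r : ℝ) - 1 / 2) + 1 by ring, Real.rpow_add hq0, Real.rpow_one]
  have hpexp : q ^ (((r + 1 : ℕ) : ℝ) - 1) ≤ P := Real.rpow_le_rpow_of_exponent_le hq1 (by push_cast; linarith)
  have hexp : q ^ (((r + 1 : ℕ) : ℝ) - 1 / 2) = P := by rw [hPdef]; congr 1; push_cast; ring
  have hnB_le : nB ≤ (1 + C₂) * q ^ (r : ℝ) := by
    have h1 := (abs_le.1 hB).2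
    have h2 : q ^ ((r : ℝ) - 1 / 2) ≤ q ^ (r : ℝ) := Real.rpow_le_rpow_of_exponent_le hq1 (by linarith)
    have h5 := mul_le_mul_of_nonneg_left h2 hC₂
    linarith
  have hC₁0 : 0 ≤ C₁ := by positivity
  have e1 : nB * (C₁ * Real.sqrt q) ≤ C₁ * (1 + C₂) * P := by
    rw [← hqr]
    calc nB * (C₁ * Real.sqrt q) ≤ (1 + C₂) * q ^ (r : ℝ) * (C₁ * Real.sqrt q) :=
          mul_le_mul_of_nonneg_right hnB_le (by positivity)
      _ = _ := by ring
  have e2 : |nB * q - q ^ (((r + 1 : ℕ)) : ℝ)| ≤ C₂ * P := by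
    rw [← hqr1, ← sub_mul, abs_mul, abs_of_pos hq0, ← hqr2, ← mul_assoc]
    exact mul_le_mul_of_nonneg_right hB hq0.le
  rw [hexp]
  have e3 := h3.trans (mul_le_mul_of_nonneg_left hpexp hC₃)
  have e4 := h4.trans (mul_le_mul_of_nonneg_left hpexp hC₄)
  rw [abs_le] at hmain e2 e3 e4 ⊢
  constructor <;> linarith

/-- The estimate. -/
theorem estimate : ∀ r, Estimate k r
  | 0 => estimate_zero
  | r + 1 => estimate_succ (estimate r)

end Groth.Agent.H9PB.LangWeil
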